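import Mathlib.RingTheory.Smooth.IntegralClosure
import Mathlib.RingTheory.Smooth.NoetherianDescent
import Mathlib.RingTheory.Smooth.Flat
import Mathlib.RingTheory.Etale.Field
import Mathlib.RingTheory.Artinian.Module
import Mathlib.RingTheory.Flat.FaithfullyFlat.Algebra
import Mathlib.RingTheory.TensorProduct.Pi
import Mathlib.RingTheory.Unramified.Field

/-!
Reducedness and normality under étale algebras, and their descent.
-/

universe u

open TensorProduct

namespace Groth.Agent.Unr55

theorem isReduced_of_etale_field {K T : Type u} [Field K] [CommRing T] [Algebra K T]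
    [Algebra.Etale K T] : IsReduced T :=
  Algebra.FormallyUnramified.isReduced_of_field K T

theorem isReduced_of_etale_noetherian {A T : Type u} [CommRing A] [IsNoetherianRing A]
    [IsReduced A] [CommRing T] [Algebra A T] [Algebra.Etale A T] : IsReduced T := by
  classical
  have hfin : (minimalPrimes A).Finite := minimalPrimes.finite_of_isNoetherianRing A
  have := hfin.to_subtype
  have hprime : ∀ p : minimalPrimes A, p.1.IsPrime := fun p ↦ p.2.1.1
  let π : A →ₐ[A] ∀ p : minimalPrimes A, p.1.ResidueField := AlgHom.pi fun p ↦ Algebra.ofId _ _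
  have hπ : Function.Injective π := by
    rw [injective_iff_map_eq_zero]
    intro a ha
    refine (mem_nilradical.mp ?_).eq_zero
    rw [nilradical, ← Ideal.sInf_minimalPrimes]
    refine Submodule.mem_sInf.mpr fun p hp ↦ ?_
    have := hprime ⟨p, hp⟩
    rw [← Ideal.ker_algebraMap_residueField p, RingHom.mem_ker]
    exact congr_fun ha ⟨p, hp⟩
  have : Fintype (minimalPrimes A) := Fintype.ofFinite _
  have : Module.Flat A T := inferInstance
  let Φ : T →+* ∀ p : minimalPrimes A, T ⊗[A] p.1.ResidueField :=
    RingHom.pi fun p ↦ Algebra.TensorProduct.includeLeftRingHom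
  have hΦ : Function.Injective Φ := by
    rw [injective_iff_map_eq_zero]
    intro x hx
    have h1 : Algebra.TensorProduct.piRight A A T (fun p : minimalPrimes A ↦ p.1.ResidueField)
        (x ⊗ₜ π 1) = 0 := by
      rw [Algebra.TensorProduct.piRight_tmul]
      ext p
      simpa [π, Φ, RingHom.pi_apply] using congr_fun hx p
    rw [map_eq_zero_iff _ (AlgEquiv.injective _)] at h1
    have h2 : π.toLinearMap.lTensor T (x ⊗ₜ 1) = 0 := h1
    rw [map_eq_zero_iff _ (Module.Flat.lTensor_preserves_injective_linearMap (M := T)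
      π.toLinearMap hπ)] at h2
    simpa using congr(TensorProduct.rid A T $h2)
  have (p : minimalPrimes A) : IsReduced (T ⊗[A] p.1.ResidueField) :=
    have := isReduced_of_etale_field (K := p.1.ResidueField) (T := p.1.ResidueField ⊗[A] T)
    isReduced_of_injective (Algebra.TensorProduct.comm A T p.1.ResidueField)
      (AlgEquiv.injective _)
  exact isReduced_of_injective Φ hΦ

/-- An étale algebra over a reduced ring is reduced. -/
theorem isReduced_of_etale {A T : Type u} [CommRing A] [IsReduced A] [CommRing T] [Algebra A T]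
    [Algebra.Etale A T] : IsReduced T := by
  classical
  obtain ⟨A₀, B₀, _, _, hA₀, hB₀, ⟨e⟩⟩ := Algebra.Etale.exists_subalgebra_fg ℤ A T
  suffices IsReduced (A ⊗[A₀] B₀) from isReduced_of_injective e e.injective
  refine ⟨fun x hx ↦ ?_⟩
  obtain ⟨s, hs⟩ := TensorProduct.exists_finset x
  let A₁ : Subalgebra A₀ A := Algebra.adjoin A₀ ((s.image Prod.fst : Finset A) : Set A)
  have : Algebra.FiniteType A₀ A₁ := (Subalgebra.fg_iff_finiteType A₁).mp
    ⟨s.image Prod.fst, rfl⟩
  have : Algebra.FiniteType ℤ A₀ := (Subalgebra.fg_iff_finiteType A₀).mp hA₀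
  have : IsNoetherianRing A₀ := Algebra.FiniteType.isNoetherianRing ℤ A₀
  have : IsNoetherianRing A₁ := Algebra.FiniteType.isNoetherianRing A₀ A₁
  have : IsReduced A₁ := isReduced_of_injective A₁.val Subtype.val_injective
  have h₁ := isReduced_of_etale_noetherian (A := A₁) (T := A₁ ⊗[A₀] B₀)
  let ι : A₁ ⊗[A₀] B₀ →ₐ[A₀] A ⊗[A₀] B₀ := Algebra.TensorProduct.map A₁.val (.id _ _)
  have hι : Function.Injective ι :=
    Module.Flat.rTensor_preserves_injective_linearMap (M := B₀) A₁.val.toLinearMap
      Subtype.val_injective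
  obtain ⟨y, rfl⟩ : x ∈ Set.range ι := by
    rw [hs]
    refine ι.range.sum_mem fun i hi ↦ ?_
    exact ⟨⟨i.1, Algebra.subset_adjoin (Finset.mem_image_of_mem _ hi)⟩ ⊗ₜ i.2, rfl⟩
  rw [(IsNilpotent.map_iff hι).mp hx |>.eq_zero, map_zero]

/-- The local rings of an étale algebra over a normal domain are normal domains. -/
theorem isNormalDomain_localization_of_etale {A T : Type u} [CommRing A] [IsDomain A]
    [IsIntegrallyClosed A] [CommRing T] [Algebra A T] [Algebra.Etale A T]
    (q : Ideal T) [q.IsPrime] :
    IsDomain (Localization.AtPrime q) ∧ IsIntegrallyClosed (Localization.AtPrime q) := by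
  classical
  have : Nontrivial T := ⟨⟨0, 1, fun h ↦ q.one_notMem (h ▸ q.zero_mem)⟩⟩
  let K := FractionRing A
  let L := T ⊗[A] K
  let e' : L ≃+* K ⊗[A] T := (Algebra.TensorProduct.comm A T K).toRingEquiv
  have : IsArtinianRing L :=
    have : Module.Finite K (K ⊗[A] T) := Algebra.FormallyUnramified.finite_of_free K _
    have : IsArtinianRing (K ⊗[A] T) := isArtinian_of_tower K inferInstance
    RingEquiv.isArtinianRing e'.symm
  have : IsReduced L :=
    have := isReduced_of_etale_field (K := K) (T := K ⊗[A] T)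
    isReduced_of_injective e' e'.injective
  have hinj : Function.Injective (algebraMap T L) := by
    have h1 := Module.Flat.lTensor_preserves_injective_linearMap (M := T)
      (Algebra.linearMap A K) (IsFractionRing.injective A K)
    convert h1.comp (TensorProduct.rid A T).symm.injective using 1
    ext t
    simp [L]
    rfl
  have hint : ∀ z : L, IsIntegral T z → ∃ t, algebraMap T L t = z := by
    intro z hz
    obtain ⟨w, hw⟩ := (TensorProduct.toIntegralClosure_bijective_of_smooth (R := A) (S := T)
      (B := K)).2 ⟨z, hz⟩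
    obtain rfl : (Algebra.TensorProduct.map (.id _ _) (integralClosure A K).val) w = z :=
      congrArg Subtype.val hw
    clear hw hz
    induction w with
    | zero => exact ⟨0, by simp⟩
    | add x y hx hy =>
      obtain ⟨a, ha⟩ := hx
      obtain ⟨b, hb⟩ := hy
      exact ⟨a + b, by rw [map_add, map_add, ha, hb]⟩
    | tmul t k =>
      obtain ⟨a, ha⟩ := IsIntegrallyClosed.isIntegral_iff.mp k.2
      refine ⟨a • t, ?_⟩
      rw [Algebra.TensorProduct.map_tmul]
      change (a • t) ⊗ₜ[A] (1 : K) = t ⊗ₜ[A] (k : K)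
      rw [← ha, Algebra.algebraMap_eq_smul_one, TensorProduct.tmul_smul, TensorProduct.smul_tmul']
  let eqv := IsArtinianRing.equivPi L
  let δ : MaximalSpectrum L → L := fun M ↦ eqv.symm (Pi.single M 1)
  have hδ : ∀ M, ∃ t : T, algebraMap T L t = δ M := fun M ↦ by
    refine hint _ ⟨Polynomial.X ^ 2 - Polynomial.X, Polynomial.monic_X_pow_sub (by rw [Polynomial.degree_X]; exact_mod_cast Nat.one_lt_two), ?_⟩
    have : δ M * δ M = δ M := by rw [← map_mul, ← Pi.single_mul, one_mul]
    simp [sq, this]
  choose ε hε using hδ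
  have : Fintype (MaximalSpectrum L) := Fintype.ofFinite _
  obtain ⟨M, hM⟩ : ∃ M, ε M ∉ q := by
    by_contra! h
    refine q.one_notMem ?_
    have : ∑ M, ε M = 1 := hinj (by
      rw [map_sum, map_one, Finset.sum_congr rfl fun M _ ↦ hε M, ← map_sum]
      refine (congrArg eqv.symm ?_).trans (map_one _)
      exact Finset.univ_sum_single (1 : ∀ M : MaximalSpectrum L, L ⧸ M.asIdeal))
    exact this ▸ q.sum_mem fun M _ ↦ h M
  have hone : Ideal.Quotient.mk M.asIdeal (δ M) = 1 := by
    have := congr_fun (AlgEquiv.apply_symm_apply eqv (Pi.single M 1)) M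
    simpa [eqv, δ] using this
  have hkill : ∀ l : L, (Ideal.Quotient.mk M.asIdeal l = 0 ↔ l * δ M = 0) := fun l ↦ by
    constructor
    · intro hl
      refine eqv.injective ?_
      rw [map_mul, map_zero, AlgEquiv.apply_symm_apply]
      ext N
      rcases eq_or_ne N M with rfl | hN
      · simpa [eqv] using hl
      · simp [hN]
    · intro hl
      have := congrArg (Ideal.Quotient.mk M.asIdeal) hl
      rwa [map_mul, hone, mul_one, map_zero] at this
  let φ : T →+* L ⧸ M.asIdeal := (Ideal.Quotient.mk _).comp (algebraMap T L)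
  let := Ideal.Quotient.field M.asIdeal
  have hφ0 : ∀ t, φ t = 0 ↔ t * ε M = 0 := fun t ↦ by
    rw [← hinj.eq_iff, map_mul, hε, map_zero]
    exact hkill _
  have hunit : ∀ s : q.primeCompl, IsUnit (φ s) := fun s ↦ by
    refine isUnit_iff_ne_zero.mpr fun h0 ↦ ?_
    have := (hφ0 _).mp h0 ▸ q.zero_mem
    exact (‹q.IsPrime›.mem_or_mem this).elim s.2 hM
  let ψ : Localization.AtPrime q →+* L ⧸ M.asIdeal := IsLocalization.lift hunit
  have hψ : Function.Injective ψ := by
    rw [injective_iff_map_eq_zero]
    intro x hx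
    obtain ⟨t, s, rfl⟩ := IsLocalization.exists_mk'_eq q.primeCompl x
    rw [IsLocalization.lift_mk'_spec, mul_zero, hφ0] at hx
    exact (IsLocalization.mk'_eq_zero_iff _ _).mpr ⟨⟨ε M, hM⟩, by rw [mul_comm]; exact hx⟩
  have : IsDomain (Localization.AtPrime q) := hψ.isDomain
  refine ⟨this, (isIntegrallyClosed_iff (FractionRing (Localization.AtPrime q))).mpr fun {x} hx ↦ ?_⟩
  let : Algebra (Localization.AtPrime q) (L ⧸ M.asIdeal) := ψ.toAlgebra
  have : IsScalarTower T (Localization.AtPrime q) (L ⧸ M.asIdeal) :=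
    .of_algebraMap_eq fun t ↦ (IsLocalization.lift_eq hunit t).symm
  let θ : FractionRing (Localization.AtPrime q) →ₐ[Localization.AtPrime q] L ⧸ M.asIdeal :=
    IsFractionRing.liftAlgHom (R := Localization.AtPrime q) (g := Algebra.ofId _ _) hψ
  obtain ⟨⟨m, hm⟩, hmx⟩ :=
    IsIntegral.exists_multiple_integral_of_isLocalization q.primeCompl (θ x) (hx.map θ)
  obtain ⟨P, hP, hP'⟩ := hmx
  obtain ⟨l, hl⟩ := Ideal.Quotient.mk_surjective (I := M.asIdeal) (m • θ x)
  have hlint : IsIntegral T (l * δ M) := by
    refine ⟨P * Polynomial.X, hP.mul Polynomial.monic_X, ?_⟩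
    rw [Polynomial.eval₂_mul, Polynomial.eval₂_X, ← mul_assoc, mul_comm _ l, mul_assoc]
    have h0 : Ideal.Quotient.mk M.asIdeal (Polynomial.eval₂ (algebraMap T L) (l * δ M) P) = 0 := by
      rw [Polynomial.hom_eval₂, map_mul, hone, mul_one, hl]
      exact hP'
    rw [(hkill _).mp h0, mul_zero]
  obtain ⟨t, ht⟩ := hint _ hlint
  refine ⟨IsLocalization.mk' _ t ⟨m, hm⟩, θ.toRingHom.injective ?_⟩
  change θ (algebraMap _ _ _) = θ x
  rw [AlgHom.commutes]
  change ψ _ = θ x
  rw [IsLocalization.lift_mk'_spec]
  change Ideal.Quotient.mk M.asIdeal (algebraMap T L t) = φ m * θ x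
  rw [ht, map_mul, hone, mul_one, hl, Algebra.smul_def]
  rfl

/-- Reducedness descends along faithfully flat algebras. -/
theorem isReduced_of_faithfullyFlat (A B : Type u) [CommRing A] [CommRing B] [Algebra A B]
    [Module.FaithfullyFlat A B] [IsReduced B] : IsReduced A :=
  isReduced_of_injective (algebraMap A B) (FaithfulSMul.algebraMap_injective A B)

/-- Normality descends along faithfully flat algebras. -/
theorem isNormalDomain_of_faithfullyFlat (A B : Type u) [CommRing A] [CommRing B] [Algebra A B]
    [Module.FaithfullyFlat A B] [IsDomain B] [IsIntegrallyClosed B] :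
    IsDomain A ∧ IsIntegrallyClosed A := by
  have hinj : Function.Injective (algebraMap A B) := FaithfulSMul.algebraMap_injective A B
  have : IsDomain A := hinj.isDomain
  refine ⟨this, (isIntegrallyClosed_iff (FractionRing A)).mpr fun {x} hx ↦ ?_⟩
  obtain ⟨a, s, hs, rfl⟩ := IsFractionRing.div_surjective A x
  let θ : FractionRing A →ₐ[A] FractionRing B :=
    IsFractionRing.liftAlgHom (g := Algebra.ofId A (FractionRing B))
      ((IsFractionRing.injective B (FractionRing B)).comp hinj)
  obtain ⟨b, hb⟩ := IsIntegrallyClosed.isIntegral_iff.mp ((hx.map θ).tower_top (A := B))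
  rw [map_div₀, θ.commutes, θ.commutes, IsScalarTower.algebraMap_apply A B (FractionRing B) a,
    IsScalarTower.algebraMap_apply A B (FractionRing B) s, eq_div_iff, ← map_mul,
    (IsFractionRing.injective B (FractionRing B)).eq_iff] at hb
  swap
  · exact (map_ne_zero_iff _ (IsFractionRing.injective B _)).mpr
      ((map_ne_zero_iff _ hinj).mpr (nonZeroDivisors.ne_zero hs))
  have hmem : a ∈ ((Ideal.span {s}).map (algebraMap A B)).comap (algebraMap A B) := by
    rw [Ideal.map_span, Set.image_singleton, Ideal.mem_comap, ← hb]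
    exact Ideal.mul_mem_left _ b (Ideal.mem_span_singleton_self _)
  rw [Ideal.comap_map_eq_self_of_faithfullyFlat, Ideal.mem_span_singleton] at hmem
  obtain ⟨c, rfl⟩ := hmem
  refine ⟨c, ?_⟩
  rw [map_mul, mul_div_cancel_left₀]
  exact (map_ne_zero_iff _ (IsFractionRing.injective A _)).mpr (nonZeroDivisors.ne_zero hs)

end Groth.Agent.Unr55
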