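import Mathlib.AlgebraicGeometry.Morphisms.FlatDescent
import Mathlib.AlgebraicGeometry.Morphisms.LocalFlatDescent
import Mathlib.AlgebraicGeometry.Morphisms.QuasiFinite
import Mathlib.AlgebraicGeometry.Morphisms.Proper
import Mathlib.AlgebraicGeometry.Morphisms.Finite
import Mathlib.AlgebraicGeometry.Morphisms.Integral
import Mathlib.AlgebraicGeometry.ZariskisMainTheorem
import Mathlib.RingTheory.Finiteness.Descent

/-!
More properties of morphisms descending along fpqc covers.
-/

universe u

open CategoryTheory Limits MorphismProperty TensorProduct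
open AlgebraicGeometry

namespace Groth.Agent.Unr55

abbrev fpqc : MorphismProperty Scheme.{u} := @Surjective ⊓ @Flat ⊓ @QuasiCompact

set_option backward.isDefEq.respectTransparency.types false in
theorem localIso_le : (@IsLocalIso ⊓ @Surjective : MorphismProperty Scheme.{u}) ≤
    (@Surjective ⊓ @Flat : MorphismProperty Scheme.{u}) := by
  rw [inf_comm]
  exact inf_le_inf le_rfl (IsLocalIso.le_of_isZariskiLocalAtSource _)

set_option backward.isDefEq.respectTransparency.types false in
theorem quasiCompact : DescendsAlong @QuasiCompact fpqc.{u} := by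
  refine IsZariskiLocalAtTarget.descendsAlong_inf_quasiCompact _ _ localIso_le ?_
  intro R S Y φ g ⟨hs, _⟩ hfst
  have : QuasiCompact (pullback.fst (Spec.map φ) g) := hfst
  rw [quasiCompact_iff_compactSpace]
  have : CompactSpace ↥(pullback (Spec.map φ) g) :=
    QuasiCompact.compactSpace_of_compactSpace (pullback.fst (Spec.map φ) g)
  have : Surjective (pullback.snd (Spec.map φ) g) :=
    MorphismProperty.pullback_snd (P := @Surjective) _ _ hs
  exact (pullback.snd (Spec.map φ) g).surjective.compactSpace
    (pullback.snd (Spec.map φ) g).continuous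

set_option backward.isDefEq.respectTransparency.types false in
theorem quasiSeparated : DescendsAlong @QuasiSeparated fpqc.{u} := by
  have := quasiCompact.{u}
  rw [quasiSeparated_eq_diagonal_is_quasiCompact]
  infer_instance

set_option backward.isDefEq.respectTransparency.types false in
theorem isSeparated : DescendsAlong @IsSeparated fpqc.{u} := by
  refine DescendsAlong.mk' fun {X Y Z f g} _ hf hfst ↦ ?_
  have h1 : (diagonal @UniversallyClosed) (pullback.fst f g) := by
    have : IsSeparated (pullback.fst f g) := hfst
    exact (inferInstance : UniversallyClosed (pullback.diagonal (pullback.fst f g)))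
  have h2 : UniversallyClosed (pullback.diagonal g) :=
    MorphismProperty.of_pullback_fst_of_descendsAlong (P := diagonal @UniversallyClosed) hf h1
  exact ⟨IsClosedImmersion.of_isPreimmersion _ (pullback.diagonal g).isClosedMap.isClosed_range⟩

set_option backward.isDefEq.respectTransparency.types false in
theorem isAffineHom : DescendsAlong @IsAffineHom fpqc.{u} := by
  refine IsZariskiLocalAtTarget.descendsAlong_inf_quasiCompact _ _ localIso_le ?_
  intro R S Y φ g ⟨hs, hfl⟩ hfst
  have : IsAffineHom (pullback.fst (Spec.map φ) g) := hfst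
  have hf : fpqc (Spec.map φ) := ⟨⟨hs, hfl⟩, inferInstance⟩
  have := quasiCompact.{u}
  have := isSeparated.{u}
  have : QuasiCompact g := of_pullback_fst_of_descendsAlong
    (P := @QuasiCompact) (Q := fpqc.{u}) hf inferInstance
  have : IsSeparated g := of_pullback_fst_of_descendsAlong
    (P := @IsSeparated) (Q := fpqc.{u}) hf inferInstance
  have : CompactSpace Y := (quasiCompact_iff_compactSpace g).mp ‹_›
  have : QuasiSeparatedSpace Y := (quasiSeparated_iff_quasiSeparatedSpace g).mp inferInstance
  have : IsAffine (pullback (Spec.map φ) g) := isAffine_of_isAffineHom (pullback.fst (Spec.map φ) g)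
  suffices IsAffine Y from inferInstance
  set p := pullback.snd (Spec.map φ) g
  set q := pullback.fst (Spec.map φ) g
  have H : IsPullback p q g (Spec.map φ) := (IsPullback.of_hasPullback _ _).flip
  have hiso := isIso_pushoutSection_of_isQuasiSeparated_of_flat_right H
    (US := ⊤) (UT := ⊤) (UX := ⊤) (UY := ⊤) (by simp) (by simp) (by simp)
    (isAffineOpen_top _) (isAffineOpen_top _) isCompact_univ isQuasiSeparated_univ
  have hpush : IsPushout g.appTop (Spec.map φ).appTop p.appTop q.appTop := by
    have := (isIso_pushoutSection_iff ..).mp hiso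
    simp only [Scheme.Hom.appTop, Scheme.Hom.app_eq_appLE]
    exact this
  have hspec := isPullback_SpecMap_of_isPushout _ _ _ _ hpush
  have hout : IsPullback p q (Y.toSpecΓ ≫ Spec.map g.appTop) ((Spec S).toSpecΓ ≫
      Spec.map (Spec.map φ).appTop) := by
    rw [← Scheme.toSpecΓ_naturality, ← Scheme.toSpecΓ_naturality]
    exact IsPullback.of_iso H (Iso.refl _) (Iso.refl _) (Iso.refl _)
      (asIso (Spec R).toSpecΓ) (by simp) (by simp) (by simp) (by simp)
  have hsq : IsPullback (pullback (Spec.map φ) g).toSpecΓ p (Spec.map p.appTop) Y.toSpecΓ := by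
    refine (IsPullback.of_bot ?_ (Scheme.toSpecΓ_naturality p) hspec).flip
    rw [← Scheme.toSpecΓ_naturality q]
    refine IsPullback.of_iso hout (Iso.refl _) (Iso.refl _) (asIso (Spec S).toSpecΓ) (Iso.refl _)
      ?_ ?_ ?_ ?_ <;> simp
  have hf' : fpqc (Spec.map p.appTop) := by
    have h2 : fpqc (Spec.map (Spec.map φ).appTop) := by
      have : (Spec S).toSpecΓ ≫ Spec.map (Spec.map φ).appTop = Spec.map φ ≫ (Spec R).toSpecΓ :=
        (Scheme.toSpecΓ_naturality _).symm
      rwa [← fpqc.cancel_left_of_respectsIso (Spec S).toSpecΓ, this,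
        fpqc.cancel_right_of_respectsIso]
    exact MorphismProperty.of_isPullback hspec.flip h2
  have : IsIso Y.toSpecΓ := MorphismProperty.of_isPullback_of_descendsAlong
    (P := isomorphisms Scheme) hsq hf' (inferInstanceAs (IsIso _))
  exact .of_isIso Y.toSpecΓ

set_option backward.isDefEq.respectTransparency.types false in
theorem isIntegralHom : DescendsAlong @IsIntegralHom fpqc.{u} := by
  have := isAffineHom.{u}
  have e : (@IsIntegralHom : MorphismProperty Scheme.{u}) =
      (@UniversallyClosed ⊓ @IsAffineHom : MorphismProperty Scheme.{u}) := by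
    ext X Y f
    exact IsIntegralHom.iff_universallyClosed_and_isAffineHom
  rw [e]
  infer_instance

set_option backward.isDefEq.respectTransparency.types false in
theorem isFinite : DescendsAlong @IsFinite fpqc.{u} := by
  have := isIntegralHom.{u}
  have e : (@IsFinite : MorphismProperty Scheme.{u}) =
      (@IsIntegralHom ⊓ @LocallyOfFiniteType : MorphismProperty Scheme.{u}) := by
    ext X Y f
    exact IsFinite.iff_isIntegralHom_and_locallyOfFiniteType f
  rw [e]
  infer_instance

set_option backward.isDefEq.respectTransparency.types false in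
theorem isProper : DescendsAlong @IsProper fpqc.{u} := by
  have := isSeparated.{u}
  have e : (@IsProper : MorphismProperty Scheme.{u}) =
      (@IsSeparated ⊓ @UniversallyClosed ⊓ @LocallyOfFiniteType : MorphismProperty Scheme.{u}) := by
    ext X Y f
    exact ⟨fun h ↦ ⟨⟨inferInstance, inferInstance⟩, inferInstance⟩,
      fun ⟨⟨_, _⟩, _⟩ ↦ { }⟩
  rw [e]
  infer_instance

set_option backward.isDefEq.respectTransparency.types false in
theorem isClosedImmersion : DescendsAlong @IsClosedImmersion fpqc.{u} := by
  have := isProper.{u}
  have e : (monomorphisms Scheme.{u}) = diagonal (isomorphisms Scheme.{u}) := by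
    ext X Y f
    exact (pullback.isIso_diagonal_iff f).symm
  rw [IsClosedImmersion.eq_proper_inf_monomorphisms, e]
  infer_instance

set_option backward.isDefEq.respectTransparency.types false in
theorem quasiFinite_codescendsAlong :
    RingHom.CodescendsAlong (@RingHom.QuasiFinite.{u, u}) RingHom.FaithfullyFlat := by
  refine .mk _ RingHom.QuasiFinite.respectsIso fun R S T _ _ _ _ _ h hT ↦ ?_
  rw [RingHom.faithfullyFlat_algebraMap_iff] at h
  rw [RingHom.quasiFinite_algebraMap] at hT ⊢
  refine ⟨fun p hp ↦ ?_⟩
  obtain ⟨⟨q, hq⟩, hqp⟩ := PrimeSpectrum.comap_surjective_of_faithfullyFlat (B := S) ⟨p, hp⟩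
  have : q.LiesOver p := ⟨congr(PrimeSpectrum.asIdeal $hqp).symm⟩
  let := Localization.AtPrime.algebraOfLiesOver p q
  have := Algebra.QuasiFinite.finite_fiber (R := S) (S := S ⊗[R] T) q
  have h1 : Module.Finite q.ResidueField (q.ResidueField ⊗[R] T) :=
    Module.Finite.equiv (Algebra.TensorProduct.cancelBaseChange R S q.ResidueField
      q.ResidueField T).toLinearEquiv
  have h2 : Module.Finite q.ResidueField (q.ResidueField ⊗[p.ResidueField] p.Fiber T) :=
    Module.Finite.equiv (Algebra.TensorProduct.cancelBaseChange R p.ResidueField q.ResidueField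
      q.ResidueField T).toLinearEquiv.symm
  exact Module.Finite.of_finite_tensorProduct_of_faithfullyFlat q.ResidueField

set_option backward.isDefEq.respectTransparency.types false in
theorem locallyQuasiFinite : DescendsAlong @LocallyQuasiFinite fpqc.{u} :=
  HasRingHomProperty.descendsAlong_flat quasiFinite_codescendsAlong

end Groth.Agent.Unr55
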