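import Mathlib.AlgebraicGeometry.Morphisms.Smooth
import Mathlib.AlgebraicGeometry.Morphisms.Etale
import Mathlib.AlgebraicGeometry.Morphisms.FormallyUnramified
import Mathlib.RingTheory.Etale.Locus
import Mathlib.RingTheory.Smooth.Fiber
import Mathlib.RingTheory.Flat.Localization

/-!
Properties at a point: stalk maps versus localisations of an affine chart.
-/

universe u

open CategoryTheory Limits AlgebraicGeometry

namespace Groth.Agent.Unr55

variable {P : ∀ {R S : Type u} [CommRing R] [CommRing S], (R →+* S) → Prop}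

theorem stalkMap_congr_prop {X Y : Scheme.{u}} {f g : X ⟶ Y} (h : f = g) (x : X) :
    P (f.stalkMap x).hom ↔ P (g.stalkMap x).hom := by
  subst h; rfl

set_option backward.isDefEq.respectTransparency.types false in
/-- A property of stalk maps is read on any pair of open charts. -/
theorem stalkMap_iff_of_square (hP : RingHom.RespectsIso P) {X Y X' Y' : Scheme.{u}} (f : X ⟶ Y)
    (h : X' ⟶ Y') (i : X' ⟶ X) (k : Y' ⟶ Y) [IsOpenImmersion i] [IsOpenImmersion k]
    (w : i ≫ f = h ≫ k) (x : X') :
    P (f.stalkMap (i x)).hom ↔ P (h.stalkMap x).hom := by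
  have h1 := stalkMap_congr_prop (P := P) w x
  rw [Scheme.Hom.stalkMap_comp, Scheme.Hom.stalkMap_comp] at h1
  exact ((hP.cancel_right_isIso (f.stalkMap (i x)) (i.stalkMap x)).symm.trans h1).trans
    (hP.cancel_left_isIso (k.stalkMap (h x)) (h.stalkMap x))

section Ring

variable {R S : Type u} [CommRing R] [CommRing S] [Algebra R S] (q : Ideal S) [q.IsPrime]

theorem localRingHom_formallyUnramified_iff :
    (Localization.localRingHom (q.comap (algebraMap R S)) q (algebraMap R S) rfl).FormallyUnramified ↔
      Algebra.IsUnramifiedAt R q := by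
  let p := q.comap (algebraMap R S)
  have : q.LiesOver p := ⟨rfl⟩
  let := Localization.AtPrime.algebraOfLiesOver p q
  change (algebraMap (Localization.AtPrime p) (Localization.AtPrime q)).FormallyUnramified ↔ _
  rw [RingHom.formallyUnramified_algebraMap]
  refine ⟨fun _ ↦ ?_, fun _ ↦ Algebra.FormallyUnramified.of_restrictScalars R _ _⟩
  have : Algebra.FormallyUnramified R (Localization.AtPrime p) :=
    .of_isLocalization p.primeCompl
  exact Algebra.FormallyUnramified.comp R (Localization.AtPrime p) _

theorem localRingHom_flat_iff :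
    (Localization.localRingHom (q.comap (algebraMap R S)) q (algebraMap R S) rfl).Flat ↔
      Module.Flat R (Localization.AtPrime q) := by
  let p := q.comap (algebraMap R S)
  have : q.LiesOver p := ⟨rfl⟩
  let := Localization.AtPrime.algebraOfLiesOver p q
  change (algebraMap (Localization.AtPrime p) (Localization.AtPrime q)).Flat ↔ _
  rw [RingHom.flat_algebraMap_iff]
  exact Module.flat_iff_of_isLocalization (Localization.AtPrime p) p.primeCompl _

theorem localRingHom_formallySmooth_iff :
    (Localization.localRingHom (q.comap (algebraMap R S)) q (algebraMap R S) rfl).FormallySmooth ↔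
      Algebra.IsSmoothAt R q := by
  let p := q.comap (algebraMap R S)
  have : q.LiesOver p := ⟨rfl⟩
  let := Localization.AtPrime.algebraOfLiesOver p q
  change (algebraMap (Localization.AtPrime p) (Localization.AtPrime q)).FormallySmooth ↔ _
  rw [RingHom.formallySmooth_algebraMap]
  exact Algebra.FormallySmooth.iff_restrictScalars.symm

/-- Flat and unramified at a prime implies étale there. -/
theorem isEtaleAt_of_flat_localization [Algebra.FinitePresentation R S]
    [Algebra.IsUnramifiedAt R q] [Module.Flat R (Localization.AtPrime q)] :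
    Algebra.IsEtaleAt R q := by
  let p := q.comap (algebraMap R S)
  have : q.LiesOver p := ⟨rfl⟩
  let := Localization.AtPrime.algebraOfLiesOver p q
  let Rp := Localization.AtPrime p
  let Sp := Localization (Algebra.algebraMapSubmonoid S p.primeCompl)
  let Sq := Localization.AtPrime q
  let f : Sp →ₐ[S] Sq := IsLocalization.liftAlgHom (M := Algebra.algebraMapSubmonoid S p.primeCompl)
        (f := Algebra.ofId _ _) (by
      rintro ⟨_, x, hx, rfl⟩
      simpa using! IsLocalization.map_units (M := q.primeCompl) Sq ⟨algebraMap _ _ x,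
        by simp_all [q.over_def p]⟩)
  algebraize [f.toRingHom]
  have : IsScalarTower R Sp Sq := .to₁₃₄ _ S _ _
  have : IsScalarTower Rp Sp Sq := .of_algebraMap_eq' <| by
    apply IsLocalization.ringHom_ext p.primeCompl
    simp only [RingHom.comp_assoc, ← IsScalarTower.algebraMap_eq]
  have : IsLocalization (Algebra.algebraMapSubmonoid Sp q.primeCompl) Sq :=
    .isLocalization_of_submonoid_le _ _ (Algebra.algebraMapSubmonoid S p.primeCompl) _
    (by rintro _ ⟨x, hx, rfl⟩; simp_all [q.over_def p])
  have : Algebra.FinitePresentation Rp Sp := by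
    have : Algebra.IsPushout R Rp S Sp :=
      .symm <| Algebra.isPushout_of_isLocalization p.primeCompl _ _ _
    exact .equiv (Algebra.IsPushout.equiv R Rp S Sp)
  have : Module.Flat Rp Sq :=
    (Module.flat_iff_of_isLocalization Rp p.primeCompl _).mpr ‹_›
  have : Algebra.EssFiniteType S Sq := .of_isLocalization _ q.primeCompl
  have : Algebra.EssFiniteType R Sq := .comp R S Sq
  have : Algebra.EssFiniteType Rp Sq := .of_comp R Rp Sq
  have : Algebra.FormallyUnramified Rp Sq := Algebra.FormallyUnramified.of_restrictScalars R _ _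
  let k := IsLocalRing.ResidueField Rp
  have : Algebra.FormallyEtale k (TensorProduct Rp k Sq) :=
    .of_formallyUnramified_of_field _ _
  have : Algebra.FormallySmooth Rp Sq :=
    Algebra.FormallySmooth.of_formallySmooth_residueField_tensor
      (P := Sp) (Algebra.algebraMapSubmonoid _ q.primeCompl)
  have : Algebra.FormallySmooth R Sq := .comp R Rp Sq
  exact Algebra.FormallyEtale.iff_formallyUnramified_and_formallySmooth.mpr ⟨‹_›, ‹_›⟩

end Ring

section Chart

variable {X Y : Scheme.{u}} (f : X ⟶ Y) {V : Y.Opens} (hV : IsAffineOpen V) {U : X.Opens}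
  (hU : IsAffineOpen U) (e : U ≤ f ⁻¹ᵁ V)

include hV

set_option backward.isDefEq.respectTransparency.types false in
/-- The stalk map at a point of an affine chart is the localised ring map. -/
theorem stalkMap_iff_chart (hP : RingHom.RespectsIso P) (q : PrimeSpectrum Γ(X, U)) :
    P (f.stalkMap (hU.fromSpec q)).hom ↔
      P (Localization.localRingHom (q.asIdeal.comap (f.appLE V U e).hom) q.asIdeal
        (f.appLE V U e).hom rfl) := by
  rw [stalkMap_iff_of_square hP f (Spec.map (f.appLE V U e)) hU.fromSpec hV.fromSpec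
    (hV.SpecMap_appLE_fromSpec f hU e).symm q]
  exact hP.arrow_mk_iso_iff (Scheme.arrowStalkMapSpecIso _ q)

set_option backward.isDefEq.respectTransparency.types false in
theorem flat_stalkMap_iff_chart (q : PrimeSpectrum Γ(X, U)) :
    letI := (f.appLE V U e).hom.toAlgebra
    (f.stalkMap (hU.fromSpec q)).hom.Flat ↔
      Module.Flat Γ(Y, V) (Localization.AtPrime q.asIdeal) := by
  let := (f.appLE V U e).hom.toAlgebra
  rw [stalkMap_iff_chart f hV hU e RingHom.Flat.respectsIso]
  exact localRingHom_flat_iff q.asIdeal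

set_option backward.isDefEq.respectTransparency.types false in
theorem formallyUnramified_stalkMap_iff_chart (q : PrimeSpectrum Γ(X, U)) :
    letI := (f.appLE V U e).hom.toAlgebra
    (f.stalkMap (hU.fromSpec q)).hom.FormallyUnramified ↔
      Algebra.IsUnramifiedAt Γ(Y, V) q.asIdeal := by
  let := (f.appLE V U e).hom.toAlgebra
  rw [stalkMap_iff_chart f hV hU e RingHom.FormallyUnramified.respectsIso]
  exact localRingHom_formallyUnramified_iff q.asIdeal

set_option backward.isDefEq.respectTransparency.types false in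
theorem formallySmooth_stalkMap_iff_chart (q : PrimeSpectrum Γ(X, U)) :
    letI := (f.appLE V U e).hom.toAlgebra
    (f.stalkMap (hU.fromSpec q)).hom.FormallySmooth ↔
      Algebra.IsSmoothAt Γ(Y, V) q.asIdeal := by
  let := (f.appLE V U e).hom.toAlgebra
  rw [stalkMap_iff_chart f hV hU e RingHom.FormallySmooth.respectsIso]
  exact localRingHom_formallySmooth_iff q.asIdeal

set_option backward.isDefEq.respectTransparency.types false in
/-- A property of `R → S_h` gives the property on an open neighbourhood of every point of `D(h)`. -/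
theorem exists_open_of_away {Q : MorphismProperty Scheme.{u}}
    {Q' : ∀ {R S : Type u} [CommRing R] [CommRing S], (R →+* S) → Prop}
    [HasRingHomProperty Q Q'] [Q.RespectsIso] (hQ : ∀ {W : Scheme.{u}} (g : W ⟶ Spec Γ(Y, V)),
      Q g → Q (g ≫ hV.fromSpec)) (q : PrimeSpectrum Γ(X, U)) (h : Γ(X, U)) (hq : h ∉ q.asIdeal)
    (hh : letI := (f.appLE V U e).hom.toAlgebra
      Q' (algebraMap Γ(Y, V) (Localization.Away h))) :
    ∃ W : X.Opens, hU.fromSpec q ∈ W ∧ Q (W.ι ≫ f) := by
  let := (f.appLE V U e).hom.toAlgebra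
  let L := Localization.Away h
  let i : Spec (.of L) ⟶ Spec Γ(X, U) := Spec.map (CommRingCat.ofHom (algebraMap Γ(X, U) L))
  have : IsOpenImmersion i := IsOpenImmersion.of_isLocalization h
  refine ⟨(i ≫ hU.fromSpec).opensRange, ?_, ?_⟩
  · obtain ⟨w, hw⟩ : q ∈ Set.range i :=
      (PrimeSpectrum.localization_away_comap_range L h).symm.le
        (show q ∈ PrimeSpectrum.basicOpen h from hq)
    exact ⟨w, by rw [Scheme.Hom.comp_apply, hw]⟩
  · have key : (i ≫ hU.fromSpec).opensRange.ι ≫ f = (i ≫ hU.fromSpec).isoOpensRange.inv ≫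
        Spec.map (CommRingCat.ofHom (algebraMap Γ(Y, V) L)) ≫ hV.fromSpec := by
      rw [Iso.eq_inv_comp, Scheme.Hom.isoOpensRange_hom_ι_assoc, Category.assoc,
        ← hV.SpecMap_appLE_fromSpec f hU e, ← Spec.map_comp_assoc]
      rfl
    rw [key, Q.cancel_left_of_respectsIso]
    exact hQ _ ((HasRingHomProperty.Spec_iff (P := Q)).mpr hh)

end Chart

section Near

variable {X Y : Scheme.{u}} (f : X ⟶ Y)

/-- Charts at a point. -/
theorem exists_chart_at (x : X) :
    ∃ (V : Y.Opens) (_ : IsAffineOpen V) (U : X.Opens) (hU : IsAffineOpen U)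
      (_ : U ≤ f ⁻¹ᵁ V) (q : PrimeSpectrum Γ(X, U)), hU.fromSpec q = x := by
  obtain ⟨V, hV, hxV, -⟩ :=
    exists_isAffineOpen_mem_and_subset (U := (⊤ : Y.Opens)) (x := f x) trivial
  obtain ⟨U, hU, hxU, hUV⟩ :=
    exists_isAffineOpen_mem_and_subset (U := f ⁻¹ᵁ V) (x := x) hxV
  exact ⟨V, hV, U, hU, hUV, hU.primeIdealOf ⟨x, hxU⟩, hU.fromSpec_primeIdealOf ⟨x, hxU⟩⟩

set_option backward.isDefEq.respectTransparency.types false in
theorem stalkMap_iff_restrict (hP : RingHom.RespectsIso P) (U : X.Opens) (x : U) :
    P (f.stalkMap x.1).hom ↔ P ((U.ι ≫ f).stalkMap x).hom :=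
  stalkMap_iff_of_square hP f (U.ι ≫ f) U.ι (𝟙 Y) (Category.comp_id _).symm x

set_option backward.isDefEq.respectTransparency.types false in
/-- Unramified near a point iff unramified at the point. -/
theorem exists_formallyUnramified_iff [LocallyOfFiniteType f] (x : X) :
    (∃ U : X.Opens, x ∈ U ∧ FormallyUnramified (U.ι ≫ f)) ↔
      (f.stalkMap x).hom.FormallyUnramified := by
  constructor
  · rintro ⟨U, hx, hU⟩
    exact (stalkMap_iff_restrict f RingHom.FormallyUnramified.respectsIso U ⟨x, hx⟩).mpr
      (FormallyUnramified.stalkMap _ _)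
  · intro h
    obtain ⟨V, hV, U, hU, e, q, rfl⟩ := exists_chart_at f x
    let := (f.appLE V U e).hom.toAlgebra
    have : Algebra.FiniteType Γ(Y, V) Γ(X, U) := (HasRingHomProperty.appLE
      @LocallyOfFiniteType f inferInstance ⟨V, hV⟩ ⟨U, hU⟩ e :)
    have := (formallyUnramified_stalkMap_iff_chart f hV hU e q).mp h
    obtain ⟨r, hr, hr'⟩ :=
      Algebra.exists_formallyUnramified_of_isUnramifiedAt (R := Γ(Y, V)) q.asIdeal
    exact exists_open_of_away f hV hU e (Q := @FormallyUnramified)
      (fun g hg ↦ MorphismProperty.comp_mem _ _ _ hg (inferInstance : FormallyUnramified hV.fromSpec)) q r hr (RingHom.formallyUnramified_algebraMap.mpr hr')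

set_option backward.isDefEq.respectTransparency.types false in
/-- Smooth near a point iff smooth at the point. -/
theorem exists_smooth_iff [LocallyOfFinitePresentation f] (x : X) :
    (∃ U : X.Opens, x ∈ U ∧ Smooth (U.ι ≫ f)) ↔ (f.stalkMap x).hom.FormallySmooth := by
  constructor
  · rintro ⟨U, hx, hU⟩
    exact (stalkMap_iff_restrict f RingHom.FormallySmooth.respectsIso U ⟨x, hx⟩).mpr
      ((U.ι ≫ f).smoothLocus_eq_top.ge (TopologicalSpace.Opens.mem_top _))
  · intro h
    refine ⟨f.smoothLocus, h, Scheme.Hom.smoothLocus_eq_top_iff.mp ?_⟩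
    rw [← Scheme.Hom.preimage_smoothLocus_eq, Scheme.Opens.ι_preimage_self]

set_option backward.isDefEq.respectTransparency.types false in
/-- Étale near a point iff flat and unramified at the point. -/
theorem exists_etale_iff [LocallyOfFinitePresentation f] (x : X) :
    (∃ U : X.Opens, x ∈ U ∧ Etale (U.ι ≫ f)) ↔
      (f.stalkMap x).hom.Flat ∧ (f.stalkMap x).hom.FormallyUnramified := by
  constructor
  · rintro ⟨U, hx, hU⟩
    exact ⟨(stalkMap_iff_restrict f RingHom.Flat.respectsIso U ⟨x, hx⟩).mpr (Flat.stalkMap _ _),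
      (stalkMap_iff_restrict f RingHom.FormallyUnramified.respectsIso U ⟨x, hx⟩).mpr
        (FormallyUnramified.stalkMap _ _)⟩
  · rintro ⟨hfl, hun⟩
    obtain ⟨V, hV, U, hU, e, q, rfl⟩ := exists_chart_at f x
    let := (f.appLE V U e).hom.toAlgebra
    have : Algebra.FinitePresentation Γ(Y, V) Γ(X, U) := (HasRingHomProperty.appLE
      @LocallyOfFinitePresentation f inferInstance ⟨V, hV⟩ ⟨U, hU⟩ e :)
    have := (formallyUnramified_stalkMap_iff_chart f hV hU e q).mp hun
    have := (flat_stalkMap_iff_chart f hV hU e q).mp hfl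
    have := isEtaleAt_of_flat_localization (R := Γ(Y, V)) q.asIdeal
    obtain ⟨r, hr, hr'⟩ := Algebra.exists_etale_of_isEtaleAt (R := Γ(Y, V)) q.asIdeal
    exact exists_open_of_away f hV hU e (Q := @Etale)
      (fun g hg ↦ MorphismProperty.comp_mem _ _ _ hg (inferInstance : Etale hV.fromSpec)) q r hr (RingHom.etale_algebraMap.mpr hr')

theorem exists_smooth_and_formallyUnramified_iff [LocallyOfFinitePresentation f] (x : X) :
    (∃ U : X.Opens, x ∈ U ∧ Etale (U.ι ≫ f)) ↔
      (f.stalkMap x).hom.FormallySmooth ∧ (f.stalkMap x).hom.FormallyUnramified := by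
  constructor
  · rintro ⟨U, hx, hU⟩
    exact ⟨(exists_smooth_iff f x).mp ⟨U, hx, inferInstance⟩,
      (exists_formallyUnramified_iff f x).mp ⟨U, hx, inferInstance⟩⟩
  · rintro ⟨hs, hu⟩
    refine (exists_etale_iff f x).mpr ⟨?_, hu⟩
    obtain ⟨U, hx, hU⟩ := (exists_smooth_iff f x).mpr hs
    exact (stalkMap_iff_restrict f RingHom.Flat.respectsIso U ⟨x, hx⟩).mpr (Flat.stalkMap _ _)

end Near

end Groth.Agent.Unr55
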