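import Groth.Agent.Unr55.EtStalk
import Groth.Agent.Unr55.EtAscent
import Groth.Agent.Unr55.StalkCrit
import Groth.Agent.CAlg1.Serre
import Mathlib.RingTheory.RegularLocalRing.Polynomial
import Mathlib.RingTheory.MvPolynomial.Localization
import Mathlib.RingTheory.Polynomial.IsIntegral
import Mathlib.RingTheory.Ideal.KrullsHeightTheorem
import Mathlib.RingTheory.Smooth.StandardSmoothOfFree
import Mathlib.RingTheory.Unramified.LocalStructure
import Mathlib.Algebra.MvPolynomial.Nilpotent

/-!
Local rings of smooth morphisms.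
-/

universe u

open CategoryTheory AlgebraicGeometry MvPolynomial

namespace Groth.Agent.Unr55

theorem isIntegrallyClosed_mvPolynomial (A : Type u) [CommRing A] [IsDomain A] [IsIntegrallyClosed A] :
    ∀ n : ℕ, IsIntegrallyClosed (MvPolynomial (Fin n) A)
  | 0 => .of_equiv (MvPolynomial.isEmptyAlgEquiv A (Fin 0)).symm.toRingEquiv
  | n + 1 =>
    have := isIntegrallyClosed_mvPolynomial A n
    .of_equiv (MvPolynomial.finSuccEquiv A n).symm.toRingEquiv

/-- Dimension formula for a flat local homomorphism. -/
theorem ringKrullDim_eq_add_of_flat (A B : Type u) [CommRing A] [CommRing B] [IsLocalRing A]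
    [IsLocalRing B] [IsNoetherianRing A] [IsNoetherianRing B] [Algebra A B]
    [IsLocalHom (algebraMap A B)] [Module.Flat A B] :
    ringKrullDim B = ringKrullDim A +
      ringKrullDim (B ⧸ (IsLocalRing.maximalIdeal A).map (algebraMap A B)) := by
  let m := IsLocalRing.maximalIdeal A
  let M := IsLocalRing.maximalIdeal B
  let I := m.map (algebraMap A B)
  have : M.LiesOver m :=
    ⟨((IsLocalRing.local_hom_TFAE (algebraMap A B)).out 0 4 rfl rfl |>.mp ‹_›).symm⟩
  have hIM : I ≤ M := ((IsLocalRing.local_hom_TFAE (algebraMap A B)).out 0 2 rfl rfl).mp ‹_›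
  have : Nontrivial (B ⧸ I) :=
    Ideal.Quotient.nontrivial_iff.mpr (ne_top_of_le_ne_top (IsLocalRing.maximalIdeal.isMaximal B).ne_top hIM)
  have : IsLocalRing (B ⧸ I) := .of_surjective' _ Ideal.Quotient.mk_surjective
  have hmap : M.map (Ideal.Quotient.mk I) = IsLocalRing.maximalIdeal (B ⧸ I) :=
    IsLocalRing.eq_maximalIdeal ((Ideal.map_eq_top_or_isMaximal_of_surjective _
      Ideal.Quotient.mk_surjective (IsLocalRing.maximalIdeal.isMaximal B)).resolve_left fun h ↦ by
      have := congrArg (Ideal.comap (Ideal.Quotient.mk I)) h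
      rw [Ideal.comap_map_of_surjective _ Ideal.Quotient.mk_surjective, Ideal.comap_top,
        ← RingHom.ker_eq_comap_bot, Ideal.mk_ker, sup_eq_left.mpr hIM] at this
      exact (IsLocalRing.maximalIdeal.isMaximal B).ne_top this)
  rw [← IsLocalRing.maximalIdeal_height_eq_ringKrullDim,
    ← IsLocalRing.maximalIdeal_height_eq_ringKrullDim,
    ← IsLocalRing.maximalIdeal_height_eq_ringKrullDim,
    Ideal.height_eq_height_add_of_liesOver_of_hasGoingDown m M, hmap, WithBot.coe_add]

/-- An étale algebra over a regular local ring has regular local rings over the closed point. -/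
theorem isRegularLocalRing_of_etale {C T : Type u} [CommRing C] [IsRegularLocalRing C] [CommRing T]
    [Algebra C T] [Algebra.Etale C T] (q : Ideal T) [q.IsPrime]
    (hq : q.comap (algebraMap C T) = IsLocalRing.maximalIdeal C) :
    IsRegularLocalRing (Localization.AtPrime q) := by
  let L := Localization.AtPrime q
  have : IsNoetherianRing T := Algebra.FiniteType.isNoetherianRing C T
  have : IsNoetherianRing L := IsLocalization.isNoetherianRing q.primeCompl _ inferInstance
  have : IsLocalHom (algebraMap C L) := ⟨fun c hc ↦ by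
    rw [IsScalarTower.algebraMap_apply C T L, IsLocalization.AtPrime.isUnit_to_map_iff L q] at hc
    by_contra h
    exact hc (hq.ge h)⟩
  have : Algebra.EssFiniteType C L := .comp C T L
  have : Algebra.IsUnramifiedAt C q := inferInstance
  have hmap := Algebra.FormallyUnramified.map_maximalIdeal (R := C) (S := L)
  refine IsRegularLocalRing.of_spanFinrank_maximalIdeal_le L ?_
  have hd := ringKrullDim_eq_add_of_flat C L
  have h0 : (0 : WithBot ℕ∞) ≤
      ringKrullDim (L ⧸ (IsLocalRing.maximalIdeal C).map (algebraMap C L)) := by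
    rw [hmap]
    exact ringKrullDim_nonneg_of_nontrivial
  refine le_trans ?_ (le_of_le_of_eq (le_add_of_nonneg_right h0) hd.symm)
  rw [← (isRegularLocalRing_iff C).mp ‹_›, Nat.cast_le, ← hmap]
  exact Ideal.spanFinrank_map_le_of_fg _ (IsLocalRing.maximalIdeal C).fg_of_isNoetherianRing

/-- `exists_etale_model`, remembering the point below. -/
theorem exists_etale_model_over {R S : Type u} [CommRing R] [CommRing S] [Algebra R S]
    [Algebra.Etale R S] (q : Ideal S) [q.IsPrime] (p : Ideal R) [p.IsPrime] (hp : q.under R = p)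
    (A : Type u) [CommRing A] [Algebra R A] [IsLocalization.AtPrime A p] [IsLocalRing A]
    (B : Type u) [CommRing B] [Algebra S B] [IsLocalization.AtPrime B q] :
    ∃ (T : Type u) (_ : CommRing T) (_ : Algebra A T) (_ : Algebra.Etale A T)
      (q' : Ideal T) (_ : q'.IsPrime), q'.comap (algebraMap A T) = IsLocalRing.maximalIdeal A ∧
        Nonempty (Localization.AtPrime q' ≃+* B) := by
  let := Algebra.TensorProduct.rightAlgebra (R := R) (A := A) (B := S)
  let M := Algebra.algebraMapSubmonoid S p.primeCompl
  have hdisj : Disjoint (M : Set S) (q : Set S) := by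
    rw [Set.disjoint_left]
    rintro _ ⟨r, hr, rfl⟩ h
    exact hr (hp ▸ h)
  let q' := q.map (algebraMap S (TensorProduct R A S))
  have : q'.IsPrime := IsLocalization.isPrime_of_isPrime_disjoint M _ q ‹_› hdisj
  have hq' : q'.comap (algebraMap S (TensorProduct R A S)) = q :=
    IsLocalization.under_map_of_isPrime_disjoint M _ ‹_› hdisj
  refine ⟨TensorProduct R A S, inferInstance, inferInstance, inferInstance, q', inferInstance, ?_, ?_⟩
  · rw [← IsLocalization.map_under p.primeCompl A (q'.comap (algebraMap A _)), ←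
      IsLocalization.AtPrime.map_eq_maximalIdeal p A]
    congr 1
    rw [Ideal.under_def, Ideal.comap_comap, ← IsScalarTower.algebraMap_eq,
      IsScalarTower.algebraMap_eq R S (TensorProduct R A S), ← Ideal.comap_comap, hq']
    exact hp
  have h := IsLocalization.isLocalization_isLocalization_atPrime_isLocalization M
    (Localization.AtPrime q') q'
  simp only [hq'] at h
  exact ⟨(IsLocalization.algEquiv q.primeCompl (Localization.AtPrime q') B).toRingEquiv⟩

set_option backward.isDefEq.respectTransparency.types false in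
/-- The local ring at a smooth point is étale-local over a localised polynomial ring. -/
theorem exists_smooth_model {X Y : Scheme.{u}} (f : X ⟶ Y) [LocallyOfFinitePresentation f] (x : X)
    (hx : (f.stalkMap x).hom.FormallySmooth) :
    ∃ (n : ℕ) (P : Ideal (MvPolynomial (Fin n) (Y.presheaf.stalk (f x)))) (_ : P.IsPrime),
      P.comap C = IsLocalRing.maximalIdeal (Y.presheaf.stalk (f x)) ∧
      ∃ (T : Type u) (_ : CommRing T) (_ : Algebra (Localization.AtPrime P) T)
        (_ : Algebra.Etale (Localization.AtPrime P) T) (q' : Ideal T) (_ : q'.IsPrime),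
        q'.comap (algebraMap (Localization.AtPrime P) T) =
          IsLocalRing.maximalIdeal (Localization.AtPrime P) ∧
        Nonempty (Localization.AtPrime q' ≃+* X.presheaf.stalk x) := by
  obtain ⟨U, hU, hfx, -⟩ := exists_isAffineOpen_mem_and_subset (TopologicalSpace.Opens.mem_top (f x))
  obtain ⟨V, hV, hxV, hVU⟩ := exists_isAffineOpen_mem_and_subset (U := f ⁻¹ᵁ U) (x := x) hfx
  have hVU : V ≤ f ⁻¹ᵁ U := hVU
  let := (f.appLE U V hVU).hom.toAlgebra
  have : Algebra.FinitePresentation Γ(Y, U) Γ(X, V) := (HasRingHomProperty.appLE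
    @LocallyOfFinitePresentation f inferInstance ⟨U, hU⟩ ⟨V, hV⟩ hVU :)
  let := Y.presheaf.algebra_section_stalk ⟨f x, hVU hxV⟩
  let := X.presheaf.algebra_section_stalk ⟨x, hxV⟩
  let p := (hU.primeIdealOf ⟨f x, hVU hxV⟩).asIdeal
  let q := (hV.primeIdealOf ⟨x, hxV⟩).asIdeal
  have hqp : q.under Γ(Y, U) = p :=
    congr($(IsAffineOpen.comap_primeIdealOf_appLE U hU V hV hVU hxV).1)
  let A := Y.presheaf.stalk (f x)
  let B := X.presheaf.stalk x
  have : IsLocalization.AtPrime A p := hU.isLocalization_stalk ⟨f x, hVU hxV⟩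
  have : IsLocalization.AtPrime B q := hV.isLocalization_stalk ⟨x, hxV⟩
  have : Algebra.IsSmoothAt Γ(Y, U) q :=
    (formallySmooth_stalkMap_iff U hU V hV hVU hxV).mp hx
  obtain ⟨g, hg, n, _, _, _⟩ :=
    Algebra.IsSmoothAt.exists_isStandardEtale_mvPolynomial (R := Γ(Y, U)) (p := q)
  let S' := Localization.Away g
  let q₁ := q.map (algebraMap Γ(X, V) S')
  have hdisj : Disjoint ((Submonoid.powers g : Submonoid Γ(X, V)) : Set Γ(X, V)) q :=
    (Ideal.disjoint_powers_iff_notMem_of_isPrime _).mpr hg
  have : q₁.IsPrime := IsLocalization.isPrime_of_isPrime_disjoint (.powers g) _ _ inferInstance hdisj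
  have hq₁ : q₁.comap (algebraMap Γ(X, V) S') = q :=
    IsLocalization.under_map_of_isPrime_disjoint (.powers g) _ inferInstance hdisj
  let P₀ := q₁.comap (algebraMap (MvPolynomial (Fin n) Γ(Y, U)) S')
  have hP₀ : P₀.comap C = p := by
    rw [Ideal.comap_comap, ← MvPolynomial.algebraMap_eq, ← IsScalarTower.algebraMap_eq,
      IsScalarTower.algebraMap_eq Γ(Y, U) Γ(X, V) S', ← Ideal.comap_comap, hq₁]
    exact hqp
  let M := p.primeCompl.map (C (σ := Fin n))
  let : Algebra (MvPolynomial (Fin n) Γ(Y, U)) (MvPolynomial (Fin n) A) :=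
    MvPolynomial.algebraMvPolynomial
  have hdisj' : Disjoint (M : Set (MvPolynomial (Fin n) Γ(Y, U))) P₀ := by
    rw [Set.disjoint_left]
    rintro _ ⟨r, hr, rfl⟩ h
    exact hr (hP₀.le h)
  have hloc : IsLocalization M (MvPolynomial (Fin n) A) := MvPolynomial.isLocalization p.primeCompl A
  let P := P₀.map (algebraMap _ (MvPolynomial (Fin n) A))
  have : P.IsPrime := IsLocalization.isPrime_of_isPrime_disjoint M _ P₀ inferInstance hdisj'
  have hP : P.comap (algebraMap _ (MvPolynomial (Fin n) A)) = P₀ :=
    IsLocalization.under_map_of_isPrime_disjoint M _ inferInstance hdisj'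
  have hPm : P.comap C = IsLocalRing.maximalIdeal A := by
    rw [← IsLocalization.map_under p.primeCompl A (P.comap C), ← IsLocalization.AtPrime.map_eq_maximalIdeal p A]
    congr 1
    rw [Ideal.under_def, Ideal.comap_comap, ← hP₀]
    conv_rhs => rw [← hP, Ideal.comap_comap]
    congr 1
    exact RingHom.ext fun r ↦ (MvPolynomial.map_C _ r).symm
  refine ⟨n, P, inferInstance, hPm, ?_⟩
  let L := Localization.AtPrime P
  have : IsLocalization.AtPrime L P₀ := by
    have := IsLocalization.isLocalization_isLocalization_atPrime_isLocalization M L P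
    simpa only [hP] using this
  let Bq := Localization.AtPrime q₁
  have : IsLocalization.AtPrime Bq q := by
    have := IsLocalization.isLocalization_isLocalization_atPrime_isLocalization (.powers g) Bq q₁
    simpa only [hq₁] using this
  obtain ⟨T, _, _, _, q', _, hq', ⟨e⟩⟩ := exists_etale_model_over q₁ P₀ rfl L Bq
  exact ⟨T, inferInstance, inferInstance, inferInstance, q', inferInstance, hq',
    ⟨e.trans (IsLocalization.algEquiv q.primeCompl Bq B).toRingEquiv⟩⟩

end Groth.Agent.Unr55
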