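import Groth.Agent.Unr55.DescSmooth
import Groth.Agent.Unr55.SmoothStalk
import Groth.Agent.FlatMor67.RegularSmooth
import Groth.Agent.CAlg1.Serre
import Groth.Agent.Sep12.Basic
import Mathlib.RingTheory.Smooth.Fiber
import Mathlib.RingTheory.Smooth.Flat
import Mathlib.RingTheory.LocalRing.ResidueField.Fiber

/-!
Smoothness descends along a map which is flat at the point: if `T` is smooth over `R` at `r` and flat
over `S` at `r`, then `S` is smooth over `R` below `r`.
-/

set_option autoImplicit false

universe u

open TensorProduct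

namespace Groth.Agent.Unr55

section

variable {R A B R' : Type u} [CommRing R] [CommRing A] [CommRing B] [CommRing R'] [Algebra R A]
  [Algebra R B] [Algebra A B] [IsScalarTower R A B] [Algebra R R']

/-- The map `R' ⊗ A → R' ⊗ B` used as algebra structure. -/
@[instance_reducible]
noncomputable def baseChangeAlgebra : Algebra (R' ⊗[R] A) (R' ⊗[R] B) :=
  (Algebra.TensorProduct.map (AlgHom.id R' R') (IsScalarTower.toAlgHom R A B)).toRingHom.toAlgebra

attribute [local instance] Algebra.TensorProduct.rightAlgebra in
set_option backward.isDefEq.respectTransparency.types false in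
/-- Base change of smoothness and of flatness at a prime. -/
theorem smoothAt_and_flat_of_baseChange (r : Ideal B) [r.IsPrime] (Q : Ideal (R' ⊗[R] B)) [Q.IsPrime]
    (hQ : Q.comap Algebra.TensorProduct.includeRight.toRingHom = r)
    [Algebra.IsSmoothAt R r] [Module.Flat A (Localization.AtPrime r)] :
    letI := baseChangeAlgebra (R := R) (A := A) (B := B) (R' := R')
    Algebra.IsSmoothAt R' Q ∧ Module.Flat (R' ⊗[R] A) (Localization.AtPrime Q) := by
  let := baseChangeAlgebra (R := R) (A := A) (B := B) (R' := R')
  let Br := Localization.AtPrime r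
  let T := R' ⊗[R] B
  let TQ := Localization.AtPrime Q
  let C := R' ⊗[R] Br
  let π : T →ₐ[R'] C := Algebra.TensorProduct.map (AlgHom.id R' R') (IsScalarTower.toAlgHom R B Br)
  algebraize [π.toRingHom]
  have : IsScalarTower R' T C := .of_algebraMap_eq fun x ↦ (π.commutes x).symm
  let : Algebra B C := ((algebraMap Br C).comp (algebraMap B Br)).toAlgebra
  have : IsScalarTower B Br C := .of_algebraMap_eq' rfl
  have : IsScalarTower B T C := .of_algebraMap_eq fun b ↦ by
    simp [π, RingHom.algebraMap_toAlgebra, T, C]
  have : IsScalarTower R T C := .of_algebraMap_eq fun x ↦ by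
    rw [IsScalarTower.algebraMap_apply R R' C, IsScalarTower.algebraMap_apply R R' T,
      ← IsScalarTower.algebraMap_apply R' T C]
  let M := Algebra.algebraMapSubmonoid T r.primeCompl
  have hP : IsLocalization M C := by
    refine (Algebra.isLocalization_iff_isPushout r.primeCompl Br).mpr ?_
    exact ((Algebra.IsPushout.comp_iff R B R' T (T := Br) (T' := C)).mp
      (inferInstance : Algebra.IsPushout R Br R' C)).symm
  have hM : M ≤ Q.primeCompl := by
    rintro _ ⟨b, hb, rfl⟩ h
    exact hb (hQ.le h)
  let ψ : C →ₐ[T] TQ := IsLocalization.liftAlgHom (M := M) (f := Algebra.ofId T TQ)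
    fun y ↦ IsLocalization.map_units TQ (⟨y.1, hM y.2⟩ : Q.primeCompl)
  let := ψ.toRingHom.toAlgebra
  have : IsScalarTower T C TQ := .of_algebraMap_eq fun x ↦ (ψ.commutes x).symm
  have : IsScalarTower R' C TQ := .of_algebraMap_eq fun x ↦ by
    refine (IsScalarTower.algebraMap_apply R' T TQ x).trans ?_
    refine (IsScalarTower.algebraMap_apply T C TQ _).trans ?_
    rw [← IsScalarTower.algebraMap_apply R' T C]
  have hloc : IsLocalization (Algebra.algebraMapSubmonoid C Q.primeCompl) TQ :=
    .isLocalization_of_submonoid_le _ _ M _ hM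
  constructor
  · have : Algebra.FormallySmooth R Br := ‹Algebra.IsSmoothAt R r›
    have : Algebra.FormallySmooth R' C := inferInstance
    have : Algebra.FormallySmooth C TQ :=
      .of_isLocalization (Algebra.algebraMapSubmonoid C Q.primeCompl)
    exact Algebra.FormallySmooth.comp R' C TQ
  · let : Algebra (R' ⊗[R] A) C :=
      (Algebra.TensorProduct.map (AlgHom.id R' R') (IsScalarTower.toAlgHom R A Br)).toRingHom.toAlgebra
    let : Algebra A C := ((algebraMap Br C).comp (algebraMap A Br)).toAlgebra
    have : IsScalarTower A Br C := .of_algebraMap_eq' rfl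
    have : IsScalarTower A (R' ⊗[R] A) C := .of_algebraMap_eq fun a ↦ by
      simp [RingHom.algebraMap_toAlgebra, C]
    have : IsScalarTower R' (R' ⊗[R] A) C := .of_algebraMap_eq fun a ↦ by
      simp [RingHom.algebraMap_toAlgebra, Algebra.TensorProduct.algebraMap_apply]
      rfl
    have : IsScalarTower R (R' ⊗[R] A) C := .of_algebraMap_eq fun x ↦ by
      rw [IsScalarTower.algebraMap_apply R R' C, IsScalarTower.algebraMap_apply R R' (R' ⊗[R] A),
        ← IsScalarTower.algebraMap_apply R' (R' ⊗[R] A) C]
    have hAC : Module.Flat (R' ⊗[R] A) C := Module.Flat.isBaseChange A (R' ⊗[R] A) Br C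
      ((Algebra.IsPushout.comp_iff R A R' (R' ⊗[R] A) (T := Br) (T' := C)).mp
        (inferInstance : Algebra.IsPushout R Br R' C)).symm.out
    have : IsScalarTower (R' ⊗[R] A) T C := .of_algebraMap_eq' <| by
      ext <;> simp [RingHom.algebraMap_toAlgebra, π, IsScalarTower.algebraMap_apply A B Br] <;>
        (erw [Algebra.TensorProduct.map_tmul]; simp [IsScalarTower.algebraMap_apply A B Br])
    have : IsScalarTower (R' ⊗[R] A) C TQ := .of_algebraMap_eq fun x ↦ by
      refine (IsScalarTower.algebraMap_apply (R' ⊗[R] A) T TQ x).trans ?_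
      refine (IsScalarTower.algebraMap_apply T C TQ _).trans ?_
      rw [← IsScalarTower.algebraMap_apply (R' ⊗[R] A) T C]
    have : Module.Flat C TQ := IsLocalization.flat _ (Algebra.algebraMapSubmonoid C Q.primeCompl)
    exact Module.Flat.trans _ C _

end

section Field

variable {k : Type u} [Field k]

/-- A finite type algebra over a field is regular where it is smooth. -/
theorem isRegularLocalRing_of_isSmoothAt_field {S : Type u} [CommRing S] [Algebra k S]
    [Algebra.FiniteType k S] (m : Ideal S) [m.IsPrime] [Algebra.IsSmoothAt k m] :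
    IsRegularLocalRing (Localization.AtPrime m) := by
  have : Algebra.FinitePresentation k S := Algebra.FinitePresentation.of_finiteType.1 ‹_›
  obtain ⟨g, hg, n, _, _, _⟩ :=
    Algebra.IsSmoothAt.exists_isStandardEtale_mvPolynomial (R := k) (p := m)
  let S' := Localization.Away g
  let q₁ := m.map (algebraMap S S')
  have hdisj : Disjoint ((Submonoid.powers g : Submonoid S) : Set S) m :=
    (Ideal.disjoint_powers_iff_notMem_of_isPrime _).mpr hg
  have : q₁.IsPrime :=
    IsLocalization.isPrime_of_isPrime_disjoint (.powers g) _ _ inferInstance hdisj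
  have hq₁ : q₁.comap (algebraMap S S') = m :=
    IsLocalization.under_map_of_isPrime_disjoint (.powers g) _ inferInstance hdisj
  let P₀ := q₁.comap (algebraMap (MvPolynomial (Fin n) k) S')
  let Bq := Localization.AtPrime q₁
  have : IsLocalization.AtPrime Bq m := by
    have := IsLocalization.isLocalization_isLocalization_atPrime_isLocalization (.powers g) Bq q₁
    simpa only [hq₁] using this
  obtain ⟨T, _, _, _, q', _, hq', ⟨e⟩⟩ :=
    exists_etale_model_over q₁ P₀ rfl (Localization.AtPrime P₀) Bq
  have : IsRegularLocalRing (Localization.AtPrime P₀) :=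
    IsRegularRing.isRegularLocalRing_localization P₀
  have := isRegularLocalRing_of_etale q' hq'
  exact IsRegularLocalRing.of_ringEquiv
    (e.trans (IsLocalization.algEquiv m.primeCompl Bq (Localization.AtPrime m)).toRingEquiv)

variable {A B : Type u} [CommRing A] [CommRing B] [Algebra k A] [Algebra k B] [Algebra A B]
  [IsScalarTower k A B] [Algebra.FiniteType k A] [Algebra.FiniteType k B]

set_option backward.isDefEq.respectTransparency.types false in
/-- Over a field, smoothness descends along a map flat at the point. -/
theorem isSmoothAt_field_of_flatAt (r : Ideal B) [r.IsPrime] [Algebra.IsSmoothAt k r]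
    [Module.Flat A (Localization.AtPrime r)] :
    Algebra.IsSmoothAt k (r.comap (algebraMap A B)) := by
  have : Algebra.FinitePresentation k A := Algebra.FinitePresentation.of_finiteType.1 ‹_›
  let K := AlgebraicClosure k
  let A' := K ⊗[k] A
  let B' := K ⊗[k] B
  let : Algebra A' B' := baseChangeAlgebra
  have hint : (Algebra.TensorProduct.includeRight (R := k) (A := K) (B := B)).toRingHom.IsIntegral := by
    let := Algebra.TensorProduct.rightAlgebra (R := k) (A := K) (B := B)
    have : Algebra.IsIntegral B B' :=
      Algebra.IsPushout.isIntegral (R := k) (S := K) (A := B) (SA := B')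
    exact this.isIntegral
  obtain ⟨⟨R₁, hR₁p⟩, hR₁'⟩ := hint.comap_surjective
    (Algebra.TensorProduct.includeRight_injective (RingHom.injective _)) ⟨r, ‹_›⟩
  have hR₁ : R₁.comap (Algebra.TensorProduct.includeRight (R := k) (A := K) (B := B)).toRingHom = r :=
    congrArg PrimeSpectrum.asIdeal hR₁'
  obtain ⟨hsm, hfl⟩ := smoothAt_and_flat_of_baseChange (R := k) (A := A) (R' := K) r R₁ hR₁
  let Q := R₁.comap (algebraMap A' B')
  have : R₁.LiesOver Q := ⟨rfl⟩
  let := Localization.AtPrime.algebraOfLiesOver Q R₁
  have : Module.Flat (Localization.AtPrime Q) (Localization.AtPrime R₁) :=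
    (Module.flat_iff_of_isLocalization (Localization.AtPrime Q) Q.primeCompl _).mpr hfl
  have : IsLocalHom (algebraMap (Localization.AtPrime Q) (Localization.AtPrime R₁)) :=
    Localization.isLocalHom_localRingHom _ _ _ _
  have := isRegularLocalRing_of_isSmoothAt_field (k := K) R₁
  have : IsNoetherianRing A' := Algebra.FiniteType.isNoetherianRing K A'
  have : IsRegularLocalRing (Localization.AtPrime Q) :=
    CAlg1.regular_of_flat _ (Localization.AtPrime R₁)
  have := Sep12.formallySmooth_of_perfectField K Q.ResidueField
  have hQ : Algebra.IsSmoothAt K Q := FlatMor67.isSmoothAt_of_regular Q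
  have := isSmoothAt_of_baseChange (R := k) (R' := K) (S := A) Q hQ
  have key : Q.comap Algebra.TensorProduct.includeRight.toRingHom = r.comap (algebraMap A B) := by
    rw [← hR₁, Ideal.comap_comap, Ideal.comap_comap]
    congr 1

  simpa only [key] using this

end Field

section

variable {R S : Type u} [CommRing R] [CommRing S] [Algebra R S]

attribute [local instance] Algebra.TensorProduct.rightAlgebra in
set_option backward.isDefEq.respectTransparency.types false in
set_option synthInstance.maxHeartbeats 200000 in
set_option maxHeartbeats 1600000 in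
/-- Flat at the point and smooth in the fibre implies smooth at the point. -/
theorem isSmoothAt_of_flat_of_fibre [Algebra.FinitePresentation R S] (p : Ideal R) [p.IsPrime]
    (q : Ideal S) [q.IsPrime] [q.LiesOver p] [Module.Flat R (Localization.AtPrime q)]
    (Q : Ideal (p.Fiber S)) [Q.IsPrime]
    (hQ : Q.comap Algebra.TensorProduct.includeRight.toRingHom = q)
    [hs : Algebra.IsSmoothAt p.ResidueField Q] : Algebra.IsSmoothAt R q := by
  let := Localization.AtPrime.algebraOfLiesOver p q
  let Rp := Localization.AtPrime p
  let Sp := Localization (Algebra.algebraMapSubmonoid S p.primeCompl)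
  let Sq := Localization.AtPrime q
  let f : Sp →ₐ[S] Sq := IsLocalization.liftAlgHom (M := Algebra.algebraMapSubmonoid S p.primeCompl)
        (f := Algebra.ofId _ _) (by
      rintro ⟨_, x, hx, rfl⟩
      simpa using! IsLocalization.map_units (M := q.primeCompl) Sq ⟨algebraMap _ _ x,
        by simp_all [q.over_def p]⟩)
  algebraize [f.toRingHom]
  have : IsScalarTower R Sp Sq := .to₁₃₄ _ S _ _
  have : IsScalarTower Rp Sp Sq := .of_algebraMap_eq' <| by
    apply IsLocalization.ringHom_ext p.primeCompl
    simp only [RingHom.comp_assoc, ← IsScalarTower.algebraMap_eq]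
  have : IsLocalization (Algebra.algebraMapSubmonoid Sp q.primeCompl) Sq :=
    .isLocalization_of_submonoid_le _ _ (Algebra.algebraMapSubmonoid S p.primeCompl) _
    (by rintro _ ⟨x, hx, rfl⟩; simp_all [q.over_def p])
  have : Algebra.FinitePresentation Rp Sp := by
    have : Algebra.IsPushout R Rp S Sp :=
      .symm <| Algebra.isPushout_of_isLocalization p.primeCompl _ _ _
    exact .equiv (Algebra.IsPushout.equiv R Rp S Sp)
  have : Module.Flat Rp Sq :=
    (Module.flat_iff_of_isLocalization Rp p.primeCompl _).mpr ‹_›
  let k := IsLocalRing.ResidueField Rp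
  have : Algebra.FormallySmooth k (k ⊗[Rp] Sq) := by
    let F := p.Fiber S
    let FS := F ⊗[S] Sq
    let M := Algebra.algebraMapSubmonoid F q.primeCompl
    have : IsLocalization M FS :=
      (Algebra.isLocalization_iff_isPushout q.primeCompl Sq).mpr
        inferInstance
    have hle : M ≤ Q.primeCompl := by
      rintro _ ⟨s, hs, rfl⟩ h
      exact hs (hQ.le h)
    have : IsLocalization.AtPrime FS Q := IsLocalization.of_le M _ hle fun x hx ↦ by
      obtain ⟨a, ha, s, hs'⟩ := Ideal.Fiber.exists_smul_eq_one_tmul _ x
      have hu : IsUnit (algebraMap p.ResidueField F (algebraMap R p.ResidueField a)) :=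
        (IsUnit.mk0 _ (fun h ↦ ha (Ideal.algebraMap_residueField_eq_zero.mp h))).map _
      rw [← IsScalarTower.algebraMap_apply] at hu
      have hsq : s ∉ q := fun h ↦ by
        have h1 : (1 : p.ResidueField) ⊗ₜ[R] s ∈ Q := hQ.ge h
        rw [← hs', Algebra.smul_def] at h1
        exact hx ((Ideal.unit_mul_mem_iff_mem Q hu).mp h1)
      have h2 : IsUnit (algebraMap F FS ((1 : p.ResidueField) ⊗ₜ[R] s)) :=
        IsLocalization.map_units FS (⟨_, s, hsq, rfl⟩ : M)
      rw [← hs', Algebra.smul_def, map_mul] at h2
      exact ((hu.map (algebraMap F FS)).unit.isUnit_units_mul (algebraMap F FS x)).mp h2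
    have : Algebra.FormallySmooth p.ResidueField (Localization.AtPrime Q) := hs
    let eQ := IsLocalization.algEquiv Q.primeCompl (Localization.AtPrime Q) FS
    have : Algebra.FormallySmooth p.ResidueField FS :=
      Algebra.FormallySmooth.of_equiv (A := Localization.AtPrime Q) (B := FS)
        (AlgEquiv.ofRingEquiv (f := eQ.toRingEquiv) fun x ↦ by
          rw [IsScalarTower.algebraMap_apply p.ResidueField F (Localization.AtPrime Q)]
          exact eQ.commutes _)
    let e : (k ⊗[R] S) ≃ₐ[S] S ⊗[R] k :=
      { __ := Algebra.TensorProduct.comm _ _ _, commutes' _ := rfl }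
    let e' : (k ⊗[R] S) ⊗[S] Sq ≃ₐ[R] k ⊗[Rp] Sq :=
      ((Algebra.TensorProduct.comm _ _ _).restrictScalars R).trans <|
      ((Algebra.TensorProduct.congr (.refl (R := S)) e).restrictScalars R).trans <|
      ((Algebra.TensorProduct.cancelBaseChange _ _ S _ _).restrictScalars R).trans <|
      (Algebra.TensorProduct.comm _ _ _).trans (Algebra.TensorProduct.equivOfCompatibleSMul ..)
    have : e'.toAlgHom.comp (IsScalarTower.toAlgHom R p.ResidueField _) =
        IsScalarTower.toAlgHom _ _ _ := by ext
    let e'' : (k ⊗[R] S) ⊗[S] Sq ≃ₐ[k] k ⊗[Rp] Sq :=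
      { __ := e', commutes' r := congr($this r) }
    exact .of_equiv e''
  have : Algebra.FormallySmooth Rp Sq :=
    Algebra.FormallySmooth.of_formallySmooth_residueField_tensor
      (P := Sp) (Algebra.algebraMapSubmonoid _ q.primeCompl)
  exact .comp R Rp Sq

/-- Flatness at a smooth point. -/
theorem flat_of_isSmoothAt [Algebra.FinitePresentation R S] (q : Ideal S) [q.IsPrime]
    [Algebra.IsSmoothAt R q] : Module.Flat R (Localization.AtPrime q) := by
  obtain ⟨g, hg, h⟩ := Algebra.IsSmoothAt.exists_notMem_smooth (R := R) (p := q)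
  have : Module.Flat R (Localization.Away g) := inferInstance
  let f : Localization.Away g →ₐ[S] Localization.AtPrime q :=
    IsLocalization.liftAlgHom (M := .powers g) (f := Algebra.ofId _ _) (by
      rintro ⟨_, n, rfl⟩
      exact IsLocalization.map_units (Localization.AtPrime q)
        (⟨g ^ n, fun h => hg (‹q.IsPrime›.mem_of_pow_mem n h)⟩ : q.primeCompl))
  algebraize [f.toRingHom]
  have : IsScalarTower R (Localization.Away g) (Localization.AtPrime q) := .to₁₃₄ _ S _ _
  have : IsLocalization (Algebra.algebraMapSubmonoid (Localization.Away g) q.primeCompl)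
      (Localization.AtPrime q) :=
    .isLocalization_of_submonoid_le _ _ (Submonoid.powers g) _
      (by rintro _ ⟨n, rfl⟩; exact fun h => hg (‹q.IsPrime›.mem_of_pow_mem n h))
  have : Module.Flat (Localization.Away g) (Localization.AtPrime q) :=
    IsLocalization.flat _ (Algebra.algebraMapSubmonoid (Localization.Away g) q.primeCompl)
  exact Module.Flat.trans R (Localization.Away g) _

variable {T : Type u} [CommRing T] [Algebra R T] [Algebra S T] [IsScalarTower R S T]

set_option backward.isDefEq.respectTransparency.types false in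
/-- If `T` is smooth over `R` and flat over `S` at `r`, then `S` is smooth over `R` below `r`. -/
theorem isSmoothAt_of_flatAt [Algebra.FinitePresentation R S] [Algebra.FinitePresentation R T]
    (r : Ideal T) [r.IsPrime] [Algebra.IsSmoothAt R r] [Module.Flat S (Localization.AtPrime r)] :
    Algebra.IsSmoothAt R (r.comap (algebraMap S T)) := by
  let q := r.comap (algebraMap S T)
  change Algebra.IsSmoothAt R q
  let p := r.under R
  have : r.LiesOver p := ⟨rfl⟩
  have : q.LiesOver p := ⟨by
    rw [Ideal.under_def, Ideal.comap_comap, ← IsScalarTower.algebraMap_eq]⟩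
  have := flat_of_isSmoothAt (R := R) r
  have : Module.Flat R (Localization.AtPrime q) := flat_localization_of_flatAt (R := R) (S := S) r
  let x := (PrimeSpectrum.preimageEquivFiber R T ⟨p, inferInstance⟩)
    ⟨⟨r, ‹_›⟩, PrimeSpectrum.ext rfl⟩
  have hx : x.asIdeal.comap Algebra.TensorProduct.includeRight.toRingHom = r := by
    have := (PrimeSpectrum.preimageEquivFiber R T ⟨p, inferInstance⟩).symm_apply_apply
      ⟨⟨r, ‹_›⟩, PrimeSpectrum.ext rfl⟩
    exact congrArg (fun z => z.1.asIdeal) this
  let : Algebra (p.Fiber S) (p.Fiber T) := baseChangeAlgebra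
  have : IsScalarTower p.ResidueField (p.Fiber S) (p.Fiber T) := .of_algebraMap_eq fun a ↦
    ((Algebra.TensorProduct.map (AlgHom.id p.ResidueField p.ResidueField)
      (IsScalarTower.toAlgHom R S T)).commutes a).symm
  obtain ⟨h1, h2⟩ := smoothAt_and_flat_of_baseChange (R := R) (A := S) (R' := p.ResidueField) r
    x.asIdeal hx
  have := isSmoothAt_field_of_flatAt (k := p.ResidueField) (A := p.Fiber S) (B := p.Fiber T) x.asIdeal
  refine isSmoothAt_of_flat_of_fibre p q (x.asIdeal.comap (algebraMap (p.Fiber S) (p.Fiber T))) ?_
  refine Eq.trans ?_ (congrArg (Ideal.comap (algebraMap S T)) hx)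
  rw [Ideal.comap_comap, Ideal.comap_comap]
  congr 1

end

end Groth.Agent.Unr55
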