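import Groth.Agent.Unr55.FppfDesc
import Groth.Agent.Unr55.SmoothDesc
import Groth.Agent.SpFP87.NoethDesc
import Groth.Agent.SpFP87.EtLocInst

/-!
Finite type, finite presentation and smoothness descend along fppf covers of the source.
-/

set_option autoImplicit false
universe u
open CategoryTheory CategoryTheory.Limits AlgebraicGeometry

namespace Groth.Agent.Unr55

/-- Smoothness descends along a faithfully flat, finitely presented extension. -/
theorem smooth_of_fppf (R : Type u) {A B : Type u} [CommRing R] [CommRing A] [CommRing B]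
    [Algebra R A] [Algebra A B] [Algebra R B] [IsScalarTower R A B] [Algebra.FinitePresentation A B]
    [Module.Flat A B] (hs : Function.Surjective (PrimeSpectrum.comap (algebraMap A B)))
    [Algebra.Smooth R B] : Algebra.Smooth R A := by
  have : Algebra.FinitePresentation R A := finitePresentation_of_fppf R hs
  refine ⟨Algebra.smoothLocus_eq_univ_iff.mp (Set.eq_univ_iff_forall.mpr fun q ↦ ?_), inferInstance⟩
  obtain ⟨r, rfl⟩ := hs q
  have : Module.Flat B (Localization.AtPrime r.asIdeal) := IsLocalization.flat _ r.asIdeal.primeCompl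
  have : Module.Flat A (Localization.AtPrime r.asIdeal) := Module.Flat.trans A B _
  have : Algebra.IsSmoothAt R r.asIdeal :=
    (Algebra.smoothLocus_eq_univ_iff.mpr inferInstance).ge (Set.mem_univ r)
  exact isSmoothAt_of_flatAt (R := R) (S := A) r.asIdeal

section RingHom

variable {R A B : Type u} [CommRing R] [CommRing A] [CommRing B] (φ : R →+* A) (ψ : A →+* B)

theorem ringHom_descends (h1 : ψ.Flat) (h1' : ψ.FinitePresentation)
    (h2 : Function.Surjective (PrimeSpectrum.comap ψ)) :
    ((ψ.comp φ).FiniteType → φ.FiniteType) ∧ ((ψ.comp φ).FinitePresentation → φ.FinitePresentation) ∧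
      ((ψ.comp φ).Smooth → φ.Smooth) := by
  algebraize [φ, ψ, ψ.comp φ]
  have : Module.Flat A B := h1
  have : Algebra.FinitePresentation A B := h1'
  refine ⟨fun h => ?_, fun h => ?_, fun h => ?_⟩
  · have : Algebra.FiniteType R B := h
    exact finiteType_of_fppf R h2
  · have : Algebra.FinitePresentation R B := h
    exact finitePresentation_of_fppf R h2
  · have : Algebra.Smooth R B := h
    exact smooth_of_fppf R h2

end RingHom

variable {P : MorphismProperty Scheme.{u}}
  {Q : ∀ {R S : Type u} [CommRing R] [CommRing S], (R →+* S) → Prop}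

/-- Locality on the source for the fppf topology, reduced to rings. -/
theorem of_fppf_cover_of_ringHom [HasRingHomProperty P Q] [P.IsStableUnderBaseChange]
    [P.IsStableUnderComposition] (hle : ∀ {X Y : Scheme.{u}} (f : X ⟶ Y), Etale f → P f)
    (hQ : ∀ {R A B : Type u} [CommRing R] [CommRing A] [CommRing B] (φ : R →+* A) (ψ : A →+* B),
      ψ.Flat → ψ.FinitePresentation → Function.Surjective (PrimeSpectrum.comap ψ) →
        Q (ψ.comp φ) → Q φ)
    {X' X Y : Scheme.{u}} (c : X' ⟶ X) (f : X ⟶ Y) [Flat c] [LocallyOfFinitePresentation c]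
    [Surjective c] (h : P (c ≫ f)) : P f := by
  refine HasRingHomProperty.iff_appLE.2 fun U V e => ?_
  let g : (V.1 : X.Opens).toScheme ⟶ (U.1 : Y.Opens).toScheme := f.resLE U.1 V.1 e
  have : IsAffine (V.1 : X.Opens).toScheme := V.2
  have : IsAffine (U.1 : Y.Opens).toScheme := U.2
  have hg : P ((c ∣_ V.1) ≫ g) := by
    apply P.of_postcomp (W' := @IsOpenImmersion) _ (U.1 : Y.Opens).ι inferInstance
    rw [Category.assoc, Scheme.Hom.resLE_comp_ι, morphismRestrict_ι_assoc]
    exact P.comp_mem _ _ (hle _ inferInstance) h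
  have : Surjective (c ∣_ V.1) := IsZariskiLocalAtTarget.restrict ‹Surjective c› _
  obtain ⟨W, σ, _, hσ, hσs⟩ := SpFP87.exists_affine_refinement (c ∣_ V.1)
    (c ∣_ V.1).isOpenMap (c ∣_ V.1).surjective
  let d := σ ≫ (c ∣_ V.1)
  have hd : Flat d := inferInstance
  have hd' : LocallyOfFinitePresentation d := inferInstance
  have hdg : P (d ≫ g) := by
    rw [Category.assoc]; exact P.comp_mem _ _ (hle _ hσ) hg
  have h1 : Q (d ≫ g).appTop.hom := (HasRingHomProperty.iff_of_isAffine (P := P)).1 hdg
  rw [Scheme.Hom.comp_appTop, CommRingCat.hom_comp] at h1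
  have h2 : d.appTop.hom.Flat := (HasRingHomProperty.iff_of_isAffine (P := @Flat.{u})).1 hd
  have h2' : d.appTop.hom.FinitePresentation :=
    (HasRingHomProperty.iff_of_isAffine (P := @LocallyOfFinitePresentation.{u})).1 hd'
  have h3 : Function.Surjective (PrimeSpectrum.comap d.appTop.hom) := by
    have : Surjective (Spec.map d.appTop) := by
      have e2 : Spec.map d.appTop = W.isoSpec.inv ≫ d ≫ (V.1 : X.Opens).toScheme.isoSpec.hom := by
        rw [← Scheme.isoSpec_hom_naturality, Iso.inv_hom_id_assoc]
      rw [e2]; infer_instance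
    exact (Spec.map d.appTop).surjective
  have h4 : Q g.appTop.hom := hQ _ _ h2 h2' h3 h1
  have := RingHom.toMorphismProperty_respectsIso_iff.mp
    (HasRingHomProperty.isLocal_ringHomProperty P (Q := Q)).respectsIso
  exact (MorphismProperty.arrow_mk_iso_iff (RingHom.toMorphismProperty Q)
      (arrowResLEAppIso f U.1 V.1 e)).1 h4

variable {X Y S : Scheme.{u}} (f : X ⟶ Y) (q : Y ⟶ S) [Surjective f] [Flat f]
  [LocallyOfFinitePresentation f]

theorem locallyOfFinitePresentation_of_fppf_comp [LocallyOfFinitePresentation (f ≫ q)] :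
    LocallyOfFinitePresentation q :=
  of_fppf_cover_of_ringHom (P := (@LocallyOfFinitePresentation.{u} : MorphismProperty Scheme.{u}))
    (fun _ _ => inferInstance) (fun φ ψ a b c => (ringHom_descends φ ψ a b c).2.1) f q inferInstance

theorem locallyOfFiniteType_of_fppf_comp [LocallyOfFiniteType (f ≫ q)] : LocallyOfFiniteType q :=
  of_fppf_cover_of_ringHom (P := (@LocallyOfFiniteType.{u} : MorphismProperty Scheme.{u}))
    (fun _ _ => inferInstance) (fun φ ψ a b c => (ringHom_descends φ ψ a b c).1) f q inferInstance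

theorem smooth_of_fppf_comp [Smooth (f ≫ q)] : Smooth q :=
  of_fppf_cover_of_ringHom (P := (@Smooth.{u} : MorphismProperty Scheme.{u}))
    (fun _ _ => inferInstance) (fun φ ψ a b c => (ringHom_descends φ ψ a b c).2.2) f q inferInstance

end Groth.Agent.Unr55
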