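import Groth.Agent.Unr55.SmoothStalk
import Mathlib.RingTheory.LocalProperties.Reduced
import Mathlib.RingTheory.IntegralClosure.IntegrallyClosed
import Mathlib.AlgebraicGeometry.Noetherian

/-!
Reduced, normal, regular local rings and dimensions along smooth morphisms.
-/

universe u

open CategoryTheory AlgebraicGeometry MvPolynomial

namespace Groth.Agent.Unr55

variable {X Y : Scheme.{u}} (f : X ⟶ Y) [LocallyOfFinitePresentation f] (x : X)

set_option backward.isDefEq.respectTransparency.types false in
theorem flat_stalkMap_of_smoothAt (hx : (f.stalkMap x).hom.FormallySmooth) :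
    (f.stalkMap x).hom.Flat := by
  obtain ⟨U, hxU, hU⟩ := (exists_smooth_iff f x).mpr hx
  exact (stalkMap_iff_restrict f RingHom.Flat.respectsIso U ⟨x, hxU⟩).mpr (Flat.stalkMap _ _)

set_option backward.isDefEq.respectTransparency.types false in
theorem isReduced_stalk_iff_of_smooth (hx : (f.stalkMap x).hom.FormallySmooth) :
    _root_.IsReduced (X.presheaf.stalk x) ↔ _root_.IsReduced (Y.presheaf.stalk (f x)) := by
  constructor
  · intro _
    have hfl := flat_stalkMap_of_smoothAt f x hx
    algebraize [(f.stalkMap x).hom]
    have : IsLocalHom (algebraMap (Y.presheaf.stalk (f x)) (X.presheaf.stalk x)) :=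
      inferInstanceAs <| IsLocalHom (f.stalkMap x).hom
    have := Module.FaithfullyFlat.of_flat_of_isLocalHom (A := Y.presheaf.stalk (f x))
      (B := X.presheaf.stalk x)
    exact isReduced_of_faithfullyFlat _ (X.presheaf.stalk x)
  · intro _
    obtain ⟨n, P, _, -, T, _, _, _, q', _, -, ⟨e⟩⟩ := exists_smooth_model f x hx
    have := isReduced_of_etale (A := Localization.AtPrime P) (T := T)
    exact isReduced_of_injective e.symm e.symm.injective

set_option backward.isDefEq.respectTransparency.types false in
theorem isNormalDomain_stalk_iff_of_smooth (hx : (f.stalkMap x).hom.FormallySmooth) :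
    (IsDomain (X.presheaf.stalk x) ∧ IsIntegrallyClosed (X.presheaf.stalk x)) ↔
      (IsDomain (Y.presheaf.stalk (f x)) ∧ IsIntegrallyClosed (Y.presheaf.stalk (f x))) := by
  constructor
  · rintro ⟨_, _⟩
    have hfl := flat_stalkMap_of_smoothAt f x hx
    algebraize [(f.stalkMap x).hom]
    have : IsLocalHom (algebraMap (Y.presheaf.stalk (f x)) (X.presheaf.stalk x)) :=
      inferInstanceAs <| IsLocalHom (f.stalkMap x).hom
    have := Module.FaithfullyFlat.of_flat_of_isLocalHom (A := Y.presheaf.stalk (f x))
      (B := X.presheaf.stalk x)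
    exact isNormalDomain_of_faithfullyFlat _ (X.presheaf.stalk x)
  · rintro ⟨_, _⟩
    obtain ⟨n, P, _, -, T, _, _, _, q', _, -, ⟨e⟩⟩ := exists_smooth_model f x hx
    have := isIntegrallyClosed_mvPolynomial (Y.presheaf.stalk (f x)) n
    have : IsIntegrallyClosed (Localization.AtPrime P) :=
      isIntegrallyClosed_of_isLocalization _ P.primeCompl P.primeCompl_le_nonZeroDivisors
    obtain ⟨_, _⟩ := isNormalDomain_localization_of_etale (A := Localization.AtPrime P) q'
    exact ⟨e.symm.injective.isDomain, IsIntegrallyClosed.of_equiv e⟩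

set_option backward.isDefEq.respectTransparency.types false in
theorem isRegularLocalRing_stalk_iff_of_smooth [IsLocallyNoetherian Y]
    (hx : (f.stalkMap x).hom.FormallySmooth) :
    IsRegularLocalRing (X.presheaf.stalk x) ↔ IsRegularLocalRing (Y.presheaf.stalk (f x)) := by
  constructor
  · intro _
    have hfl := flat_stalkMap_of_smoothAt f x hx
    algebraize [(f.stalkMap x).hom]
    have : IsLocalHom (algebraMap (Y.presheaf.stalk (f x)) (X.presheaf.stalk x)) :=
      inferInstanceAs <| IsLocalHom (f.stalkMap x).hom
    exact CAlg1.regular_of_flat _ (X.presheaf.stalk x)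
  · intro _
    obtain ⟨n, P, _, -, T, _, _, _, q', _, hq', ⟨e⟩⟩ := exists_smooth_model f x hx
    have : IsRegularRing (Y.presheaf.stalk (f x)) :=
      isRegularRing_iff.mpr fun p _ ↦ CAlg1.regular_localization _ p
    have : IsRegularLocalRing (Localization.AtPrime P) :=
      IsRegularRing.isRegularLocalRing_localization P
    have := isRegularLocalRing_of_etale q' hq'
    exact IsRegularLocalRing.of_ringEquiv e

set_option backward.isDefEq.respectTransparency.types false in
theorem ringKrullDim_stalk_eq_add [IsLocallyNoetherian Y]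
    (hx : (f.stalkMap x).hom.FormallySmooth) :
    ringKrullDim (X.presheaf.stalk x) = ringKrullDim (Y.presheaf.stalk (f x)) +
      ringKrullDim (X.presheaf.stalk x ⧸
        (IsLocalRing.maximalIdeal (Y.presheaf.stalk (f x))).map (f.stalkMap x).hom) := by
  have := LocallyOfFiniteType.isLocallyNoetherian f
  have hfl := flat_stalkMap_of_smoothAt f x hx
  algebraize [(f.stalkMap x).hom]
  have : IsLocalHom (algebraMap (Y.presheaf.stalk (f x)) (X.presheaf.stalk x)) :=
    inferInstanceAs <| IsLocalHom (f.stalkMap x).hom
  exact ringKrullDim_eq_add_of_flat (Y.presheaf.stalk (f x)) (X.presheaf.stalk x)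

end Groth.Agent.Unr55
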