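import Mathlib.AlgebraicGeometry.Morphisms.QuasiFinite
import Mathlib.AlgebraicGeometry.Morphisms.FormallyUnramified
import Mathlib.RingTheory.Unramified.LocalStructure

/-!
Unramified morphisms are locally quasi-finite.
-/

universe u

open CategoryTheory AlgebraicGeometry

namespace Groth.Agent.Unr55

theorem locallyQuasiFinite_of_formallyUnramified {X Y : Scheme.{u}} (f : X ⟶ Y)
    [FormallyUnramified f] [LocallyOfFiniteType f] : LocallyQuasiFinite f := by
  rw [HasRingHomProperty.iff_appLE (P := @LocallyQuasiFinite)]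
  rintro ⟨V, hV⟩ ⟨U, hU⟩ e
  algebraize [(f.appLE V U e).hom]
  have : Algebra.FiniteType Γ(Y, V) Γ(X, U) := (HasRingHomProperty.appLE
    @LocallyOfFiniteType f inferInstance ⟨V, hV⟩ ⟨U, hU⟩ e :)
  have : Algebra.FormallyUnramified Γ(Y, V) Γ(X, U) := (HasRingHomProperty.appLE
    @FormallyUnramified f inferInstance ⟨V, hV⟩ ⟨U, hU⟩ e :)
  exact (inferInstance : Algebra.QuasiFinite Γ(Y, V) Γ(X, U))

end Groth.Agent.Unr55
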