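import Groth.Agent.Unr55.DescAt
import Groth.Agent.Unr55.StalkCrit
import Mathlib.RingTheory.Extension.Cotangent.BaseChange
import Mathlib.RingTheory.Localization.BaseChange
import Mathlib.RingTheory.Unramified.Finite

/-!
Descent of smoothness at a point, and unramified/étale along a flat map over the source.
-/

universe u

open TensorProduct

namespace Groth.Agent.Unr55

section

variable {R S R' : Type u} [CommRing R] [CommRing S] [Algebra R S] [CommRing R'] [Algebra R R']

attribute [local instance] Algebra.TensorProduct.rightAlgebra in
set_option backward.isDefEq.respectTransparency.types false in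
/-- Smoothness at a point descends along a flat extension of the base. -/
theorem isSmoothAt_of_baseChange [Module.Flat R R'] [Algebra.FinitePresentation R S]
    (Q : Ideal (R' ⊗[R] S)) [Q.IsPrime] (h : Algebra.IsSmoothAt R' Q) :
    Algebra.IsSmoothAt R (Q.comap Algebra.TensorProduct.includeRight.toRingHom) := by
  let T := R' ⊗[R] S
  let q := Q.comap (algebraMap S T)
  change Algebra.IsSmoothAt R q
  have : Q.LiesOver q := ⟨rfl⟩
  let := Localization.AtPrime.algebraOfLiesOver q Q
  have h' : (⟨Q, ‹_›⟩ : PrimeSpectrum T) ∈ Algebra.smoothLocus R' T := h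
  rw [Algebra.smoothLocus_eq_compl_support_inter] at h'
  obtain ⟨h1, h2⟩ := h'
  suffices (⟨q, inferInstance⟩ : PrimeSpectrum S) ∈ Algebra.smoothLocus R S from this
  rw [Algebra.smoothLocus_eq_compl_support_inter]
  let Sq := Localization.AtPrime q
  let TQ := Localization.AtPrime Q
  have : Module.Flat S T :=
    .of_linearEquiv (M := S ⊗[R] R') (LinearEquiv.symm
      { (Algebra.TensorProduct.comm R S R').toLinearEquiv with
        map_smul' := fun s x ↦ by
          induction x <;> simp_all [Algebra.smul_def, RingHom.algebraMap_toAlgebra,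
            Algebra.TensorProduct.algebraMap_apply, mul_add, T] })
  have : Module.Flat S TQ := .trans S T _
  have : Module.Flat Sq TQ := (Module.flat_iff_of_isLocalization Sq q.primeCompl _).mpr ‹_›
  have : IsLocalHom (algebraMap Sq TQ) := Localization.isLocalHom_localRingHom _ _ _ _
  have : Module.FaithfullyFlat Sq TQ := .of_flat_of_isLocalHom
  refine ⟨?_, ?_⟩
  · rw [Set.mem_compl_iff, Module.notMem_support_iff] at h1 ⊢
    let φ : T ⊗[S] Algebra.H1Cotangent R S →ₗ[T] Algebra.H1Cotangent R' T :=
      (Algebra.H1Cotangent.map R R' S T).liftBaseChange T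
    let ι : R' ⊗[R] Algebra.H1Cotangent R S →ₗ[R'] T ⊗[S] Algebra.H1Cotangent R S :=
      (((TensorProduct.mk S T (Algebra.H1Cotangent R S)) 1).restrictScalars R).liftBaseChange R'
    have hι : Function.Surjective ι := fun z ↦ by
      induction z with
      | zero => exact ⟨0, map_zero _⟩
      | add x y hx hy =>
        obtain ⟨a, rfl⟩ := hx
        obtain ⟨b, rfl⟩ := hy
        exact ⟨a + b, map_add _ _ _⟩
      | tmul t x =>
        induction t using TensorProduct.induction_on with
        | zero => exact ⟨0, by simp⟩
        | add a b ha hb =>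
          obtain ⟨a', ha'⟩ := ha
          obtain ⟨b', hb'⟩ := hb
          exact ⟨a' + b', by rw [map_add, ha', hb', add_tmul]⟩
        | tmul r s =>
          refine ⟨r ⊗ₜ (s • x), ?_⟩
          simp only [ι, LinearMap.liftBaseChange_tmul, LinearMap.restrictScalars_apply,
            TensorProduct.mk_apply]
          rw [TensorProduct.tmul_smul, TensorProduct.smul_tmul', TensorProduct.smul_tmul']
          congr 1
          simp [T, Algebra.smul_def, RingHom.algebraMap_toAlgebra,
            Algebra.TensorProduct.algebraMap_apply]
    have hcomp : ∀ z, φ (ι z) = Algebra.tensorH1CotangentOfFlat R S R' z := fun z ↦ by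
      induction z with
      | zero => simp
      | add x y hx hy => simp only [map_add, hx, hy]
      | tmul r x =>
        rw [Algebra.tensorH1CotangentOfFlat_tmul]
        simp only [ι, φ, LinearMap.liftBaseChange_tmul, LinearMap.restrictScalars_apply,
          TensorProduct.mk_apply, LinearMap.map_smul_of_tower, one_smul]
        rfl
    have hbij : Function.Bijective φ := by
      refine ⟨fun a b hab ↦ ?_, fun y ↦ ?_⟩
      · obtain ⟨a, rfl⟩ := hι a
        obtain ⟨b, rfl⟩ := hι b
        rw [hcomp, hcomp] at hab
        rw [(Algebra.tensorH1CotangentOfFlat R S R').injective hab]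
      · obtain ⟨z, hz⟩ := (Algebra.tensorH1CotangentOfFlat R S R').surjective y
        exact ⟨ι z, (hcomp z).trans hz⟩
    have e1 : Subsingleton (TQ ⊗[T] Algebra.H1Cotangent R' T) :=
      (LocalizedModule.equivTensorProduct Q.primeCompl _).symm.subsingleton
    have e2 : Subsingleton (TQ ⊗[T] (T ⊗[S] Algebra.H1Cotangent R S)) :=
      ((LinearEquiv.ofBijective φ hbij).lTensor TQ).subsingleton
    have e3 : Subsingleton (TQ ⊗[Sq] (Sq ⊗[S] Algebra.H1Cotangent R S)) :=
      ((AlgebraTensorModule.cancelBaseChange S Sq TQ TQ _).trans
        (AlgebraTensorModule.cancelBaseChange S T TQ TQ _).symm).subsingleton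
    have e4 : Subsingleton (Sq ⊗[S] Algebra.H1Cotangent R S) :=
      (Module.FaithfullyFlat.subsingleton_tensorProduct_iff_right Sq TQ).mp e3
    exact (LocalizedModule.equivTensorProduct q.primeCompl _).subsingleton
  · rw [Module.freeLocus_congr (KaehlerDifferential.tensorKaehlerEquiv R R' S T).symm,
      Module.mem_freeLocus_iff_tensor _ TQ] at h2
    rw [Module.mem_freeLocus_iff_tensor _ Sq]
    have : Module.Free TQ (TQ ⊗[Sq] (Sq ⊗[S] Ω[S⁄R])) :=
      Module.Free.of_equiv ((AlgebraTensorModule.cancelBaseChange S T TQ TQ _).trans
        (AlgebraTensorModule.cancelBaseChange S Sq TQ TQ _).symm)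
    have : Module.Flat Sq (Sq ⊗[S] Ω[S⁄R]) := Module.Flat.of_flat_tensorProduct Sq _ TQ
    exact Module.free_of_flat_of_isLocalRing

set_option backward.isDefEq.respectTransparency.types false in
/-- Smoothness at a point descends along an extension of the base flat at that point. -/
theorem isSmoothAt_of_baseChange_of_flatAt [Algebra.FinitePresentation R S]
    (Q : Ideal (R' ⊗[R] S)) [Q.IsPrime]
    [Module.Flat R (Localization.AtPrime (Q.comap (algebraMap R' (R' ⊗[R] S))))]
    (h : Algebra.IsSmoothAt R' Q) :
    Algebra.IsSmoothAt R (Q.comap Algebra.TensorProduct.includeRight.toRingHom) := by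
  let T := R' ⊗[R] S
  let p' := Q.comap (algebraMap R' T)
  let R'' := Localization.AtPrime p'
  let T'' := R'' ⊗[R] S
  let π : T →ₐ[R] T'' :=
    Algebra.TensorProduct.map (IsScalarTower.toAlgHom R R' R'') (AlgHom.id R S)
  have hπ : ∀ r, π (algebraMap R' T r) = algebraMap R' T'' r := fun r ↦ by
    simp [π, T, T'', Algebra.TensorProduct.algebraMap_apply,
      IsScalarTower.algebraMap_apply R' R'' T'']
  algebraize [π.toRingHom]
  have : IsScalarTower R' T T'' := .of_algebraMap_eq fun r ↦ (hπ r).symm
  let := Algebra.TensorProduct.rightAlgebra (R := R') (A := R'') (B := T)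
  let M := Algebra.algebraMapSubmonoid T p'.primeCompl
  have hP : IsLocalization M (R'' ⊗[R'] T) :=
    (Algebra.isLocalization_iff_isPushout p'.primeCompl R'').mpr inferInstance
  let e : R'' ⊗[R'] T ≃ₐ[T] T'' :=
    AlgEquiv.ofRingEquiv
      (f := (Algebra.TensorProduct.cancelBaseChange R R' R'' R'' S).toRingEquiv) fun t ↦ by
      induction t using TensorProduct.induction_on with
      | zero => simp
      | add x y hx hy => simp only [map_add, hx, hy]
      | tmul r s =>
        refine Eq.trans (Algebra.TensorProduct.cancelBaseChange_tmul ..) ?_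
        refine Eq.trans ?_ (Algebra.TensorProduct.map_tmul ..).symm
        simp [Algebra.smul_def]
  have : IsLocalization M T'' := IsLocalization.isLocalization_of_algEquiv M e
  have hdisj : Disjoint (M : Set T) (Q : Set T) := by
    rw [Set.disjoint_left]
    rintro _ ⟨r, hr, rfl⟩ hrQ
    exact hr hrQ
  let Q'' := Q.map (algebraMap T T'')
  have : Q''.IsPrime := IsLocalization.isPrime_of_isPrime_disjoint M T'' Q ‹_› hdisj
  have hQ'' : Q''.comap (algebraMap T T'') = Q :=
    IsLocalization.under_map_of_isPrime_disjoint M T'' ‹_› hdisj
  have : IsLocalization.AtPrime (Localization.AtPrime Q'') Q := by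
    have := IsLocalization.isLocalization_isLocalization_atPrime_isLocalization M
      (Localization.AtPrime Q'') Q''
    simpa only [hQ''] using this
  have : Algebra.FormallySmooth R' (Localization.AtPrime Q) := h
  have : Algebra.FormallySmooth R' (Localization.AtPrime Q'') :=
    .of_equiv ((IsLocalization.algEquiv Q.primeCompl (Localization.AtPrime Q)
      (Localization.AtPrime Q'')).restrictScalars R')
  have hs : Algebra.IsSmoothAt R'' Q'' :=
    Algebra.FormallySmooth.localization_base (R := R') p'.primeCompl
  have := isSmoothAt_of_baseChange (R := R) (R' := R'') (S := S) Q'' hs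
  have key : Q''.comap Algebra.TensorProduct.includeRight.toRingHom =
      Q.comap Algebra.TensorProduct.includeRight.toRingHom := by
    conv_rhs => rw [← hQ'', Ideal.comap_comap]
    congr 1
    ext s
    change (1 : R'') ⊗ₜ[R] s = π ((1 : R') ⊗ₜ[R] s)
    refine Eq.trans ?_ (Algebra.TensorProduct.map_tmul ..).symm
    simp
  simpa only [key] using this

end

section

variable {R S T : Type u} [CommRing R] [CommRing S] [CommRing T] [Algebra R S] [Algebra R T]
  [Algebra S T] [IsScalarTower R S T]

/-- If `T` is unramified over `R` and flat over `S` at a point, `S` is unramified over `R` there. -/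
theorem isUnramifiedAt_of_flatAt [Algebra.FinitePresentation R S] [Algebra.FinitePresentation R T]
    (r : Ideal T) [r.IsPrime] [Algebra.IsUnramifiedAt R r]
    [Module.Flat S (Localization.AtPrime r)] :
    Algebra.IsUnramifiedAt R (r.comap (algebraMap S T)) := by
  let q := r.comap (algebraMap S T)
  change Algebra.IsUnramifiedAt R q
  have : Algebra.FinitePresentation S T := .of_restrict_scalars_finitePresentation R S T
  have : Algebra.IsUnramifiedAt S r :=
    Algebra.FormallyUnramified.of_restrictScalars R S (Localization.AtPrime r)
  have := isEtaleAt_of_flat_localization (R := S) r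
  have h1 : Subsingleton (Localization.AtPrime r ⊗[S] Ω[S⁄R]) :=
    (KaehlerDifferential.tensorKaehlerEquivOfFormallyEtale R S (Localization.AtPrime r)).subsingleton
  have : r.LiesOver q := ⟨rfl⟩
  let := Localization.AtPrime.algebraOfLiesOver q r
  have h2 : Subsingleton (r.ResidueField ⊗[q.ResidueField] (q.ResidueField ⊗[S] Ω[S⁄R])) := by
    have : Subsingleton (r.ResidueField ⊗[Localization.AtPrime r]
        (Localization.AtPrime r ⊗[S] Ω[S⁄R])) := inferInstance
    exact ((AlgebraTensorModule.cancelBaseChange S q.ResidueField r.ResidueField r.ResidueField _).trans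
      (AlgebraTensorModule.cancelBaseChange S (Localization.AtPrime r) r.ResidueField r.ResidueField
        _).symm).subsingleton
  have h3 : Subsingleton (q.ResidueField ⊗[S] Ω[S⁄R]) :=
    (Module.FaithfullyFlat.subsingleton_tensorProduct_iff_right q.ResidueField r.ResidueField).mp h2
  rw [← not_nontrivial_iff_subsingleton,
    ← Module.mem_support_iff_nontrivial_residueField_tensorProduct ⟨q, inferInstance⟩] at h3
  have h4 : (⟨q, inferInstance⟩ : PrimeSpectrum S) ∈ Algebra.unramifiedLocus R S := by
    rw [Algebra.unramifiedLocus_eq_compl_support]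
    exact h3
  exact h4

/-- If `T` is flat over both `R` and `S` at a point, `S` is flat over `R` there. -/
theorem flat_localization_of_flatAt (r : Ideal T) [r.IsPrime]
    [Module.Flat S (Localization.AtPrime r)] [Module.Flat R (Localization.AtPrime r)] :
    Module.Flat R (Localization.AtPrime (r.comap (algebraMap S T))) := by
  let q := r.comap (algebraMap S T)
  change Module.Flat R (Localization.AtPrime q)
  have : r.LiesOver q := ⟨rfl⟩
  let := Localization.AtPrime.algebraOfLiesOver q r
  have : Module.Flat (Localization.AtPrime q) (Localization.AtPrime r) :=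
    (Module.flat_iff_of_isLocalization (Localization.AtPrime q) q.primeCompl _).mpr ‹_›
  have : IsLocalHom (algebraMap (Localization.AtPrime q) (Localization.AtPrime r)) :=
    Localization.isLocalHom_localRingHom _ _ _ _
  have : Module.FaithfullyFlat (Localization.AtPrime q) (Localization.AtPrime r) :=
    .of_flat_of_isLocalHom
  exact flat_of_flat_of_faithfullyFlat R (Localization.AtPrime q) (Localization.AtPrime r)

end

end Groth.Agent.Unr55
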