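import Groth.Agent.Unr55.Chart
import Groth.Agent.Unr55.StalkCrit
import Groth.Agent.Unr55.DescSmooth

/-!
Descent of unramified / étale / smooth at a point, and permanence along a map flat at a point.
-/

universe u

open CategoryTheory Limits AlgebraicGeometry
open scoped TensorProduct

namespace Groth.Agent.Unr55

set_option backward.isDefEq.respectTransparency.types false in
/-- Rings for a point of a fibre product. -/
theorem exists_pullback_chart {X Y Y' : Scheme.{u}} (f : X ⟶ Y) [LocallyOfFinitePresentation f]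
    (g : Y' ⟶ Y) (z : ↥(pullback f g)) :
    ∃ (R S R' : Type u) (_ : CommRing R) (_ : CommRing S) (_ : Algebra R S)
      (_ : Algebra.FinitePresentation R S) (_ : CommRing R') (_ : Algebra R R')
      (Q : Ideal (R' ⊗[R] S)) (_ : Q.IsPrime),
      ((g.stalkMap (pullback.snd f g z)).hom.Flat →
        Module.Flat R (Localization.AtPrime (Q.comap (algebraMap R' (R' ⊗[R] S))))) ∧
      ((((pullback.snd f g).stalkMap z).hom.FormallyUnramified → Algebra.IsUnramifiedAt R' Q) ∧
        (Algebra.IsUnramifiedAt R (Q.comap Algebra.TensorProduct.includeRight.toRingHom) →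
          (f.stalkMap (pullback.fst f g z)).hom.FormallyUnramified)) ∧
      ((((pullback.snd f g).stalkMap z).hom.FormallySmooth → Algebra.IsSmoothAt R' Q) ∧
        (Algebra.IsSmoothAt R (Q.comap Algebra.TensorProduct.includeRight.toRingHom) →
          (f.stalkMap (pullback.fst f g z)).hom.FormallySmooth)) := by
  obtain ⟨V, hV, U, hU, e, q, hq⟩ := exists_chart_at f (pullback.fst f g z)
  have hzU : pullback.fst f g z ∈ U := hq ▸ hU.range_fromSpec.le (Set.mem_range_self q)
  have hzV : g (pullback.snd f g z) ∈ V := by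
    rw [← Scheme.Hom.comp_apply, ← pullback.condition, Scheme.Hom.comp_apply]
    exact e hzU
  obtain ⟨W, hW, hzW, hWV⟩ :=
    exists_isAffineOpen_mem_and_subset (U := g ⁻¹ᵁ V) (x := pullback.snd f g z) hzV
  let e' : W ≤ g ⁻¹ᵁ V := hWV
  let : Algebra Γ(Y, V) Γ(Y', W) := (g.appLE V W e').hom.toAlgebra
  let : Algebra Γ(Y, V) Γ(X, U) := (f.appLE V U e).hom.toAlgebra
  have : Algebra.FinitePresentation Γ(Y, V) Γ(X, U) := (HasRingHomProperty.appLE
    @LocallyOfFinitePresentation f inferInstance ⟨V, hV⟩ ⟨U, hU⟩ e :)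
  obtain ⟨j, _, hj1, hj2, hjr⟩ := exists_chart f g hV hU e Γ(Y', W) rfl hW.fromSpec
    (hV.SpecMap_appLE_fromSpec g hW e').symm
  obtain ⟨Q, hQz⟩ : z ∈ Set.range j := by
    rw [hjr]
    exact ⟨hzU, hW.range_fromSpec.ge hzW⟩
  let T := Γ(Y', W) ⊗[Γ(Y, V)] Γ(X, U)
  have hQq : hU.fromSpec ⟨Q.asIdeal.comap (Algebra.TensorProduct.includeRight (R := Γ(Y, V))
      (A := Γ(Y', W)) (B := Γ(X, U))).toRingHom, inferInstance⟩ = pullback.fst f g z := by
    rw [← hQz, ← Scheme.Hom.comp_apply, hj1, Scheme.Hom.comp_apply]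
    rfl
  have hQy : hW.fromSpec ⟨Q.asIdeal.comap (algebraMap Γ(Y', W) T), inferInstance⟩ =
      pullback.snd f g z := by
    rw [← hQz, ← Scheme.Hom.comp_apply, hj2, Scheme.Hom.comp_apply]
    rfl
  have key : ∀ {P : ∀ {A B : Type u} [CommRing A] [CommRing B], (A →+* B) → Prop},
      RingHom.RespectsIso P → (P ((pullback.snd f g).stalkMap z).hom ↔
        P (Localization.localRingHom (Q.asIdeal.comap (algebraMap Γ(Y', W) T)) Q.asIdeal
          (algebraMap Γ(Y', W) T) rfl)) := fun {P} hP ↦ by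
    rw [← hQz, stalkMap_iff_of_square hP (pullback.snd f g)
      (Spec.map (CommRingCat.ofHom (algebraMap Γ(Y', W) T))) j hW.fromSpec hj2 Q]
    exact hP.arrow_mk_iso_iff (Scheme.arrowStalkMapSpecIso _ Q)
  refine ⟨Γ(Y, V), Γ(X, U), Γ(Y', W), inferInstance, inferInstance, inferInstance, inferInstance,
    inferInstance, inferInstance, Q.asIdeal, inferInstance, fun h ↦ ?_, ⟨fun h ↦ ?_, fun h ↦ ?_⟩,
    ⟨fun h ↦ ?_, fun h ↦ ?_⟩⟩
  · rw [← hQy] at h
    exact (flat_stalkMap_iff_chart g hV hW e' _).mp h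
  · exact (localRingHom_formallyUnramified_iff Q.asIdeal).mp
      ((key RingHom.FormallyUnramified.respectsIso).mp h)
  · rw [← hQq]
    exact (formallyUnramified_stalkMap_iff_chart f hV hU e _).mpr h
  · exact (localRingHom_formallySmooth_iff Q.asIdeal).mp
      ((key RingHom.FormallySmooth.respectsIso).mp h)
  · rw [← hQq]
    exact (formallySmooth_stalkMap_iff_chart f hV hU e _).mpr h

set_option backward.isDefEq.respectTransparency.types false in
theorem formallyUnramified_stalkMap_fst {X Y Y' : Scheme.{u}} (f : X ⟶ Y)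
    [LocallyOfFinitePresentation f] (g : Y' ⟶ Y) (z : ↥(pullback f g))
    (h : ((pullback.snd f g).stalkMap z).hom.FormallyUnramified) :
    (f.stalkMap (pullback.fst f g z)).hom.FormallyUnramified := by
  obtain ⟨R, S, R', _, _, _, _, _, _, Q, _, -, ⟨h1, h2⟩, -⟩ := exists_pullback_chart f g z
  exact h2 (isUnramifiedAt_of_baseChange Q (h1 h))

set_option backward.isDefEq.respectTransparency.types false in
theorem formallySmooth_stalkMap_fst {X Y Y' : Scheme.{u}} (f : X ⟶ Y)
    [LocallyOfFinitePresentation f] (g : Y' ⟶ Y) (z : ↥(pullback f g))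
    (hg : (g.stalkMap (pullback.snd f g z)).hom.Flat)
    (h : ((pullback.snd f g).stalkMap z).hom.FormallySmooth) :
    (f.stalkMap (pullback.fst f g z)).hom.FormallySmooth := by
  obtain ⟨R, S, R', _, _, _, _, _, _, Q, _, h0, -, ⟨h1, h2⟩⟩ := exists_pullback_chart f g z
  have := h0 hg
  exact h2 (isSmoothAt_of_baseChange_of_flatAt Q (h1 h))

set_option backward.isDefEq.respectTransparency.types false in
theorem formallyUnramified_stalkMap_of_flat {X Y S : Scheme.{u}} (f : Y ⟶ S) (g : X ⟶ Y)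
    [LocallyOfFinitePresentation f] [LocallyOfFinitePresentation (g ≫ f)] (x : X)
    (hg : (g.stalkMap x).hom.Flat) (hh : ((g ≫ f).stalkMap x).hom.FormallyUnramified) :
    (f.stalkMap (g x)).hom.FormallyUnramified := by
  obtain ⟨W, hW, V, hV, e, q, hq⟩ := exists_chart_at f (g x)
  have hxV : g x ∈ V := hq ▸ hV.range_fromSpec.le (Set.mem_range_self q)
  obtain ⟨U, hU, hxU, hUV⟩ := exists_isAffineOpen_mem_and_subset (U := g ⁻¹ᵁ V) (x := x) hxV
  let e' : U ≤ g ⁻¹ᵁ V := hUV
  have e'' : U ≤ (g ≫ f) ⁻¹ᵁ W := fun y hy ↦ e (e' hy)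
  let : Algebra Γ(S, W) Γ(Y, V) := (f.appLE W V e).hom.toAlgebra
  let : Algebra Γ(Y, V) Γ(X, U) := (g.appLE V U e').hom.toAlgebra
  let : Algebra Γ(S, W) Γ(X, U) := ((g ≫ f).appLE W U e'').hom.toAlgebra
  have : IsScalarTower Γ(S, W) Γ(Y, V) Γ(X, U) := .of_algebraMap_eq' (by
    simp only [RingHom.algebraMap_toAlgebra, ← CommRingCat.hom_comp, Scheme.Hom.appLE_comp_appLE])
  have : Algebra.FinitePresentation Γ(S, W) Γ(Y, V) := (HasRingHomProperty.appLE
    @LocallyOfFinitePresentation f inferInstance ⟨W, hW⟩ ⟨V, hV⟩ e :)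
  have : Algebra.FinitePresentation Γ(S, W) Γ(X, U) := (HasRingHomProperty.appLE
    @LocallyOfFinitePresentation (g ≫ f) inferInstance ⟨W, hW⟩ ⟨U, hU⟩ e'' :)
  let r := hU.primeIdealOf ⟨x, hxU⟩
  have hr : hU.fromSpec r = x := hU.fromSpec_primeIdealOf ⟨x, hxU⟩
  rw [← hr] at hg hh
  have := (flat_stalkMap_iff_chart g hV hU e' r).mp hg
  have := (formallyUnramified_stalkMap_iff_chart (g ≫ f) hW hU e'' r).mp hh
  have h1 := isUnramifiedAt_of_flatAt (R := Γ(S, W)) (S := Γ(Y, V)) r.asIdeal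
  have h2 : hV.fromSpec ⟨r.asIdeal.comap (algebraMap Γ(Y, V) Γ(X, U)), inferInstance⟩ = g x := by
    rw [← hr, ← Scheme.Hom.comp_apply, ← hV.SpecMap_appLE_fromSpec g hU e', Scheme.Hom.comp_apply]
    rfl
  rw [← h2]
  exact (formallyUnramified_stalkMap_iff_chart f hW hV e _).mpr h1

set_option backward.isDefEq.respectTransparency.types false in
theorem flat_stalkMap_of_flat {X Y S : Scheme.{u}} (f : Y ⟶ S) (g : X ⟶ Y) (x : X)
    (hg : (g.stalkMap x).hom.Flat) (hh : ((g ≫ f).stalkMap x).hom.Flat) :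
    (f.stalkMap (g x)).hom.Flat := by
  replace hh : ((g.stalkMap x).hom.comp (f.stalkMap (g x)).hom).Flat := by
    rw [Scheme.Hom.stalkMap_comp] at hh
    exact hh
  algebraize [(f.stalkMap (g x)).hom, (g.stalkMap x).hom,
    (g.stalkMap x).hom.comp (f.stalkMap (g x)).hom]
  have : IsLocalHom (algebraMap (Y.presheaf.stalk (g x)) (X.presheaf.stalk x)) :=
    inferInstanceAs <| IsLocalHom (g.stalkMap x).hom
  have : Module.FaithfullyFlat (Y.presheaf.stalk (g x)) (X.presheaf.stalk x) :=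
    .of_flat_of_isLocalHom
  exact flat_of_flat_of_faithfullyFlat _ (Y.presheaf.stalk (g x)) (X.presheaf.stalk x)

set_option backward.isDefEq.respectTransparency.types false in
theorem flat_of_formallyUnramified_stalkMap {X Y S : Scheme.{u}} (h : Y ⟶ S)
    [LocallyOfFiniteType h] (g : X ⟶ Y) (x : X)
    (hu : (h.stalkMap (g x)).hom.FormallyUnramified) (hf : ((g ≫ h).stalkMap x).hom.Flat) :
    (h.stalkMap (g x)).hom.Flat ∧ (g.stalkMap x).hom.Flat := by
  have he : (h.stalkMap (g x)).hom.EssFiniteType := LocallyOfFiniteType.stalkMap h (g x)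
  replace hf : ((g.stalkMap x).hom.comp (h.stalkMap (g x)).hom).Flat := by
    rw [Scheme.Hom.stalkMap_comp] at hf
    exact hf
  algebraize [(h.stalkMap (g x)).hom, (g.stalkMap x).hom,
    (g.stalkMap x).hom.comp (h.stalkMap (g x)).hom]
  have : IsLocalHom (algebraMap (Y.presheaf.stalk (g x)) (X.presheaf.stalk x)) :=
    inferInstanceAs <| IsLocalHom (g.stalkMap x).hom
  have : Module.Flat (Y.presheaf.stalk (g x)) (X.presheaf.stalk x) :=
    Algebra.FormallyUnramified.flat_of_restrictScalars (S.presheaf.stalk (h (g x))) _ _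
  have : Module.FaithfullyFlat (Y.presheaf.stalk (g x)) (X.presheaf.stalk x) :=
    .of_flat_of_isLocalHom
  exact ⟨flat_of_flat_of_faithfullyFlat _ (Y.presheaf.stalk (g x)) (X.presheaf.stalk x), ‹_›⟩

end Groth.Agent.Unr55
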