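import Mathlib.AlgebraicGeometry.Morphisms.Etale
import Mathlib.AlgebraicGeometry.Morphisms.Flat
import Mathlib.RingTheory.RegularLocalRing.Defs
import Mathlib.RingTheory.Ideal.KrullsHeightTheorem
import Mathlib.RingTheory.Unramified.LocalRing
import Groth.Agent.Unr55.EtAscent

/-!
Local rings along étale morphisms.
-/

universe u

open TensorProduct IsLocalRing

namespace Groth.Agent.Unr55

section Ring

variable (A B : Type u) [CommRing A] [CommRing B] [Algebra A B] [IsLocalRing A] [IsLocalRing B]
  [IsLocalHom (algebraMap A B)] [Module.Flat A B]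

theorem ringKrullDim_eq_of_map_maximalIdeal [IsNoetherianRing A] [IsNoetherianRing B]
    (h : (maximalIdeal A).map (algebraMap A B) = maximalIdeal B) :
    ringKrullDim B = ringKrullDim A := by
  have h5 : (maximalIdeal B).comap (algebraMap A B) = maximalIdeal A :=
    ((IsLocalRing.local_hom_TFAE (algebraMap A B)).out 0 4).mp ‹_›
  have : (maximalIdeal B).LiesOver (maximalIdeal A) := ⟨h5.symm⟩
  have hh := Ideal.height_eq_height_add_of_liesOver_of_hasGoingDown (maximalIdeal A)
    (maximalIdeal B)
  have : Nontrivial (B ⧸ maximalIdeal B) := inferInstance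
  rw [h, Ideal.map_quotient_self, Ideal.height_bot, add_zero] at hh
  rw [← IsLocalRing.maximalIdeal_height_eq_ringKrullDim,
    ← IsLocalRing.maximalIdeal_height_eq_ringKrullDim, hh]

theorem spanFinrank_maximalIdeal_eq [IsNoetherianRing A] [IsNoetherianRing B]
    (h : (maximalIdeal A).map (algebraMap A B) = maximalIdeal B) :
    (maximalIdeal B).spanFinrank = (maximalIdeal A).spanFinrank := by
  classical
  have : Module.FaithfullyFlat A B := Module.FaithfullyFlat.of_flat_of_isLocalHom
  refine le_antisymm ?_ ?_
  · have hfg : (maximalIdeal A).FG := IsNoetherian.noetherian _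
    conv_lhs => rw [← h, ← Submodule.span_generators (maximalIdeal A)]
    change (Ideal.map _ (Ideal.span _)).spanFinrank ≤ _
    rw [Ideal.map_span, ← Submodule.FG.generators_ncard hfg]
    exact (Submodule.spanFinrank_span_le_ncard_of_finite
      ((Submodule.FG.finite_generators hfg).image _)).trans (Set.ncard_image_le (Submodule.FG.finite_generators hfg))
  · let φ : maximalIdeal A → maximalIdeal B :=
      fun a ↦ ⟨algebraMap A B a, h ▸ Ideal.mem_map_of_mem _ a.2⟩
    have hspan : Submodule.span (ResidueField B)
        ((maximalIdeal B).toCotangent '' Set.range φ) = ⊤ := by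
      rw [CotangentSpace.span_image_eq_top_iff]
      apply Submodule.map_injective_of_injective (f := (maximalIdeal B).subtype)
        Subtype.val_injective
      rw [Submodule.map_span, Submodule.map_top, Submodule.range_subtype, ← Set.range_comp]
      conv_rhs => rw [← h]
      refine congrArg (Submodule.span B) ?_
      ext
      simp [φ]
    obtain ⟨b, hb, hbspan, hbli⟩ :=
      exists_linearIndependent (ResidueField B) ((maximalIdeal B).toCotangent '' Set.range φ)
    rw [hspan] at hbspan
    have hbfin : b.Finite := hbli.setFinite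
    have hbcard : b.ncard ≤ (maximalIdeal B).spanFinrank := by
      rw [spanFinrank_maximalIdeal_eq_finrank_cotangentSpace, ← Nat.card_coe_set_eq]
      have := hbfin.fintype
      rw [Nat.card_eq_fintype_card]
      exact hbli.fintype_card_le_finrank
    have hpre : ∀ c : b, ∃ a, (maximalIdeal B).toCotangent (φ a) = c := fun c ↦ by
      obtain ⟨_, ⟨a, rfl⟩, ha⟩ := hb c.2
      exact ⟨a, ha⟩
    choose a ha using hpre
    have : Finite b := hbfin.to_subtype
    let J : Ideal A := Ideal.span (Set.range fun c : b ↦ (a c : A))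
    have hJ : J.map (algebraMap A B) = maximalIdeal B := by
      have hgen : Submodule.span B (Set.range fun c : b ↦ φ (a c)) = ⊤ := by
        rw [← CotangentSpace.span_image_eq_top_iff, ← Set.range_comp, eq_top_iff, ← hbspan]
        refine Submodule.span_mono fun c hc ↦ ⟨⟨c, hc⟩, ha _⟩
      have := congrArg (Submodule.map (maximalIdeal B).subtype) hgen
      rw [Submodule.map_span, Submodule.map_top, Submodule.range_subtype, ← Set.range_comp]
        at this
      rw [Ideal.map_span, ← Set.range_comp]
      exact this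
    have hJA : J = maximalIdeal A := by
      rw [← Ideal.comap_map_eq_self_of_faithfullyFlat (B := B) J, hJ, ← h,
        Ideal.comap_map_eq_self_of_faithfullyFlat]
    rw [← hJA]
    refine le_trans (Submodule.spanFinrank_span_le_ncard_of_finite (Set.finite_range _))
      (le_trans ?_ hbcard)
    rw [← Nat.card_coe_set_eq, ← Nat.card_coe_set_eq]
    exact Finite.card_range_le _

theorem isRegularLocalRing_iff_of_map_maximalIdeal [IsNoetherianRing A] [IsNoetherianRing B]
    (h : (maximalIdeal A).map (algebraMap A B) = maximalIdeal B) :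
    IsRegularLocalRing B ↔ IsRegularLocalRing A := by
  rw [isRegularLocalRing_iff, isRegularLocalRing_iff, spanFinrank_maximalIdeal_eq A B h,
    ringKrullDim_eq_of_map_maximalIdeal A B h]

end Ring

/-- The local rings of an étale algebra are localisations of an étale algebra over the local ring
of the base. -/
theorem exists_etale_model {R S : Type u} [CommRing R] [CommRing S] [Algebra R S]
    [Algebra.Etale R S] (q : Ideal S) [q.IsPrime] (p : Ideal R) [p.IsPrime] (hp : q.under R = p)
    (A : Type u) [CommRing A] [Algebra R A] [IsLocalization.AtPrime A p]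
    (B : Type u) [CommRing B] [Algebra S B] [IsLocalization.AtPrime B q] :
    ∃ (T : Type u) (_ : CommRing T) (_ : Algebra A T) (_ : Algebra.Etale A T)
      (q' : Ideal T) (_ : q'.IsPrime), Nonempty (Localization.AtPrime q' ≃+* B) := by
  let := Algebra.TensorProduct.rightAlgebra (R := R) (A := A) (B := S)
  let M := Algebra.algebraMapSubmonoid S p.primeCompl
  have hdisj : Disjoint (M : Set S) (q : Set S) := by
    rw [Set.disjoint_left]
    rintro _ ⟨r, hr, rfl⟩ h
    exact hr (hp ▸ h)
  let q' := q.map (algebraMap S (A ⊗[R] S))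
  have : q'.IsPrime := IsLocalization.isPrime_of_isPrime_disjoint M _ q ‹_› hdisj
  have hq' : q'.comap (algebraMap S (A ⊗[R] S)) = q :=
    IsLocalization.under_map_of_isPrime_disjoint M _ ‹_› hdisj
  refine ⟨A ⊗[R] S, inferInstance, inferInstance, inferInstance, q', inferInstance, ?_⟩
  have h := IsLocalization.isLocalization_isLocalization_atPrime_isLocalization M
    (Localization.AtPrime q') q'
  simp only [hq'] at h
  exact ⟨(IsLocalization.algEquiv q.primeCompl (Localization.AtPrime q') B).toRingEquiv⟩

open AlgebraicGeometry CategoryTheory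

set_option backward.isDefEq.respectTransparency.types false in
theorem exists_etale_model_stalk {X Y : Scheme.{u}} (f : X ⟶ Y) [AlgebraicGeometry.Etale f]
    (x : X) :
    ∃ (T : Type u) (_ : CommRing T) (_ : Algebra (Y.presheaf.stalk (f x)) T)
      (_ : Algebra.Etale (Y.presheaf.stalk (f x)) T) (q' : Ideal T) (_ : q'.IsPrime),
      Nonempty (Localization.AtPrime q' ≃+* X.presheaf.stalk x) := by
  obtain ⟨U, hU, hfx, -⟩ := exists_isAffineOpen_mem_and_subset (TopologicalSpace.Opens.mem_top (f x))
  obtain ⟨V, hV, hx, hVU⟩ := exists_isAffineOpen_mem_and_subset (U := f ⁻¹ᵁ U) (x := x) hfx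
  have hVU : V ≤ f ⁻¹ᵁ U := hVU
  have h1 := HasRingHomProperty.appLE (P := @AlgebraicGeometry.Etale) f ‹_› ⟨U, hU⟩ ⟨V, hV⟩ hVU
  let := (f.appLE U V hVU).hom.toAlgebra
  have : Algebra.Etale Γ(Y, U) Γ(X, V) := h1
  let := Y.presheaf.algebra_section_stalk ⟨f x, hVU hx⟩
  let := X.presheaf.algebra_section_stalk ⟨x, hx⟩
  have := hU.isLocalization_stalk ⟨f x, hVU hx⟩
  have := hV.isLocalization_stalk ⟨x, hx⟩
  exact exists_etale_model (hV.primeIdealOf ⟨x, hx⟩).asIdeal
    (hU.primeIdealOf ⟨f x, hVU hx⟩).asIdeal
    congr($(IsAffineOpen.comap_primeIdealOf_appLE U hU V hV hVU hx).1) _ _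

set_option backward.isDefEq.respectTransparency.types false in
theorem stalkMap_facts {X Y : Scheme.{u}} (f : X ⟶ Y) [AlgebraicGeometry.Etale f] (x : X) :
    letI := (f.stalkMap x).hom.toAlgebra
    IsLocalHom (algebraMap (Y.presheaf.stalk (f x)) (X.presheaf.stalk x)) ∧
      Module.Flat (Y.presheaf.stalk (f x)) (X.presheaf.stalk x) ∧
      (maximalIdeal (Y.presheaf.stalk (f x))).map
        (algebraMap (Y.presheaf.stalk (f x)) (X.presheaf.stalk x)) =
        maximalIdeal (X.presheaf.stalk x) := by
  algebraize [(f.stalkMap x).hom]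
  have hloc : IsLocalHom (algebraMap (Y.presheaf.stalk (f x)) (X.presheaf.stalk x)) :=
    inferInstanceAs <| IsLocalHom (f.stalkMap x).hom
  have : Algebra.EssFiniteType (Y.presheaf.stalk (f x)) (X.presheaf.stalk x) := by
    rw [← RingHom.essFiniteType_algebraMap, RingHom.algebraMap_toAlgebra]
    exact LocallyOfFiniteType.stalkMap f x
  have : Algebra.FormallyUnramified (Y.presheaf.stalk (f x)) (X.presheaf.stalk x) := by
    rw [← RingHom.formallyUnramified_algebraMap, RingHom.algebraMap_toAlgebra]
    exact FormallyUnramified.stalkMap f x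
  exact ⟨hloc, Flat.stalkMap f x, Algebra.FormallyUnramified.map_maximalIdeal⟩

set_option backward.isDefEq.respectTransparency.types false in
theorem isNoetherianRing_stalk_of_etale {X Y : Scheme.{u}} (f : X ⟶ Y)
    [AlgebraicGeometry.Etale f] [IsLocallyNoetherian Y] (x : X) :
    IsNoetherianRing (X.presheaf.stalk x) :=
  have := LocallyOfFiniteType.isLocallyNoetherian f
  inferInstance

set_option backward.isDefEq.respectTransparency.types false in
theorem isReduced_stalk_iff_of_etale {X Y : Scheme.{u}} (f : X ⟶ Y) [AlgebraicGeometry.Etale f]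
    (x : X) :
    _root_.IsReduced (X.presheaf.stalk x) ↔ _root_.IsReduced (Y.presheaf.stalk (f x)) := by
  refine ⟨fun h ↦ ?_, fun h ↦ ?_⟩
  · let := (f.stalkMap x).hom.toAlgebra
    obtain ⟨_, _, -⟩ := stalkMap_facts f x
    have := Module.FaithfullyFlat.of_flat_of_isLocalHom (A := Y.presheaf.stalk (f x))
      (B := X.presheaf.stalk x)
    exact isReduced_of_faithfullyFlat _ (X.presheaf.stalk x)
  · obtain ⟨T, _, _, _, q', _, ⟨e⟩⟩ := exists_etale_model_stalk f x
    have := isReduced_of_etale (A := Y.presheaf.stalk (f x)) (T := T)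
    exact isReduced_of_injective e.symm e.symm.injective

set_option backward.isDefEq.respectTransparency.types false in
theorem isNormalDomain_stalk_iff_of_etale {X Y : Scheme.{u}} (f : X ⟶ Y)
    [AlgebraicGeometry.Etale f] (x : X) :
    (IsDomain (X.presheaf.stalk x) ∧ IsIntegrallyClosed (X.presheaf.stalk x)) ↔
      (IsDomain (Y.presheaf.stalk (f x)) ∧ IsIntegrallyClosed (Y.presheaf.stalk (f x))) := by
  refine ⟨fun ⟨_, _⟩ ↦ ?_, fun ⟨_, _⟩ ↦ ?_⟩
  · let := (f.stalkMap x).hom.toAlgebra
    obtain ⟨_, _, -⟩ := stalkMap_facts f x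
    have := Module.FaithfullyFlat.of_flat_of_isLocalHom (A := Y.presheaf.stalk (f x))
      (B := X.presheaf.stalk x)
    exact isNormalDomain_of_faithfullyFlat _ (X.presheaf.stalk x)
  · obtain ⟨T, _, _, _, q', _, ⟨e⟩⟩ := exists_etale_model_stalk f x
    obtain ⟨_, _⟩ := isNormalDomain_localization_of_etale (A := Y.presheaf.stalk (f x)) q'
    exact ⟨e.symm.injective.isDomain, IsIntegrallyClosed.of_equiv e⟩

end Groth.Agent.Unr55
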