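import Mathlib.AlgebraicGeometry.Morphisms.FormallyUnramified
import Mathlib.AlgebraicGeometry.Morphisms.Separated
import Mathlib.AlgebraicGeometry.ResidueField

/-!
Equalisers of morphisms into unramified schemes.
-/

universe u

open CategoryTheory Limits AlgebraicGeometry

namespace Groth.Agent.Unr55

variable {X S Y : Scheme.{u}}

/-- The open subscheme where two morphisms into an unramified scheme agree. -/
theorem exists_eqLocus (π : X ⟶ S) [FormallyUnramified π] [LocallyOfFiniteType π]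
    (f g : Y ⟶ X) (w : f ≫ π = g ≫ π) :
    ∃ W : Y.Opens, W.ι ≫ f = W.ι ≫ g ∧
      (∀ {T : Scheme.{u}} (t : T ⟶ Y), t ≫ f = t ≫ g → Set.range t ⊆ W) ∧
      (IsSeparated π → IsClosed (W : Set Y)) := by
  let Δ : X ⟶ pullback π π := pullback.diagonal π
  have d1 : Δ ≫ pullback.fst π π = 𝟙 X := pullback.diagonal_fst π
  have d2 : Δ ≫ pullback.snd π π = 𝟙 X := pullback.diagonal_snd π
  let φ : Y ⟶ pullback π π := pullback.lift f g w
  refine ⟨φ ⁻¹ᵁ Δ.opensRange, ?_, ?_, fun h ↦ ?_⟩
  · let ψ := IsOpenImmersion.lift Δ ((φ ⁻¹ᵁ Δ.opensRange).ι ≫ φ) (by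
      rintro _ ⟨x, rfl⟩; exact x.2)
    have hψ : ψ ≫ Δ = (φ ⁻¹ᵁ Δ.opensRange).ι ≫ φ := IsOpenImmersion.lift_fac _ _ _
    have h1 := congr($hψ ≫ pullback.fst π π)
    have h2 := congr($hψ ≫ pullback.snd π π)
    simp only [Δ, φ, Category.assoc, pullback.diagonal_fst, pullback.diagonal_snd,
      pullback.lift_fst, pullback.lift_snd, Category.comp_id] at h1 h2
    rw [← h1, ← h2]
  · intro T t ht
    have hfac : t ≫ φ = (t ≫ f) ≫ Δ := by
      apply pullback.hom_ext
      · rw [Category.assoc, Category.assoc, pullback.lift_fst, d1, Category.comp_id]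
      · rw [Category.assoc, Category.assoc, pullback.lift_snd, d2, Category.comp_id, ht]
    rintro _ ⟨x, rfl⟩
    exact ⟨(t ≫ f) x, congr($hfac x).symm⟩
  · exact (Δ.isClosedMap.isClosed_range).preimage φ.continuous

/-- Two morphisms from a connected scheme into a separated unramified scheme over the base which
agree on some nonempty scheme over the source are equal. -/
theorem eq_of_comp_eq (π : X ⟶ S) [FormallyUnramified π] [LocallyOfFiniteType π] [IsSeparated π]
    [ConnectedSpace Y] (f g : Y ⟶ X) (w : f ≫ π = g ≫ π) {T : Scheme.{u}} [Nonempty T]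
    (t : T ⟶ Y) (ht : t ≫ f = t ≫ g) : f = g := by
  obtain ⟨W, hW, hmem, hcl⟩ := exists_eqLocus π f g w
  have hW' : W = ⊤ := by
    apply SetLike.coe_injective
    refine IsClopen.eq_univ ⟨hcl ‹_›, W.2⟩ ?_
    obtain ⟨x⟩ := (inferInstance : Nonempty T)
    exact ⟨t x, hmem t ht ⟨x, rfl⟩⟩
  subst hW'
  exact (cancel_epi (Scheme.topIso Y).hom).mp hW

/-- Two morphisms which agree on the residue field at a point agree on an open neighbourhood. -/
theorem mem_eqLocus {f g : Y ⟶ X} {y : Y} {W : Y.Opens}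
    (hmem : ∀ {T : Scheme.{u}} (t : T ⟶ Y), t ≫ f = t ≫ g → Set.range t ⊆ W)
    (hy : Y.fromSpecResidueField y ≫ f = Y.fromSpecResidueField y ≫ g) : y ∈ W :=
  hmem _ hy (by simp [Scheme.range_fromSpecResidueField])

end Groth.Agent.Unr55
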