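import Mathlib.AlgebraicGeometry.Morphisms.FlatMono
import Mathlib.AlgebraicGeometry.Morphisms.Etale
import Mathlib.AlgebraicGeometry.Morphisms.UniversallyInjective
import Groth.Agent.Unr55.Rigid

/-!
Morphisms into étale schemes are invariant under universal homeomorphisms.
-/

universe u

open CategoryTheory Limits AlgebraicGeometry

namespace Groth.Agent.Unr55

set_option backward.isDefEq.respectTransparency.types false in
theorem universallyInjective_of_pullback {X Y X' Y' : Scheme.{u}} {t : X ⟶ Y} {p : Y' ⟶ Y}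
    {t' : X' ⟶ Y'} {q : X' ⟶ X} (h : IsPullback t' q p t) [Surjective p]
    (ht' : UniversallyInjective t') : UniversallyInjective t := by
  rw [universallyInjective_eq_diagonal] at ht' ⊢
  exact MorphismProperty.of_isPullback_of_descendsAlong (Q := @Surjective) h ‹_› ht'

set_option backward.isDefEq.respectTransparency.types false in
theorem mono_of_universallyInjective {X Y : Scheme.{u}} (t : X ⟶ Y) [FormallyUnramified t]
    [LocallyOfFiniteType t] (h : UniversallyInjective t) : Mono t := by
  rw [universallyInjective_eq_diagonal] at h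
  have : Surjective (pullback.diagonal t) := h
  have : IsIso (pullback.diagonal t) :=
    (isIso_iff_isOpenImmersion_and_surjective _).mpr ⟨inferInstance, this⟩
  exact (pullback.isIso_diagonal_iff t).mp this

/-- A morphism is universally a homeomorphism. -/
def IsUnivHomeo {Y' Y : Scheme.{u}} (p : Y' ⟶ Y) : Prop :=
  ∀ {Z : Scheme.{u}} (r : Z ⟶ Y), IsHomeomorph (pullback.fst r p).base

set_option backward.isDefEq.respectTransparency.types false in
theorem IsUnivHomeo.surjective {Y' Y : Scheme.{u}} {p : Y' ⟶ Y} (hp : IsUnivHomeo p) :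
    Surjective p := by
  refine ⟨fun z ↦ ?_⟩
  obtain ⟨w, hw⟩ := (hp (𝟙 Y)).surjective z
  refine ⟨pullback.snd (𝟙 Y) p w, ?_⟩
  rw [← hw, ← Scheme.Hom.comp_apply, ← pullback.condition, Category.comp_id]

set_option backward.isDefEq.respectTransparency.types false in
theorem isUnivHomeo_of_universallyClosed {Y' Y : Scheme.{u}} (p : Y' ⟶ Y) [UniversallyClosed p]
    [UniversallyInjective p] [Surjective p] : IsUnivHomeo p := fun r ↦
  have : UniversallyInjective (pullback.fst r p) :=
    MorphismProperty.pullback_fst (P := @UniversallyInjective) r p inferInstance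
  isHomeomorph_iff_continuous_isClosedMap_bijective.mpr
    ⟨(pullback.fst r p).continuous, (pullback.fst r p).isClosedMap,
      (pullback.fst r p).injective, (pullback.fst r p).surjective⟩

set_option backward.isDefEq.respectTransparency.types false in
theorem isUnivHomeo_of_flat {Y' Y : Scheme.{u}} (p : Y' ⟶ Y) [Flat p] [QuasiCompact p]
    [UniversallyInjective p] [Surjective p] : IsUnivHomeo p := fun r ↦
  have : UniversallyInjective (pullback.fst r p) :=
    MorphismProperty.pullback_fst (P := @UniversallyInjective) r p inferInstance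
  isHomeomorph_iff_isQuotientMap_injective.mpr
    ⟨Flat.isQuotientMap_of_surjective (pullback.fst r p), (pullback.fst r p).injective⟩

set_option backward.isDefEq.respectTransparency.types false in
/-- Morphisms into an étale scheme descend uniquely along universal homeomorphisms. -/
theorem existsUnique_hom_of_isUnivHomeo {X S Y Y' : Scheme.{u}} (x : X ⟶ S) [Etale x]
    (p : Y' ⟶ Y) (hp : IsUnivHomeo p) (y : Y ⟶ S) (a : Y' ⟶ X) (w : a ≫ x = p ≫ y) :
    ∃! φ : Y ⟶ X, φ ≫ x = y ∧ p ≫ φ = a := by
  have := hp.surjective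
  refine existsUnique_of_exists_of_unique ?_ fun φ₁ φ₂ h₁ h₂ ↦ ?_
  swap
  · obtain ⟨W, hW, hmem, -⟩ := exists_eqLocus x φ₁ φ₂ (h₁.1.trans h₂.1.symm)
    have hW' : W = ⊤ := by
      apply SetLike.coe_injective
      refine Set.univ_subset_iff.mp ?_
      rw [← p.surjective.range_eq]
      exact hmem p (h₁.2.trans h₂.2.symm)
    subst hW'
    exact (cancel_epi (Scheme.topIso Y).hom).mp hW
  let π₂ : pullback x y ⟶ Y := pullback.snd x y
  let q := pullback.fst π₂ p
  let pr := pullback.snd π₂ p
  let s' : Y' ⟶ pullback π₂ p := pullback.lift (pullback.lift a p w) (𝟙 Y')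
    (by rw [pullback.lift_snd, Category.id_comp])
  have hs' : s' ≫ pr = 𝟙 Y' := pullback.lift_snd _ _ _
  have : Etale (s' ≫ pr) := by rw [hs']; infer_instance
  have : Etale s' := Etale.of_comp s' pr
  have : Mono (s' ≫ pr) := by rw [hs']; infer_instance
  have : Mono s' := mono_of_mono s' pr
  have : IsOpenImmersion s' := IsOpenImmersion.of_flat_of_mono s'
  let U : (pullback x y).Opens := ⟨q '' s'.opensRange, (hp π₂).isOpenMap _ s'.opensRange.2⟩
  let V := q ⁻¹ᵁ U
  have hV : V = s'.opensRange :=
    TopologicalSpace.Opens.ext (Set.preimage_image_eq _ (hp π₂).injective)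
  have hpb : IsPullback (V.ι ≫ pr) (q ∣_ U) p (U.ι ≫ π₂) :=
    ((isPullback_morphismRestrict q U).paste_vert (IsPullback.of_hasPullback π₂ p)).flip
  have hiso : IsIso (V.ι ≫ pr) := by
    rw [hV]
    have h1 : s'.isoOpensRange.hom ≫ (s'.opensRange.ι ≫ pr) = 𝟙 Y' := by
      rw [Scheme.Hom.isoOpensRange_hom_ι_assoc, hs']
    rw [← IsIso.eq_inv_comp, Category.comp_id] at h1
    rw [h1]
    infer_instance
  have : UniversallyInjective (U.ι ≫ π₂) := universallyInjective_of_pullback hpb inferInstance
  have : Mono (U.ι ≫ π₂) := mono_of_universallyInjective _ this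
  have : IsOpenImmersion (U.ι ≫ π₂) := IsOpenImmersion.of_flat_of_mono _
  have : Surjective (U.ι ≫ π₂) :=
    MorphismProperty.of_isPullback_of_descendsAlong (P := @Surjective) (Q := @Surjective) hpb ‹_›
      inferInstance
  have : IsIso (U.ι ≫ π₂) := (isIso_iff_isOpenImmersion_and_surjective _).mpr ⟨‹_›, ‹_›⟩
  refine ⟨inv (U.ι ≫ π₂) ≫ U.ι ≫ pullback.fst x y, ?_, ?_⟩
  · rw [Category.assoc, Category.assoc, pullback.condition]
    rw [IsIso.inv_comp_eq, Category.assoc]
  · let t : Y' ⟶ V := IsOpenImmersion.lift V.ι s' (by rw [hV]; simp)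
    have ht : t ≫ V.ι = s' := IsOpenImmersion.lift_fac _ _ _
    have h1 : t ≫ (q ∣_ U) ≫ (U.ι ≫ π₂) = p := by
      rw [← hpb.w, Category.assoc, reassoc_of% ht, reassoc_of% hs']
    have h2 : p ≫ inv (U.ι ≫ π₂) = t ≫ (q ∣_ U) := by
      rw [IsIso.comp_inv_eq, Category.assoc, h1]
    rw [reassoc_of% h2, morphismRestrict_ι_assoc, reassoc_of% ht]
    rw [pullback.lift_fst_assoc, pullback.lift_fst]

set_option backward.isDefEq.respectTransparency.types false in
/-- Base change along a universal homeomorphism is fully faithful on morphisms into étale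
schemes. -/
theorem pullback_map_bijective {S S' : Scheme.{u}} (g : S' ⟶ S) (X Y : Over S) [Etale X.hom]
    (hp : IsUnivHomeo (pullback.fst Y.hom g)) :
    Function.Bijective (fun φ : Y ⟶ X => (Over.pullback g).map φ) := by
  refine ⟨fun φ₁ φ₂ h ↦ ?_, fun ψ ↦ ?_⟩
  · have h' := congr($(h).left ≫ pullback.fst X.hom g)
    simp only [Over.pullback_map_left, pullback.lift_fst] at h'
    ext
    exact (existsUnique_hom_of_isUnivHomeo X.hom (pullback.fst Y.hom g) hp Y.hom
      (pullback.fst Y.hom g ≫ φ₁.left) (by simp [Over.w φ₁])).unique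
        ⟨Over.w φ₁, rfl⟩ ⟨Over.w φ₂, h'.symm⟩
  · have hw : ψ.left ≫ pullback.snd X.hom g = pullback.snd Y.hom g := Over.w ψ
    obtain ⟨φ, ⟨hφ, hφ'⟩, -⟩ := existsUnique_hom_of_isUnivHomeo X.hom (pullback.fst Y.hom g) hp
      Y.hom (ψ.left ≫ pullback.fst X.hom g)
      (by rw [Category.assoc, pullback.condition, reassoc_of% hw, ← pullback.condition])
    refine ⟨Over.homMk φ hφ, ?_⟩
    refine Over.OverMorphism.ext (pullback.hom_ext ?_ ?_)
    · exact (pullback.lift_fst _ _ _).trans hφ'
    · exact (pullback.lift_snd _ _ _).trans hw.symm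

end Groth.Agent.Unr55
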