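import Groth.Agent.FlatStage64.Main
import Groth.Agent.SpFP87.EtDescRing
import Mathlib.RingTheory.Extension.Presentation.Core
import Mathlib.RingTheory.TensorProduct.Maps
import Mathlib.RingTheory.Smooth.NoetherianDescent

/-!
Finite type and finite presentation descend along flat, finitely presented covers.
-/

set_option autoImplicit false
set_option linter.style.haveILetI false
open TensorProduct

namespace Groth.Agent.Unr55

universe u

set_option backward.isDefEq.respectTransparency.types false in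
/-- A flat algebra of finite presentation has a flat model over a ring of finite type over `ℤ`. -/
theorem exists_flat_model (A B : Type u) [CommRing A] [CommRing B] [Algebra A B]
    [Algebra.FinitePresentation A B] [Module.Flat A B] :
    ∃ (C B₀ : Type u) (_ : CommRing C) (_ : CommRing B₀) (_ : Algebra C A) (_ : Algebra C B₀),
      Algebra.FiniteType ℤ C ∧ Algebra.FinitePresentation C B₀ ∧ Module.Flat C B₀ ∧
        Nonempty (B ≃ₐ[A] A ⊗[C] B₀) := by
  let P := Algebra.Presentation.ofFinitePresentation A B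
  let N := P.Core
  have : IsNoetherianRing N := Algebra.FiniteType.isNoetherianRing ℤ N
  let M := P.ModelOfHasCoeffs N
  let e := P.tensorModelOfHasCoeffsEquiv N
  have hA : Module.Flat A (A ⊗[N] M) := .of_linearEquiv e.toLinearEquiv
  obtain ⟨C, hC, hflat⟩ := FlatStage64.exists_fg_flat (R := N) M (M := M) A hA
  have hCft : Algebra.FiniteType N C := (Subalgebra.fg_iff_finiteType C).mp hC
  have hCZ : Algebra.FiniteType ℤ C := Algebra.FiniteType.trans (S := N) inferInstance hCft
  have := hflat C le_rfl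
  exact ⟨C, C ⊗[N] M, inferInstance, inferInstance, inferInstance, inferInstance, hCZ,
    inferInstance, inferInstance,
    ⟨e.symm.trans (Algebra.TensorProduct.cancelBaseChange N C A A M).symm⟩⟩

theorem finiteType_of_flat_model (R : Type u) {A B : Type u} [CommRing R] [CommRing A] [CommRing B]
    [Algebra R A] [Algebra A B] [Algebra R B] [IsScalarTower R A B] (A₀ : Subalgebra R A)
    (hA₀ : A₀.FG) (B₀ : Type u) [CommRing B₀] [Algebra A₀ B₀] [Module.Flat A₀ B₀]
    [Algebra.FinitePresentation A₀ B₀] (e : B ≃ₐ[A] A ⊗[A₀] B₀)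
    (hs : Function.Surjective (PrimeSpectrum.comap (algebraMap A B)))
    [hB : Algebra.FiniteType R B] : Algebra.FiniteType R A := by
  classical
  obtain ⟨s, hs'⟩ := hB.out
  let e' : B ≃ₐ[R] A ⊗[A₀] B₀ := e.restrictScalars R
  choose T hT using fun b : B => TensorProduct.exists_finset (e' b)
  obtain ⟨K, hK⟩ := (PrimeSpectrum.isClosed_iff_zeroLocus_ideal _).1
    (SpFP87.isOpen_range_comap (A := A₀) (B := B₀)).isClosed_compl
  have hKA : K.map (algebraMap A₀ A) = ⊤ := by
    by_contra hne
    obtain ⟨q, hq, hqK⟩ := Ideal.exists_le_maximal _ hne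
    obtain ⟨Q, hQ⟩ := hs ⟨q, hq.isPrime⟩
    let φ : B₀ →+* B := (e.symm.toRingEquiv.toRingHom).comp
      (Algebra.TensorProduct.includeRight (R := A₀) (A := A) (B := B₀)).toRingHom
    have hφ : φ.comp (algebraMap A₀ B₀) = (algebraMap A B).comp (algebraMap A₀ A) := by
      ext x
      change e.symm (1 ⊗ₜ algebraMap A₀ B₀ x) = algebraMap A B (algebraMap A₀ A x)
      rw [← e.symm.commutes]
      congr 1
      rw [Algebra.algebraMap_eq_smul_one (A := B₀), TensorProduct.tmul_smul]
      simp [TensorProduct.smul_tmul', Algebra.smul_def]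
    have : PrimeSpectrum.comap (algebraMap A₀ A) ⟨q, hq.isPrime⟩ ∈
        (Set.range (PrimeSpectrum.comap (algebraMap A₀ B₀)))ᶜ := by
      rw [hK, PrimeSpectrum.mem_zeroLocus, SetLike.coe_subset_coe, PrimeSpectrum.comap_asIdeal]
      exact Ideal.map_le_iff_le_comap.1 hqK
    apply this
    refine ⟨PrimeSpectrum.comap φ Q, ?_⟩
    rw [← PrimeSpectrum.comap_comp_apply, hφ, PrimeSpectrum.comap_comp_apply, hQ]
  obtain ⟨t, ht⟩ : ∃ t : Finset A, (1 : A) ∈ Ideal.span (algebraMap A₀ A '' (K : Set A₀)) ∧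
      ∀ A₂ : Subalgebra R A, A₀ ≤ A₂ → (↑t ⊆ (A₂ : Set A)) →
        ∃ l : A →₀ A, (∀ a, l a ∈ A₂) ∧ (↑l.support ⊆ algebraMap A₀ A '' (K : Set A₀)) ∧
          l.sum (fun k a => a * k) = 1 := by
    have h1 : (1 : A) ∈ Ideal.span (algebraMap A₀ A '' (K : Set A₀)) := by
      rw [← Ideal.map, hKA]; trivial
    obtain ⟨l, hl, hl'⟩ := (Submodule.mem_span_set (R := A)).1 h1
    refine ⟨l.support.image l, h1, fun A₂ _ hA₂ => ⟨l, fun a => ?_, hl, hl'⟩⟩
    by_cases ha : a ∈ l.support
    · exact hA₂ (Finset.mem_coe.2 (Finset.mem_image_of_mem l ha))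
    · rw [Finsupp.notMem_support_iff.1 ha]; exact A₂.zero_mem
  let A₂ : Subalgebra R A := A₀ ⊔ Algebra.adjoin R (↑t ∪ ↑(s.biUnion fun b => (T b).image Prod.fst))
  have h01 : A₀ ≤ A₂ := le_sup_left
  have hsub : (↑t ∪ ↑(s.biUnion fun b => (T b).image Prod.fst) : Set A) ⊆ A₂ :=
    Algebra.subset_adjoin.trans (SetLike.coe_subset_coe.2 le_sup_right)
  have hA₂ : A₂.FG := hA₀.sup ⟨_, by rw [Finset.coe_union]⟩
  suffices h : A₂ = ⊤ by
    exact (Subalgebra.fg_iff_finiteType _).1 hA₂ |>.of_surjective A₂.val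
      (fun a => ⟨⟨a, h ▸ trivial⟩, rfl⟩)
  obtain ⟨l, hl, hlK, hl1⟩ := ht.2 A₂ h01 (Set.subset_union_left.trans hsub)
  letI : Algebra A₀ A₂ := (Subalgebra.inclusion h01).toRingHom.toAlgebra
  haveI : IsScalarTower A₀ A₂ A := IsScalarTower.of_algebraMap_eq fun _ => rfl
  haveI : IsScalarTower R A₀ A₂ := IsScalarTower.of_algebraMap_eq fun _ => rfl
  let ι : A₂ →ₐ[A₀] A := IsScalarTower.toAlgHom A₀ A₂ A
  let μ : (A₂ ⊗[A₀] B₀) →ₐ[A₀] (A ⊗[A₀] B₀) := Algebra.TensorProduct.map ι (AlgHom.id A₀ B₀)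
  have hμ : Function.Surjective μ := by
    let μR := (μ.restrictScalars R).range
    suffices μR = ⊤ by exact fun x => (this ▸ trivial : x ∈ μR)
    have : μR.comap e'.toAlgHom = ⊤ := by
      rw [eq_top_iff, ← hs']
      refine Algebra.adjoin_le fun b hb => ?_
      change e' b ∈ μR
      rw [hT b]
      refine Subalgebra.sum_mem _ fun p hp => ⟨(⟨p.1, hsub (Or.inr ?_)⟩ : A₂) ⊗ₜ p.2, rfl⟩
      exact Finset.mem_coe.2 (Finset.mem_biUnion.2 ⟨b, hb, Finset.mem_image_of_mem _ hp⟩)
    rw [eq_top_iff]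
    intro x _
    have := (this ▸ trivial : e'.symm x ∈ μR.comap e'.toAlgHom)
    simpa using this
  rw [eq_top_iff]
  intro a _
  let A₂' : Submodule A₂ A := LinearMap.range (Algebra.linearMap A₂ A)
  set m : A ⧸ A₂' := Submodule.Quotient.mk a
  suffices hm : LinearMap.ker (LinearMap.toSpanSingleton A₂ (A ⧸ A₂') m) = ⊤ by
    have := (Submodule.eq_top_iff'.1 hm) 1
    rw [LinearMap.mem_ker, LinearMap.toSpanSingleton_apply, one_smul, Submodule.Quotient.mk_eq_zero] at this
    obtain ⟨x, hx⟩ := this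
    exact hx ▸ x.2
  by_contra hne
  obtain ⟨p, hp, hpc⟩ := Ideal.exists_le_maximal _ hne
  have hpK : PrimeSpectrum.comap (algebraMap A₀ A₂) ⟨p, hp.isPrime⟩ ∈
      Set.range (PrimeSpectrum.comap (algebraMap A₀ B₀)) := by
    by_contra hcon
    have : K ≤ Ideal.comap (algebraMap A₀ A₂) p := by
      rw [← Set.mem_compl_iff, hK, PrimeSpectrum.mem_zeroLocus] at hcon
      exact hcon
    refine hp.ne_top ((Ideal.eq_top_iff_one p).2 ?_)
    have h1 : (1 : A₂) = ∑ k ∈ l.support.attach, (⟨l k, hl k⟩ : A₂) *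
        algebraMap A₀ A₂ ((hlK k.2).choose) := by
      apply Subtype.ext
      rw [OneMemClass.coe_one, ← hl1, Finsupp.sum, ← Finset.sum_attach]
      push_cast
      refine Finset.sum_congr rfl fun k _ => ?_
      exact congrArg _ (hlK k.2).choose_spec.2.symm
    rw [h1]
    exact Ideal.sum_mem _ fun k _ => p.mul_mem_left _ (this (hlK k.2).choose_spec.1)
  obtain ⟨Q, hQ⟩ := hpK
  have hm0 : (1 : B₀) ⊗ₜ[A₀] m = 0 := by
    obtain ⟨z, hz⟩ := hμ (a ⊗ₜ 1)
    let π : A →ₗ[A₀] (A ⧸ A₂') := (Submodule.mkQ A₂').restrictScalars A₀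
    let τ : A ⊗[A₀] B₀ →ₗ[A₀] B₀ ⊗[A₀] (A ⧸ A₂') :=
      (TensorProduct.mk A₀ B₀ (A ⧸ A₂')).flip.comp π |> TensorProduct.lift
    have : τ (a ⊗ₜ 1) = 0 := by
      rw [← hz]
      clear hz
      induction z using TensorProduct.induction_on with
      | zero => simp
      | tmul x y =>
        change y ⊗ₜ[A₀] (Submodule.Quotient.mk (ι x) : A ⧸ A₂') = 0
        rw [(Submodule.Quotient.mk_eq_zero A₂').2 (show ι x ∈ A₂' from ⟨x, rfl⟩), TensorProduct.tmul_zero]
      | add x y hx hy => simp only [map_add, hx, hy, add_zero]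
    exact this
  have htop := SpFP87.map_annihilator_eq_top m hm0
  refine Q.isPrime.ne_top (top_le_iff.1 (htop ▸ Ideal.map_le_iff_le_comap.2 ?_))
  have hQ' := congrArg PrimeSpectrum.asIdeal hQ
  rw [PrimeSpectrum.comap_asIdeal, PrimeSpectrum.comap_asIdeal] at hQ'
  rw [hQ']
  intro x hx
  apply hpc
  rw [LinearMap.mem_ker, LinearMap.toSpanSingleton_apply] at hx ⊢
  rw [algebraMap_smul]
  exact hx


/-- Finite type descends along a flat, finitely presented cover. -/
theorem finiteType_of_fppf (R : Type u) {A B : Type u} [CommRing R] [CommRing A] [CommRing B]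
    [Algebra R A] [Algebra A B] [Algebra R B] [IsScalarTower R A B] [Algebra.FinitePresentation A B]
    [Module.Flat A B] (hs : Function.Surjective (PrimeSpectrum.comap (algebraMap A B)))
    [Algebra.FiniteType R B] : Algebra.FiniteType R A := by
  obtain ⟨C, B₀, _, _, _, _, hC, _, _, ⟨e⟩⟩ := exists_flat_model A B
  obtain ⟨t, ht⟩ := hC.out
  let A₀ : Subalgebra R A := Algebra.adjoin R (algebraMap C A '' (t : Set C))
  have hA₀ : A₀.FG := by
    classical
    exact ⟨t.image (algebraMap C A), by rw [Finset.coe_image]⟩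
  have hmem : ∀ c : C, algebraMap C A c ∈ A₀ := fun c ↦ by
    have hc : c ∈ Algebra.adjoin ℤ (t : Set C) := ht ▸ Algebra.mem_top
    induction hc using Algebra.adjoin_induction with
    | mem x hx => exact Algebra.subset_adjoin ⟨x, hx, rfl⟩
    | algebraMap r => simp
    | add x y _ _ hx hy => rw [map_add]; exact A₀.add_mem hx hy
    | mul x y _ _ hx hy => rw [map_mul]; exact A₀.mul_mem hx hy
  let : Algebra C A₀ := ((algebraMap C A).codRestrict A₀ hmem).toAlgebra
  have : IsScalarTower C A₀ A := .of_algebraMap_eq fun _ ↦ rfl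
  exact finiteType_of_flat_model R A₀ hA₀ (A₀ ⊗[C] B₀)
    (e.trans (Algebra.TensorProduct.cancelBaseChange C A₀ A A B₀).symm) hs

set_option backward.isDefEq.respectTransparency.types false in
theorem finitePresentation_of_model (R : Type u) {A B C B₀ P : Type u} [CommRing R] [CommRing A]
    [CommRing B] [CommRing C] [CommRing B₀] [CommRing P] [Algebra R A] [Algebra A B] [Algebra R B]
    [IsScalarTower R A B] [Algebra C B₀] [Algebra.FinitePresentation C B₀] [Module.Flat C B₀]
    [Algebra C A] [Algebra C P] [Algebra P A] [IsScalarTower C P A] [Algebra R P]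
    [IsScalarTower R P A] [Algebra P B] [IsScalarTower P A B] [IsScalarTower R P B]
    [Algebra.FinitePresentation R P] (hπ₁ : Function.Surjective (algebraMap P A))
    (e : B ≃ₐ[A] A ⊗[C] B₀) (hs : Function.Surjective (PrimeSpectrum.comap (algebraMap A B)))
    [Algebra.FinitePresentation R B] : Algebra.FinitePresentation R A := by
  let B₁ := P ⊗[C] B₀
  have : Algebra.FinitePresentation R B₁ := Algebra.FinitePresentation.trans R P B₁
  let e₁ : A ⊗[P] B₁ ≃ₐ[A] B := (Algebra.TensorProduct.cancelBaseChange C P A A B₀).trans e.symm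
  let g : B₁ →ₐ[P] B :=
    (e₁.toAlgHom.restrictScalars P).comp Algebra.TensorProduct.includeRight
  have hg : Function.Surjective g := e₁.surjective.comp fun z ↦ by
    induction z using TensorProduct.induction_on with
    | zero => exact ⟨0, by simp⟩
    | tmul a b =>
      obtain ⟨p, rfl⟩ := hπ₁ a
      refine ⟨p • b, ?_⟩
      change (1 : A) ⊗ₜ[P] (p • b) = _
      rw [TensorProduct.tmul_smul, TensorProduct.smul_tmul', Algebra.smul_def, mul_one]
    | add x y hx hy =>
      obtain ⟨a, ha⟩ := hx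
      obtain ⟨b, hb⟩ := hy
      exact ⟨a + b, by rw [map_add, ha, hb]⟩
  let J := RingHom.ker (algebraMap P A)
  have hker : RingHom.ker g.toRingHom = J.map (algebraMap P B₁) := by
    refine le_antisymm (fun y hy => ?_) (Ideal.map_le_iff_le_comap.2 fun x hx => ?_)
    · have hy' : (1 : A) ⊗ₜ[P] y = 0 := e₁.injective (by rw [map_zero]; exact hy)
      let q : (P ⧸ J) ≃ₐ[P] A := Ideal.quotientKerAlgEquivOfSurjective (f := Algebra.ofId P A) hπ₁
      have h2 := congrArg (TensorProduct.congr q.symm.toLinearEquiv (LinearEquiv.refl P B₁)) hy'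
      rw [map_zero, TensorProduct.congr_tmul] at h2
      have h3 := congrArg (TensorProduct.quotTensorEquivQuotSMul B₁ J) h2
      rw [map_zero, show q.symm.toLinearEquiv 1 = Ideal.Quotient.mk J 1 from
          (map_one q.symm).trans (map_one _).symm,
        LinearEquiv.refl_apply, TensorProduct.quotTensorEquivQuotSMul_mk_tmul, one_smul,
        Submodule.Quotient.mk_eq_zero, Ideal.smul_top_eq_map, Submodule.restrictScalars_mem] at h3
      exact h3
    · change g (algebraMap P B₁ x) = 0
      rw [g.commutes, IsScalarTower.algebraMap_apply P A B, RingHom.mem_ker.1 hx, map_zero]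
  have hfg : (J.map (algebraMap P B₁)).FG := by
    have := Algebra.FinitePresentation.ker_fG_of_surjective (g.restrictScalars R) hg
    exact hker ▸ this
  refine Algebra.FinitePresentation.of_surjective (f := IsScalarTower.toAlgHom R P A) hπ₁
    (SpFP87.ideal_fg_of_map_eq J hfg fun p hp => ?_)
  obtain ⟨q, hq⟩ : ∃ q : PrimeSpectrum A, PrimeSpectrum.comap (algebraMap P A) q = p := by
    change p ∈ Set.range (PrimeSpectrum.comap (algebraMap P A))
    rw [range_comap_of_surjective A (algebraMap P A) hπ₁]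
    exact hp
  obtain ⟨Q, hQ⟩ := hs q
  refine ⟨PrimeSpectrum.comap g.toRingHom Q, ?_⟩
  rw [← hq, ← hQ, ← PrimeSpectrum.comap_comp_apply, ← PrimeSpectrum.comap_comp_apply]
  congr 1
  exact RingHom.ext fun x ↦ (g.commutes x).trans (IsScalarTower.algebraMap_apply P A B x)



set_option backward.isDefEq.respectTransparency.types false in
/-- Finite presentation descends along a flat, finitely presented cover. -/
theorem finitePresentation_of_fppf (R : Type u) {A B : Type u} [CommRing R] [CommRing A] [CommRing B]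
    [Algebra R A] [Algebra A B] [Algebra R B] [IsScalarTower R A B] [Algebra.FinitePresentation A B]
    [Module.Flat A B] (hs : Function.Surjective (PrimeSpectrum.comap (algebraMap A B)))
    [Algebra.FinitePresentation R B] : Algebra.FinitePresentation R A := by
  classical
  have : Algebra.FiniteType R A := finiteType_of_fppf R hs
  obtain ⟨n, π, hπ⟩ := Algebra.FiniteType.iff_quotient_mvPolynomial''.1 ‹_›
  obtain ⟨C, B₀, _, _, _, _, hC, _, _, ⟨e⟩⟩ := exists_flat_model A B
  have : Algebra.FinitePresentation ℤ C := Algebra.FinitePresentation.of_finiteType.mp hC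
  obtain ⟨m, ρ, hρ, hρker⟩ := Algebra.FinitePresentation.out (R := ℤ) (A := C)
  choose c hc using fun i ↦ hπ (algebraMap C A (ρ (MvPolynomial.X i)))
  let φ₀ : MvPolynomial (Fin m) ℤ →+* MvPolynomial (Fin n) R :=
    MvPolynomial.eval₂Hom (Int.castRingHom _) c
  have hφ₀ : π.toRingHom.comp φ₀ = (algebraMap C A).comp ρ.toRingHom :=
    MvPolynomial.ringHom_ext (fun r ↦ by simp [φ₀]) (fun i ↦ by simp [φ₀, hc])
  let I₁ := (RingHom.ker ρ.toRingHom).map φ₀
  have hI₁ : I₁.FG := hρker.map φ₀
  have hI₁le : I₁ ≤ RingHom.ker π.toRingHom := Ideal.map_le_iff_le_comap.mpr fun x hx ↦ by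
    show π.toRingHom.comp φ₀ x = 0
    rw [hφ₀, RingHom.comp_apply, RingHom.mem_ker.mp hx, map_zero]
  let P := MvPolynomial (Fin n) R ⧸ I₁
  have : Algebra.FinitePresentation R P := Algebra.FinitePresentation.quotient hI₁
  let π₁ : P →ₐ[R] A := Ideal.Quotient.liftₐ I₁ π fun a ha ↦ hI₁le ha
  have hπ₁ : Function.Surjective π₁ := fun a ↦ by
    obtain ⟨x, rfl⟩ := hπ a
    exact ⟨Ideal.Quotient.mk I₁ x, rfl⟩
  let ψ : C →+* P := RingHom.liftOfSurjective ρ.toRingHom hρ
    ⟨(Ideal.Quotient.mk I₁).comp φ₀, fun x hx ↦ by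
      rw [RingHom.mem_ker, RingHom.comp_apply, Ideal.Quotient.eq_zero_iff_mem]
      exact Ideal.mem_map_of_mem φ₀ hx⟩
  let : Algebra C P := ψ.toAlgebra
  let : Algebra P A := π₁.toRingHom.toAlgebra
  have : IsScalarTower R P A := .of_algebraMap_eq fun r ↦ (π₁.commutes r).symm
  have : IsScalarTower C P A := .of_algebraMap_eq fun x ↦ by
    obtain ⟨x, rfl⟩ := hρ x
    show algebraMap C A (ρ x) = π₁ (ψ (ρ x))
    rw [show ψ (ρ x) = Ideal.Quotient.mk I₁ (φ₀ x) from
      RingHom.liftOfRightInverse_comp_apply _ _ _ _ x]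
    exact (congr($hφ₀ x)).symm
  let : Algebra P B := ((algebraMap A B).comp (algebraMap P A)).toAlgebra
  have : IsScalarTower P A B := .of_algebraMap_eq' rfl
  have hRPB := IsScalarTower.of_algebraMap_eq (R := R) (S := P) (A := B) fun r ↦ by
    show algebraMap R B r = algebraMap A B (π₁ (algebraMap R P r))
    rw [π₁.commutes]
    exact IsScalarTower.algebraMap_apply R A B r
  exact finitePresentation_of_model R (P := P) hπ₁ e hs

end Groth.Agent.Unr55
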