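import Groth.Agent.Cons62.Etale
import Groth.Agent.Cons62.Iso
import Groth.Agent.Unr55.SmoothDesc
import Mathlib.RingTheory.Smooth.Locus
import Mathlib.AlgebraicGeometry.Morphisms.Smooth

/-! Constructibility of the locus over which the morphism induced on fibres is smooth. -/

universe u

open CategoryTheory CategoryTheory.Limits AlgebraicGeometry TopologicalSpace Topology TensorProduct
open Groth.Agent Groth.Agent.Cons62

namespace Groth.Agent.Unr55.ConsSmooth

attribute [local instance] Algebra.TensorProduct.rightAlgebra

theorem isStableUnderBaseChange_smooth :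
    MorphismProperty.IsStableUnderBaseChange (@Smooth : MorphismProperty Scheme.{u}) := inferInstance

theorem isZariskiLocalAtSource_smooth :
    IsZariskiLocalAtSource (@Smooth : MorphismProperty Scheme.{u}) := inferInstance

theorem respectsIso_smooth :
    MorphismProperty.RespectsIso (@Smooth : MorphismProperty Scheme.{u}) := inferInstance

theorem genericGood_smooth : GenericGood (@Smooth : MorphismProperty Scheme.{u}) := by
  intro A B C _ _ _ _ _ _
  have := respectsIso_smooth.{u}
  have := isStableUnderBaseChange_smooth.{u}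
  have := isZariskiLocalAtSource_smooth.{u}
  letI : Algebra A C := ((algebraMap B C).comp (algebraMap A B)).toAlgebra
  have : IsScalarTower A B C := .of_algebraMap_eq' rfl
  have : Algebra.FiniteType A C := Algebra.FiniteType.trans ‹_› ‹Algebra.FiniteType B C›
  have : IsNoetherianRing B := Algebra.FiniteType.isNoetherianRing A B
  have : IsNoetherianRing C := Algebra.FiniteType.isNoetherianRing A C
  have : Algebra.FinitePresentation B C := Algebra.FinitePresentation.of_finiteType.mp ‹_›
  have : Algebra.FinitePresentation A B := Algebra.FinitePresentation.of_finiteType.mp ‹_›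
  obtain ⟨h, h0, hfree⟩ := GenFree62.exists_freeAway (A := A) (B := C) (M := C)
  refine ⟨h, h0, ?_⟩
  let f := Spec.map (CommRingCat.ofHom (algebraMap B C))
  let g := Spec.map (CommRingCat.ofHom (algebraMap A B))
  have hψ : (algebraMap B C).FinitePresentation := RingHom.finitePresentation_algebraMap.mpr inferInstance
  have hφ : (algebraMap A B).FinitePresentation := RingHom.finitePresentation_algebraMap.mpr inferInstance
  let E := (PrimeSpectrum.comap (algebraMap A C) '' (Algebra.smoothLocus B C)ᶜ)ᶜ
  suffices ∀ s ∈ (PrimeSpectrum.basicOpen h : Set (PrimeSpectrum A)), (s ∈ goodSet @Smooth f g ↔ s ∈ E) by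
    rw [show (PrimeSpectrum.basicOpen h : Set (PrimeSpectrum A)) ∩ goodSet @Smooth f g =
      (PrimeSpectrum.basicOpen h : Set (PrimeSpectrum A)) ∩ E from
        Set.ext fun s => and_congr_right (this s)]
    refine ((PrimeSpectrum.isCompact_basicOpen h).isConstructible (PrimeSpectrum.basicOpen h).2).inter ?_
    exact isConstructible_compl.mpr (PrimeSpectrum.isConstructible_comap_image (hψ.comp hφ)
      (isConstructible_compl.mpr ((NoetherianSpace.isCompact _).isConstructible Algebra.isOpen_smoothLocus)))
  intro s hs
  refine ⟨fun hsm => ?_, fun hE => ?_⟩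
  · rintro ⟨x, hx, rfl⟩
    refine hx ?_
    set s := PrimeSpectrum.comap (algebraMap A C) x with hsdef
    have hsm' := (spec_fibre (A := A) (B := B) (C := C) @Smooth s).mp hsm
    rw [HasRingHomProperty.Spec_iff (P := @Smooth), CommRingCat.hom_ofHom] at hsm'
    erw [RingHom.smooth_algebraMap] at hsm'
    let D' := s.asIdeal.ResidueField ⊗[A] B
    have hflatA : Module.Flat A (Localization.AtPrime x.asIdeal ⊗[C] C) :=
      flat_atPrime_of_freeAway hfree x.asIdeal hs
    have hflatB : Module.Flat B (Localization.AtPrime x.asIdeal ⊗[C] C) :=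
      flat_of_fibre_flat (A := A) x.asIdeal C
        (inferInstance : Module.Flat (s.asIdeal.ResidueField ⊗[A] B)
          ((s.asIdeal.ResidueField ⊗[A] B) ⊗[B] C))
    have : Module.Flat B (Localization.AtPrime x.asIdeal) :=
      Module.Flat.of_linearEquiv
        ((TensorProduct.rid C (Localization.AtPrime x.asIdeal)).restrictScalars B).symm
    let q := x.asIdeal.comap (algebraMap B C)
    have : x.asIdeal.LiesOver q := ⟨rfl⟩
    let κq := q.ResidueField
    have hker : s.asIdeal ≤ RingHom.ker (algebraMap A κq) := fun a ha => by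
      rw [RingHom.mem_ker, IsScalarTower.algebraMap_apply A B κq]
      exact Ideal.algebraMap_residueField_eq_zero.mpr ha
    have hunit : s.asIdeal.primeCompl ≤ Submonoid.comap (algebraMap A κq) (IsUnit.submonoid κq) := fun a ha => by
      rw [Submonoid.mem_comap, IsUnit.mem_submonoid_iff, isUnit_iff_ne_zero,
        IsScalarTower.algebraMap_apply A B κq]
      exact fun h0 => ha (show algebraMap A B a ∈ q from Ideal.algebraMap_residueField_eq_zero.mp h0)
    let ι : s.asIdeal.ResidueField →ₐ[A] κq := Ideal.ResidueField.liftₐ s.asIdeal (Algebra.ofId A κq) hker hunit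
    let φ : D' →ₐ[A] κq := Algebra.TensorProduct.lift ι (IsScalarTower.toAlgHom A B κq) fun _ _ => .all _ _
    let : Algebra D' κq := φ.toRingHom.toAlgebra
    have : IsScalarTower B D' κq := IsScalarTower.of_algebraMap_eq fun b => by
      change algebraMap B κq b = φ (1 ⊗ₜ b)
      change _ = Algebra.TensorProduct.lift ι (IsScalarTower.toAlgHom A B κq) _ (1 ⊗ₜ b)
      rw [Algebra.TensorProduct.lift_tmul, map_one, one_mul]
      rfl
    have : Algebra.Smooth κq (κq ⊗[B] C) :=
      Algebra.Smooth.of_equiv (Algebra.TensorProduct.cancelBaseChange B D' κq κq C)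
    obtain ⟨Q, hQ⟩ : ∃ Q : PrimeSpectrum (q.Fiber C),
        PrimeSpectrum.comap Algebra.TensorProduct.includeRight.toRingHom Q = x := by
      have hx' : x ∈ PrimeSpectrum.comap (algebraMap B C) ⁻¹' {⟨q, inferInstance⟩} := rfl
      exact ⟨PrimeSpectrum.preimageEquivFiber B C ⟨q, inferInstance⟩ ⟨x, hx'⟩, congrArg Subtype.val
        ((PrimeSpectrum.preimageEquivFiber B C ⟨q, inferInstance⟩).symm_apply_apply ⟨x, hx'⟩)⟩
    have : Algebra.IsSmoothAt κq Q.asIdeal :=
      Set.eq_univ_iff_forall.mp (Algebra.smoothLocus_eq_univ (R := κq) (A := q.Fiber C)) Q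
    exact Unr55.isSmoothAt_of_flat_of_fibre q x.asIdeal Q.asIdeal (congrArg PrimeSpectrum.asIdeal hQ)
  · refine prop_snd_of_cover f _ fun p => ?_
    set x := pullback.fst f (pullback.fst g ((Spec A).fromSpecResidueField s)) p
    have hxs : PrimeSpectrum.comap (algebraMap A C) x = s := by
      let b := pullback.fst g ((Spec A).fromSpecResidueField s)
      have h1 : f x = b (pullback.snd f b p) := by
        rw [← Scheme.Hom.comp_apply, ← Scheme.Hom.comp_apply, pullback.condition]
      have h2 := (range_fst_fib g s).le (Set.mem_range_self (pullback.snd f b p))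
      have h3 : g (f x) = s := (congrArg g h1).trans h2
      exact h3
    have hx : x ∈ Algebra.smoothLocus B C := by_contra fun hh => hE ⟨x, hh, hxs⟩
    obtain ⟨_, ⟨c, rfl⟩, hxc, hc⟩ :=
      PrimeSpectrum.isTopologicalBasis_basic_opens.exists_subset_of_mem_open hx Algebra.isOpen_smoothLocus
    have : Algebra.Smooth B (Localization.Away c) :=
      Algebra.basicOpen_subset_smoothLocus_iff_smooth.mp hc
    refine ⟨_, Spec.map (CommRingCat.ofHom (algebraMap C (Localization.Away c))),
      IsOpenImmersion.of_isLocalization c, ?_, ?_⟩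
    · exact (PrimeSpectrum.localization_away_comap_range (Localization.Away c) c).ge hxc
    · rw [← Spec.map_comp, ← CommRingCat.ofHom_comp, ← IsScalarTower.algebraMap_eq,
        HasRingHomProperty.Spec_iff (P := @Smooth), CommRingCat.hom_ofHom]
      exact RingHom.smooth_algebraMap.mpr inferInstance

theorem descendsAlong_smooth :
    MorphismProperty.DescendsAlong (@Smooth : MorphismProperty Scheme.{u}) fpqcProp.{u} := inferInstance

theorem cons_smooth {X Y S : Scheme.{u}} (f : X ⟶ Y) (g : Y ⟶ S) (h : FP f g) :
    IsLocallyConstructible (goodSet @Smooth f g) := by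
  have := respectsIso_smooth.{u}
  have := isStableUnderBaseChange_smooth.{u}
  have := isZariskiLocalAtSource_smooth.{u}
  have := descendsAlong_smooth.{u}
  refine cons_of_genericGood (fun {A B C} x m hm => ⟨fun h' => ?_, fun h' => ?_⟩) genericGood_smooth f g h
  · have := h'; have := hm
    have sq : IsPullback (𝟙 A) x (x ≫ m) m := IsPullback.of_horiz_isIso_mono ⟨by simp⟩
    exact MorphismProperty.of_isPullback (P := @Smooth) sq h'
  · have := h'; have := hm
    infer_instance

end Groth.Agent.Unr55.ConsSmooth
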