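import Mathlib.RingTheory.Kaehler.Basic
import Mathlib.RingTheory.Adjoin.Polynomial.Basic
import Mathlib.Algebra.Polynomial.Derivation

/-!
Differentials of monogenic algebras.
-/

universe u

open Polynomial

namespace Groth.Agent.Unr55

variable {A B : Type u} [CommRing A] [CommRing B] [Algebra A B]

theorem aeval_surjective_of_adjoin (u : B) (hu : Algebra.adjoin A ({u} : Set B) = ⊤) :
    Function.Surjective (aeval u : A[X] →ₐ[A] B) := by
  rw [← AlgHom.range_eq_top, ← Algebra.adjoin_singleton_eq_range_aeval]
  exact hu

theorem smul_D_eq_zero {u : B} {F : A[X]} (hF : aeval u F = 0) :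
    aeval u (derivative F) • KaehlerDifferential.D A B u = 0 := by
  have := congrArg (KaehlerDifferential.D A B) hF
  rwa [Derivation.map_aeval, map_zero] at this

theorem derivative_mem_annihilator (u : B) (hu : Algebra.adjoin A ({u} : Set B) = ⊤)
    {F : A[X]} (hF : aeval u F = 0) :
    aeval u (derivative F) ∈ Module.annihilator B (KaehlerDifferential A B) := by
  rw [← Submodule.annihilator_top, ← KaehlerDifferential.span_range_derivation,
    Submodule.mem_annihilator_span]
  rintro ⟨_, b, rfl⟩
  obtain ⟨g, rfl⟩ := aeval_surjective_of_adjoin u hu b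
  change _ • KaehlerDifferential.D A B (aeval u g) = 0
  rw [Derivation.map_aeval, smul_comm, smul_D_eq_zero hF, smul_zero]

/-- If the derivatives of the relations of a monogenic algebra lie in `J`, then so does the
annihilator of the differentials. -/
theorem annihilator_le (u : B) (hu : Algebra.adjoin A ({u} : Set B) = ⊤) (J : Ideal B)
    (hJ : ∀ g : A[X], aeval u g = 0 → aeval u (derivative g) ∈ J) :
    Module.annihilator B (KaehlerDifferential A B) ≤ J := by
  classical
  have hs := aeval_surjective_of_adjoin u hu
  let d : B → B ⧸ J := fun b ↦ Ideal.Quotient.mk J (aeval u (derivative (Function.surjInv hs b)))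
  have hd : ∀ g, d (aeval u g) = Ideal.Quotient.mk J (aeval u (derivative g)) := fun g ↦ by
    rw [Ideal.Quotient.eq, ← map_sub, ← derivative_sub]
    exact hJ _ (by rw [map_sub, Function.surjInv_eq hs, sub_self])
  have hadd : ∀ x y, d (x + y) = d x + d y := fun x y ↦ by
    obtain ⟨g, rfl⟩ := hs x
    obtain ⟨g', rfl⟩ := hs y
    rw [← map_add, hd, hd, hd, derivative_add, map_add, map_add]
  have hsmul : ∀ (a : A) x, d (a • x) = a • d x := fun a x ↦ by
    obtain ⟨g, rfl⟩ := hs x
    rw [← map_smul, hd, hd, derivative_smul, map_smul]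
    exact map_smul (Ideal.Quotient.mkₐ A J) a _
  let dl : B →ₗ[A] B ⧸ J := { toFun := d, map_add' := hadd, map_smul' := hsmul }
  let D : Derivation A B (B ⧸ J) := Derivation.mk' dl fun x y ↦ by
    obtain ⟨g, rfl⟩ := hs x
    obtain ⟨g', rfl⟩ := hs y
    change d _ = _ • d _ + _ • d _
    rw [← map_mul, hd, hd, hd, derivative_mul, map_add, map_mul, map_mul, map_add, map_mul,
      map_mul, Algebra.smul_def, Algebra.smul_def, Ideal.Quotient.algebraMap_eq]
    ring
  intro c hc
  have h1 : c • D u = 0 := by
    rw [← Derivation.liftKaehlerDifferential_comp_D D u, ← map_smul,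
      Module.mem_annihilator.mp hc, map_zero]
  have h2 : D u = 1 := by
    change d u = 1
    conv_lhs => rw [show u = aeval u (X : A[X]) from (aeval_X u).symm]
    rw [hd, derivative_X, map_one, map_one]
  rw [h2, Algebra.smul_def, mul_one, Ideal.Quotient.algebraMap_eq,
    Ideal.Quotient.eq_zero_iff_mem] at h1
  exact h1

end Groth.Agent.Unr55
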