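import Groth.Agent.Unr55.FinEt
import Groth.Agent.Unr55.Monogenic
import Mathlib.GroupTheory.CosetCover
import Mathlib.FieldTheory.PrimitiveElement
import Mathlib.RingTheory.Etale.Field
import Mathlib.RingTheory.AdjoinRoot
import Mathlib.RingTheory.IsAdjoinRoot
import Mathlib.RingTheory.FiniteType
import Mathlib.RingTheory.LocalRing.Module

/-!
Finite unramified and étale algebras over a local ring are monogenic when the residue field is
infinite or the algebra is local.
-/

set_option autoImplicit false

universe u

open Polynomial IsLocalRing TensorProduct Module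

namespace Groth.Agent.Unr55

section Field

variable (k C : Type u) [Field k] [CommRing C] [Algebra k C] [Algebra.Etale k C] [Module.Finite k C]

/-- An étale algebra over an infinite field has a generator with separable minimal polynomial. -/
theorem exists_separable_generator_of_infinite [Infinite k] :
    ∃ b : C, (minpoly k b).Separable ∧ (minpoly k b).natDegree = finrank k C := by
  classical
  let L := AlgebraicClosure k
  let D := L ⊗[k] C
  let e : D ≃ₐ[L] (PrimeSpectrum D → L) := Algebra.FormallyEtale.equivPiOfIsSepClosed L D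
  have hD : IsArtinianRing D := isArtinian_of_tower L inferInstance
  have : Finite (PrimeSpectrum D) := inferInstance
  have := Fintype.ofFinite (PrimeSpectrum D)
  have hcard : Fintype.card (PrimeSpectrum D) = finrank k C := by
    rw [← Module.finrank_baseChange (R := L) (S := k) (M' := C), e.toLinearEquiv.finrank_eq,
      Module.finrank_fintype_fun_eq_card]
  let φ : PrimeSpectrum D → C →ₐ[k] L := fun i ↦
    ((Pi.evalAlgHom L (fun _ : PrimeSpectrum D ↦ L) i).comp e.toAlgHom).restrictScalars k |>.comp
      Algebra.TensorProduct.includeRight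
  have hφ : Function.Injective φ := by
    intro i j hij
    by_contra hne
    have key : ∀ d : D, e d i = e d j := fun d ↦ by
      induction d using TensorProduct.induction_on with
      | zero => simp
      | add a b ha hb => simp [map_add, ha, hb]
      | tmul l c =>
        have h1 : (l ⊗ₜ[k] c : D) = l • ((1 : L) ⊗ₜ[k] c) := by simp [smul_tmul']
        have h2 : φ i c = φ j c := by rw [hij]
        rw [h1, map_smul, Pi.smul_apply, Pi.smul_apply]
        exact congrArg (l • ·) h2
    obtain ⟨d, hd⟩ := e.surjective (Pi.single i 1)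
    have := key d
    rw [hd, Pi.single_eq_same, Pi.single_eq_of_ne (Ne.symm hne)] at this
    exact one_ne_zero this
  let S : {p : PrimeSpectrum D × PrimeSpectrum D // p.1 ≠ p.2} → Submodule k C :=
    fun p ↦ LinearMap.ker ((φ p.1.1).toLinearMap - (φ p.1.2).toLinearMap)
  obtain ⟨b, hb⟩ : ∃ b, ∀ p, b ∉ S p := by
    by_contra! h
    obtain ⟨p, hp⟩ := Subspace.exists_eq_top_of_iUnion_eq_univ
      (Set.eq_univ_of_forall fun b ↦ Set.mem_iUnion.mpr (h b) : ⋃ p, (S p : Set C) = Set.univ)
    refine p.2 (hφ (AlgHom.ext fun c ↦ ?_))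
    have : c ∈ S p := hp ▸ Submodule.mem_top
    simpa [S, sub_eq_zero] using this
  have hint : IsIntegral k b := Algebra.IsIntegral.isIntegral b
  let f := (minpoly k b).map (algebraMap k L)
  have hf0 : f ≠ 0 := Polynomial.map_ne_zero (minpoly.ne_zero hint)
  have hroot : ∀ i, φ i b ∈ f.roots := fun i ↦ by
    rw [mem_roots hf0, IsRoot, eval_map_algebraMap, aeval_algHom_apply, minpoly.aeval, map_zero]
  have hinj : Function.Injective fun i ↦ φ i b := fun i j hij ↦ by
    by_contra hne
    exact hb ⟨(i, j), hne⟩ (by simpa [S, sub_eq_zero] using hij)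
  have h1 : finrank k C ≤ f.roots.toFinset.card := by
    rw [← hcard, ← Finset.card_univ, ← Finset.card_image_of_injective _ hinj]
    exact Finset.card_le_card fun x hx ↦ by
      obtain ⟨i, -, rfl⟩ := Finset.mem_image.mp hx
      exact Multiset.mem_toFinset.mpr (hroot i)
  have h2 : Multiset.card f.roots ≤ f.natDegree := card_roots' f
  have h3 : f.natDegree = (minpoly k b).natDegree := natDegree_map _
  have h4 : (minpoly k b).natDegree ≤ finrank k C := minpoly.natDegree_le b
  have h5 := Multiset.toFinset_card_le f.roots
  refine ⟨b, ?_, by omega⟩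
  rw [← separable_map (algebraMap k L), ← nodup_roots_iff_of_splits hf0 (IsAlgClosed.splits f),
    ← Multiset.toFinset_card_eq_card_iff_nodup]
  omega

/-- An étale algebra which is a field has a generator with separable minimal polynomial. -/
theorem exists_separable_generator_of_isLocalRing [IsLocalRing C] :
    ∃ b : C, (minpoly k b).Separable ∧ (minpoly k b).natDegree = finrank k C := by
  have : IsArtinianRing C := isArtinian_of_tower k inferInstance
  have : IsReduced C := Algebra.FormallyUnramified.isReduced_of_field k C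
  have hfield : IsField C := IsArtinianRing.isField_of_isReduced_of_isLocalRing C
  let := hfield.toField
  have : Algebra.IsSeparable k C := Algebra.FormallyUnramified.isSeparable k C
  obtain ⟨b, hb⟩ := Field.exists_primitive_element k C
  refine ⟨b, Algebra.IsSeparable.isSeparable k b, ?_⟩
  rw [← IntermediateField.adjoin.finrank (Algebra.IsIntegral.isIntegral b), hb,
    IntermediateField.finrank_top']

end Field

section Local

variable {A B : Type u} [CommRing A] [IsLocalRing A] [CommRing B] [Algebra A B]

/-- A monic polynomial which is separable modulo the maximal ideal is separable. -/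
theorem separable_of_map_residue {F : A[X]} (hF : F.Monic)
    (h : (F.map (residue A)).Separable) : F.Separable := by
  obtain ⟨a, b, hab⟩ := h
  obtain ⟨a, rfl⟩ := map_surjective _ residue_surjective a
  obtain ⟨b, rfl⟩ := map_surjective _ residue_surjective b
  rw [derivative_map, ← Polynomial.map_mul, ← Polynomial.map_mul, ← Polynomial.map_add] at hab
  let J : Ideal A[X] := Ideal.span {F, derivative F}
  have : Module.Finite A (A[X] ⧸ Ideal.span ({F} : Set A[X])) := hF.finite_quotient
  have hFJ : Ideal.span ({F} : Set A[X]) ≤ J := Ideal.span_mono (by simp)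
  have : Module.Finite A (A[X] ⧸ J) :=
    Module.Finite.of_surjective (Ideal.Quotient.factorₐ A hFJ).toLinearMap
      (Ideal.Quotient.factor_surjective hFJ)
  have key : ∀ g : A[X], g.map (residue A) = 0 →
      Ideal.Quotient.mk J g ∈ maximalIdeal A • (⊤ : Submodule A (A[X] ⧸ J)) := by
    intro g hg
    rw [← Polynomial.sum_monomial_eq g, Polynomial.sum, map_sum]
    refine sum_mem fun m _ ↦ ?_
    have hr : g.coeff m ∈ maximalIdeal A := by
      rw [← Ideal.Quotient.eq_zero_iff_mem]
      have := congrArg (coeff · m) hg
      rwa [coeff_map, coeff_zero] at this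
    rw [← mul_one (g.coeff m), ← smul_eq_mul, ← smul_monomial]
    change Ideal.Quotient.mkₐ A J (g.coeff m • monomial m 1) ∈ _
    rw [map_smul]
    exact Submodule.smul_mem_smul hr trivial
  have hle : (⊤ : Submodule A (A[X] ⧸ J)) ≤ maximalIdeal A • ⊤ := by
    intro z _
    obtain ⟨g, rfl⟩ := Ideal.Quotient.mk_surjective z
    have h0 : Ideal.Quotient.mk J (g * (a * F + b * derivative F)) = 0 := by
      rw [Ideal.Quotient.eq_zero_iff_mem]
      exact J.mul_mem_left _ (J.add_mem (J.mul_mem_left _ (Ideal.subset_span (by simp)))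
        (J.mul_mem_left _ (Ideal.subset_span (by simp))))
    have := key (g - g * (a * F + b * derivative F))
      (by rw [Polynomial.map_sub, Polynomial.map_mul, hab, mul_one, sub_self])
    rwa [map_sub, h0, sub_zero] at this
  have htop := Submodule.eq_bot_of_le_smul_of_le_jacobson_bot _ _ Module.Finite.fg_top hle
    (jacobson_eq_maximalIdeal ⊥ bot_ne_top).ge
  have h1 : (1 : A[X]) ∈ J := by
    rw [← Ideal.Quotient.eq_zero_iff_mem]
    exact (Submodule.mem_bot A).mp (htop ▸ Submodule.mem_top)
  obtain ⟨c, d, hcd⟩ := Ideal.mem_span_pair.mp h1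
  exact ⟨c, d, hcd⟩

/-- Monogenicity of finite unramified algebras. -/
theorem exists_separable_presentation [Module.Finite A B]
    (h : Infinite (ResidueField A) ∨ IsLocalRing B) [Algebra.FormallyUnramified A B] :
    ∃ F : A[X], F.Monic ∧ F.Separable ∧
      F.natDegree = finrank (ResidueField A) (ResidueField A ⊗[A] B) ∧
      ∃ φ : (A[X] ⧸ Ideal.span {F}) →ₐ[A] B, Function.Surjective φ := by
  let k := ResidueField A
  let C := k ⊗[A] B
  have : Algebra.Etale k C := (formallyUnramified_iff_etale_residue A B).mp ‹_›
  have hmk := TensorProduct.mk_surjective A B k residue_surjective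
  obtain ⟨b, hsep, hdeg⟩ : ∃ b : C, (minpoly k b).Separable ∧
      (minpoly k b).natDegree = finrank k C := by
    rcases h with h | h
    · exact exists_separable_generator_of_infinite k C
    · by_cases hC : Nontrivial C
      · have : IsLocalRing C := IsLocalRing.of_surjective'
          (Algebra.TensorProduct.includeRight (R := A) (A := k) (B := B)).toRingHom hmk
        exact exists_separable_generator_of_isLocalRing k C
      · have := not_nontrivial_iff_subsingleton.mp hC
        have h1 : minpoly k (0 : C) = 1 := minpoly.subsingleton k 0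
        exact ⟨0, h1 ▸ separable_one, by rw [h1, natDegree_one, finrank_zero_of_subsingleton]⟩
  set n := finrank k C
  obtain ⟨u, hu⟩ := hmk b
  have hli := linearIndependent_pow (K := k) b
  let v : Fin n → C := fun i ↦ b ^ (i : ℕ)
  have hv : LinearIndependent k v :=
    hli.comp (finCongr hdeg.symm) (finCongr hdeg.symm).injective
  have hspan : Submodule.span k (Set.range v) = ⊤ :=
    hv.span_eq_top_of_card_eq_finrank' (Fintype.card_fin n)
  have hspanB : Submodule.span A (Set.range fun i : Fin n ↦ u ^ (i : ℕ)) = ⊤ := by
    rw [← map_mkQ_eq_top, eq_top_iff]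
    rintro z -
    obtain ⟨w, rfl⟩ := Submodule.mkQ_surjective _ z
    let Φ : C ≃ₗ[A] B ⧸ (maximalIdeal A • ⊤ : Submodule A B) :=
      TensorProduct.quotTensorEquivQuotSMul B (maximalIdeal A)
    have hΦ : ∀ x : B, Φ ((1 : k) ⊗ₜ x) = Submodule.mkQ _ x := fun x ↦ by
      change TensorProduct.quotTensorEquivQuotSMul B (maximalIdeal A)
        (Ideal.Quotient.mk (maximalIdeal A) 1 ⊗ₜ x) = _
      rw [TensorProduct.quotTensorEquivQuotSMul_mk_tmul, one_smul]
      rfl
    rw [← hΦ]
    have hw : (1 : k) ⊗ₜ[A] w ∈ Submodule.span A (Set.range v) := by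
      have := (Submodule.restrictScalars_span A k residue_surjective (Set.range v)).le
      have h' : (1 : k) ⊗ₜ[A] w ∈ (Submodule.span k (Set.range v)).restrictScalars A := by
        rw [hspan]; trivial
      rwa [Submodule.restrictScalars_span A k residue_surjective] at h'
    have := Submodule.mem_map_of_mem (f := Φ.toLinearMap) hw
    rw [Submodule.map_span] at this
    rw [Submodule.map_span]
    refine Submodule.span_mono ?_ this
    rintro _ ⟨_, ⟨i, rfl⟩, rfl⟩
    refine ⟨u ^ (i : ℕ), ⟨i, rfl⟩, ?_⟩
    rw [← hΦ]
    show Φ _ = Φ (b ^ (i : ℕ))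
    rw [← hu]
    exact congrArg Φ ((Algebra.TensorProduct.tmul_pow _ _ _).trans (by rw [one_pow])).symm
  obtain ⟨c, hc⟩ := (Submodule.mem_span_range_iff_exists_fun A).mp
    (hspanB ▸ Submodule.mem_top : u ^ n ∈ Submodule.span A (Set.range fun i : Fin n ↦ u ^ (i : ℕ)))
  let F : A[X] := X ^ n - ∑ i : Fin n, Polynomial.C (c i) * X ^ (i : ℕ)
  have hlt : (∑ i : Fin n, Polynomial.C (c i) * X ^ (i : ℕ)).degree < (n : WithBot ℕ) :=
    degree_sum_fin_lt (fun i : Fin n ↦ c i)
  have hFm : F.Monic := monic_X_pow_sub hlt
  have hFd : F.natDegree = n := by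
    apply natDegree_eq_of_degree_eq_some
    rw [degree_sub_eq_left_of_degree_lt (by simpa [degree_X_pow] using hlt), degree_X_pow]
  have hFu : aeval u F = 0 := by
    simp [F, ← hc, Algebra.smul_def]
  have hFb : aeval b (F.map (residue A)) = 0 := by
    change aeval b (F.map (algebraMap A k)) = 0
    rw [aeval_map_algebraMap, ← hu]
    change aeval (Algebra.TensorProduct.includeRight u) F = 0
    rw [aeval_algHom_apply, hFu, map_zero]
  have hmin : minpoly k b = F.map (residue A) := by
    refine (eq_of_monic_of_dvd_of_natDegree_le (minpoly.monic (Algebra.IsIntegral.isIntegral b))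
      (hFm.map _) (minpoly.dvd k b hFb) ?_).symm
    rw [hFm.natDegree_map, hFd, hdeg]
  refine ⟨F, hFm, separable_of_map_residue hFm (hmin ▸ hsep), hFd,
    Ideal.Quotient.liftₐ _ (aeval u) (fun a ha ↦ ?_), ?_⟩
  · obtain ⟨g, rfl⟩ := Ideal.mem_span_singleton'.mp ha
    rw [map_mul, hFu, mul_zero]
  · apply Ideal.Quotient.lift_surjective_of_surjective
    intro x
    obtain ⟨d, hd⟩ := (Submodule.mem_span_range_iff_exists_fun A).mp
      (hspanB ▸ Submodule.mem_top : x ∈ Submodule.span A (Set.range fun i : Fin n ↦ u ^ (i : ℕ)))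
    exact ⟨∑ i, Polynomial.C (d i) * X ^ (i : ℕ), by simp [← hd, Algebra.smul_def]⟩

end Local

section Converse

variable {A B : Type u} [CommRing A] [CommRing B] [Algebra A B]

theorem formallyUnramified_quotient_of_separable {F : A[X]} (h : F.Separable) :
    Algebra.FormallyUnramified A (A[X] ⧸ Ideal.span ({F} : Set A[X])) := by
  let Q := A[X] ⧸ Ideal.span ({F} : Set A[X])
  let u : Q := Ideal.Quotient.mkₐ A _ X
  have hu : aeval u = Ideal.Quotient.mkₐ A (Ideal.span ({F} : Set A[X])) := by ext; simp [u]; rfl
  have hadj : Algebra.adjoin A ({u} : Set Q) = ⊤ := by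
    rw [Algebra.adjoin_singleton_eq_range_aeval, AlgHom.range_eq_top, hu]
    exact Ideal.Quotient.mk_surjective
  have hF : aeval u F = 0 := by
    rw [hu]
    exact Ideal.Quotient.eq_zero_iff_mem.mpr (Ideal.mem_span_singleton_self F)
  obtain ⟨a, b, hab⟩ := h
  have hunit : IsUnit (aeval u (derivative F)) := by
    have := congrArg (aeval u) hab
    rw [map_add, map_mul, map_mul, hF, mul_zero, zero_add, map_one] at this
    exact IsUnit.of_mul_eq_one _ (mul_comm (aeval u b) _ ▸ this)
  have := Ideal.eq_top_of_isUnit_mem _ (derivative_mem_annihilator u hadj hF) hunit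
  exact ⟨(Module.annihilator_eq_top_iff).mp this⟩

theorem formallyUnramified_of_separable_presentation {F : A[X]} (h : F.Separable)
    (φ : (A[X] ⧸ Ideal.span ({F} : Set A[X])) →ₐ[A] B) (hφ : Function.Surjective φ) :
    Algebra.FormallyUnramified A B :=
  have := formallyUnramified_quotient_of_separable h
  Algebra.FormallyUnramified.of_surjective φ hφ

theorem formallyEtale_of_separable_presentation {F : A[X]} (hm : F.Monic) (h : F.Separable)
    (e : (A[X] ⧸ Ideal.span ({F} : Set A[X])) ≃ₐ[A] B) : Algebra.FormallyEtale A B := by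
  have := formallyUnramified_quotient_of_separable h
  have : Module.Free A (A[X] ⧸ Ideal.span ({F} : Set A[X])) := hm.free_quotient
  have : Algebra.FinitePresentation A (A[X] ⧸ Ideal.span ({F} : Set A[X])) :=
    .quotient ⟨{F}, by simp⟩
  have := Algebra.Etale.of_formallyUnramified_of_flat (R := A)
    (S := A[X] ⧸ Ideal.span ({F} : Set A[X]))
  exact (Algebra.FormallyEtale.iff_of_equiv e).mp inferInstance

theorem exists_separable_presentation_of_etale [IsLocalRing A] [Module.Finite A B]
    [Algebra.FinitePresentation A B] [Algebra.FormallyEtale A B]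
    (h : Infinite (ResidueField A) ∨ IsLocalRing B) :
    ∃ F : A[X], F.Monic ∧ F.Separable ∧
      F.natDegree = finrank (ResidueField A) (ResidueField A ⊗[A] B) ∧
      Nonempty ((A[X] ⧸ Ideal.span {F}) ≃ₐ[A] B) := by
  obtain ⟨F, hm, hs, hd, φ, hφ⟩ := exists_separable_presentation (A := A) (B := B) h
  refine ⟨F, hm, hs, hd, ⟨AlgEquiv.ofBijective φ ⟨?_, hφ⟩⟩⟩
  have : Algebra.Etale A B := ⟨inferInstance, inferInstance⟩
  have : Module.Free A B := Module.free_of_flat_of_isLocalRing
  have : Module.Free A (A[X] ⧸ Ideal.span ({F} : Set A[X])) := hm.free_quotient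
  have : Module.Finite A (A[X] ⧸ Ideal.span ({F} : Set A[X])) := hm.finite_quotient
  let e := LinearEquiv.ofFinrankEq (R := A)
    (A[X] ⧸ Ideal.span ({F} : Set A[X])) B (by
      rw [finrank_quotient_span_eq_natDegree' hm, hd, Module.finrank_baseChange])
  have := OrzechProperty.injective_of_surjective_endomorphism
    (e.symm.toLinearMap ∘ₗ φ.toLinearMap) (e.symm.surjective.comp hφ)
  exact Function.Injective.of_comp this

end Converse

end Groth.Agent.Unr55
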