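import Mathlib.RingTheory.Unramified.Locus
import Mathlib.RingTheory.Kaehler.TensorProduct
import Mathlib.RingTheory.Flat.FaithfullyFlat.Algebra
import Mathlib.RingTheory.Flat.Localization
import Mathlib.RingTheory.LocalRing.Module
import Mathlib.RingTheory.LocalRing.ResidueField.Ideal

/-!
Descent of unramifiedness and flatness at a point along a flat base change.
-/

universe u

open TensorProduct

namespace Groth.Agent.Unr55

/-- Flatness descends along a faithfully flat extension of the algebra. -/
theorem flat_of_flat_of_faithfullyFlat (R A B : Type u) [CommRing R] [CommRing A] [CommRing B]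
    [Algebra R A] [Algebra R B] [Algebra A B] [IsScalarTower R A B] [Module.Flat R B]
    [Module.FaithfullyFlat A B] : Module.Flat R A := by
  rw [Module.Flat.iff_lTensor_preserves_injective_linearMap]
  intro M N _ _ _ _ f hf
  let g : A ⊗[R] M →ₗ[A] A ⊗[R] N := AlgebraTensorModule.lTensor A A f
  suffices Function.Injective g from this
  rw [← Module.FaithfullyFlat.lTensor_injective_iff_injective A B]
  have h : (AlgebraTensorModule.cancelBaseChange R A B B N).toLinearMap.restrictScalars R ∘ₗ
      (g.lTensor B).restrictScalars R =
      f.lTensor B ∘ₗ (AlgebraTensorModule.cancelBaseChange R A B B M).toLinearMap.restrictScalars R := by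
    refine LinearMap.ext fun z ↦ ?_
    induction z with
    | zero => simp
    | add x y hx hy => simp only [map_add, hx, hy]
    | tmul b x =>
      induction x with
      | zero => simp
      | add x y hx hy => simp only [tmul_add, map_add, hx, hy]
      | tmul a m => simp [g]
  refine Function.Injective.of_comp
    (f := AlgebraTensorModule.cancelBaseChange R A B B N) ?_
  rw [show (⇑(AlgebraTensorModule.cancelBaseChange R A B B N) ∘ ⇑(g.lTensor B)) =
    ⇑(f.lTensor B) ∘ ⇑(AlgebraTensorModule.cancelBaseChange R A B B M) from congrArg DFunLike.coe h]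
  exact (Module.Flat.lTensor_preserves_injective_linearMap f hf).comp
    (LinearEquiv.injective _)

section

variable {R S R' : Type u} [CommRing R] [CommRing S] [Algebra R S] [CommRing R'] [Algebra R R']
  (Q : Ideal (R' ⊗[R] S)) [Q.IsPrime]

/-- Unramifiedness at a point descends. -/
theorem isUnramifiedAt_of_baseChange [Algebra.EssFiniteType R S]
    (h : Algebra.IsUnramifiedAt R' Q) :
    Algebra.IsUnramifiedAt R (Q.comap Algebra.TensorProduct.includeRight.toRingHom) := by
  let := Algebra.TensorProduct.rightAlgebra (R := R) (A := R') (B := S)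
  let q := Q.comap (algebraMap S (R' ⊗[R] S))
  change Algebra.IsUnramifiedAt R q
  have : Q.LiesOver q := ⟨rfl⟩
  let := Localization.AtPrime.algebraOfLiesOver q Q
  have h1 : (⟨Q, ‹_›⟩ : PrimeSpectrum (R' ⊗[R] S)) ∉
      Module.support (R' ⊗[R] S) ((R' ⊗[R] S) ⊗[S] Ω[S⁄R]) := by
    rw [(KaehlerDifferential.tensorKaehlerEquiv R R' S (R' ⊗[R] S)).support_eq]
    have h' : (⟨Q, ‹_›⟩ : PrimeSpectrum _) ∈ Algebra.unramifiedLocus R' (R' ⊗[R] S) := h
    rwa [Algebra.unramifiedLocus_eq_compl_support] at h'
  rw [Module.mem_support_iff_nontrivial_residueField_tensorProduct,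
    not_nontrivial_iff_subsingleton] at h1
  have h2 : Subsingleton (Q.ResidueField ⊗[q.ResidueField] (q.ResidueField ⊗[S] Ω[S⁄R])) :=
    ((AlgebraTensorModule.cancelBaseChange S q.ResidueField Q.ResidueField Q.ResidueField _).trans
      (AlgebraTensorModule.cancelBaseChange S (R' ⊗[R] S) Q.ResidueField Q.ResidueField _).symm).subsingleton
  have h3 : Subsingleton (q.ResidueField ⊗[S] Ω[S⁄R]) :=
    (Module.FaithfullyFlat.subsingleton_tensorProduct_iff_right q.ResidueField Q.ResidueField).mp h2
  rw [← not_nontrivial_iff_subsingleton,
    ← Module.mem_support_iff_nontrivial_residueField_tensorProduct ⟨q, inferInstance⟩] at h3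
  have h4 : (⟨q, inferInstance⟩ : PrimeSpectrum S) ∈ Algebra.unramifiedLocus R S := by
    rw [Algebra.unramifiedLocus_eq_compl_support]
    exact h3
  exact h4

/-- Flatness at a point descends. -/
theorem flat_localization_of_baseChange [Module.Flat R R']
    (h : Module.Flat R' (Localization.AtPrime Q)) :
    Module.Flat R (Localization.AtPrime (Q.comap Algebra.TensorProduct.includeRight.toRingHom)) := by
  let := Algebra.TensorProduct.rightAlgebra (R := R) (A := R') (B := S)
  let q := Q.comap (algebraMap S (R' ⊗[R] S))
  change Module.Flat R (Localization.AtPrime q)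
  have : Q.LiesOver q := ⟨rfl⟩
  let := Localization.AtPrime.algebraOfLiesOver q Q
  have : Module.Flat R (Localization.AtPrime Q) := .trans R R' _
  have : Module.Flat S (R' ⊗[R] S) :=
    .of_linearEquiv (M := S ⊗[R] R') (LinearEquiv.symm
      { (Algebra.TensorProduct.comm R S R').toLinearEquiv with
        map_smul' := fun s x ↦ by
          induction x <;> simp_all [Algebra.smul_def, RingHom.algebraMap_toAlgebra,
            Algebra.TensorProduct.algebraMap_apply, mul_add] })
  have : Module.Flat S (Localization.AtPrime Q) := .trans S (R' ⊗[R] S) _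
  have : Module.Flat (Localization.AtPrime q) (Localization.AtPrime Q) :=
    (Module.flat_iff_of_isLocalization (Localization.AtPrime q) q.primeCompl _).mpr ‹_›
  have : IsLocalHom (algebraMap (Localization.AtPrime q) (Localization.AtPrime Q)) :=
    Localization.isLocalHom_localRingHom _ _ _ _
  have : Module.FaithfullyFlat (Localization.AtPrime q) (Localization.AtPrime Q) :=
    .of_flat_of_isLocalHom
  exact flat_of_flat_of_faithfullyFlat R (Localization.AtPrime q) (Localization.AtPrime Q)

end

/-- An algebra all whose localisations at primes are flat over the base is flat. -/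
theorem flat_of_localization {R S : Type u} [CommRing R] [CommRing S] [Algebra R S]
    (h : ∀ (q : Ideal S) [q.IsPrime], Module.Flat R (Localization.AtPrime q)) : Module.Flat R S :=
  Module.flat_of_isLocalized_maximal (R := R) S S (fun P _ ↦ Localization.AtPrime P)
    (fun P _ ↦ Algebra.linearMap S (Localization.AtPrime P)) fun P _ ↦ h P

end Groth.Agent.Unr55
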