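import Groth.Agent.Unr55.SmoothDesc
import Groth.Agent.Unr55.PointDesc
import Groth.Agent.Unr55.StalkCrit

/-! Smoothness of schemes descends along a morphism flat at the point. -/

set_option autoImplicit false

universe u

open AlgebraicGeometry CategoryTheory

namespace Groth.Agent.Unr55

set_option backward.isDefEq.respectTransparency.types false in
theorem formallySmooth_stalkMap_of_flat {X Y S : Scheme.{u}} (f : Y ⟶ S) (g : X ⟶ Y)
    [LocallyOfFinitePresentation f] [LocallyOfFinitePresentation (g ≫ f)] (x : X)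
    (hg : (g.stalkMap x).hom.Flat) (hh : ((g ≫ f).stalkMap x).hom.FormallySmooth) :
    (f.stalkMap (g x)).hom.FormallySmooth := by
  obtain ⟨W, hW, V, hV, e, q, hq⟩ := exists_chart_at f (g x)
  have hxV : g x ∈ V := hq ▸ hV.range_fromSpec.le (Set.mem_range_self q)
  obtain ⟨U, hU, hxU, hUV⟩ := exists_isAffineOpen_mem_and_subset (U := g ⁻¹ᵁ V) (x := x) hxV
  let e' : U ≤ g ⁻¹ᵁ V := hUV
  have e'' : U ≤ (g ≫ f) ⁻¹ᵁ W := fun y hy ↦ e (e' hy)
  let : Algebra Γ(S, W) Γ(Y, V) := (f.appLE W V e).hom.toAlgebra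
  let : Algebra Γ(Y, V) Γ(X, U) := (g.appLE V U e').hom.toAlgebra
  let : Algebra Γ(S, W) Γ(X, U) := ((g ≫ f).appLE W U e'').hom.toAlgebra
  have : IsScalarTower Γ(S, W) Γ(Y, V) Γ(X, U) := .of_algebraMap_eq' (by
    simp only [RingHom.algebraMap_toAlgebra, ← CommRingCat.hom_comp, Scheme.Hom.appLE_comp_appLE])
  have : Algebra.FinitePresentation Γ(S, W) Γ(Y, V) := (HasRingHomProperty.appLE
    @LocallyOfFinitePresentation f inferInstance ⟨W, hW⟩ ⟨V, hV⟩ e :)
  have : Algebra.FinitePresentation Γ(S, W) Γ(X, U) := (HasRingHomProperty.appLE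
    @LocallyOfFinitePresentation (g ≫ f) inferInstance ⟨W, hW⟩ ⟨U, hU⟩ e'' :)
  let r := hU.primeIdealOf ⟨x, hxU⟩
  have hr : hU.fromSpec r = x := hU.fromSpec_primeIdealOf ⟨x, hxU⟩
  rw [← hr] at hg hh
  have := (flat_stalkMap_iff_chart g hV hU e' r).mp hg
  have := (formallySmooth_stalkMap_iff_chart (g ≫ f) hW hU e'' r).mp hh
  have h1 := isSmoothAt_of_flatAt (R := Γ(S, W)) (S := Γ(Y, V)) r.asIdeal
  have h2 : hV.fromSpec ⟨r.asIdeal.comap (algebraMap Γ(Y, V) Γ(X, U)), inferInstance⟩ = g x := by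
    rw [← hr, ← Scheme.Hom.comp_apply, ← hV.SpecMap_appLE_fromSpec g hU e', Scheme.Hom.comp_apply]
    rfl
  rw [← h2]
  exact (formallySmooth_stalkMap_iff_chart f hW hV e _).mpr h1

/-- Smoothness near the image descends along a map flat at the point. -/
theorem smooth_nhd_of_flatAt {X Y S : Scheme.{u}} (f : Y ⟶ S) (g : X ⟶ Y)
    [LocallyOfFinitePresentation f] [LocallyOfFinitePresentation (g ≫ f)] (x : X)
    (hg : (g.stalkMap x).hom.Flat) (hh : ∃ U : X.Opens, x ∈ U ∧ Smooth (U.ι ≫ g ≫ f)) :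
    ∃ V : Y.Opens, g x ∈ V ∧ Smooth (V.ι ≫ f) :=
  (exists_smooth_iff f (g x)).mpr
    (formallySmooth_stalkMap_of_flat f g x hg ((exists_smooth_iff (g ≫ f) x).mp hh))

end Groth.Agent.Unr55
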