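import Groth.Agent.CAlg8.SemilinearLang
import Mathlib.RingTheory.Artinian.Module
import Mathlib.LinearAlgebra.TensorProduct.Basis
import Mathlib.FieldTheory.Minpoly.Field
import Mathlib.LinearAlgebra.Dimension.OrzechProperty
import Mathlib.FieldTheory.Finite.Basic
import Mathlib.LinearAlgebra.Basis.VectorSpace

/-!
Frobenius semilinear endomorphisms of finite dimensional vector spaces over algebraically closed fields.
-/

set_option autoImplicit false
set_option linter.style.haveILetI false
universe u

open TensorProduct Groth.Agent.CAlg8.SemilinearLang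

namespace Groth.Agent.Unr55.FrobSemi

variable {k V : Type u} [Field k] [IsAlgClosed k] (p : ℕ) [Fact p.Prime] [CharP k p]
  [AddCommGroup V] [Module k V] [FiniteDimensional k V] (F : V →+ V)

omit [IsAlgClosed k] [CharP k p] [Fact p.Prime] [FiniteDimensional k V] in
theorem iterate_smul (hF : ∀ (c : k) (v : V), F (c • v) = c ^ p • F v) (n : ℕ) (c : k) (v : V) :
    (⇑F)^[n] (c • v) = c ^ p ^ n • (⇑F)^[n] v := by
  induction n with
  | zero => simp
  | succ n ih => rw [Function.iterate_succ_apply', Function.iterate_succ_apply', ih, hF, ← pow_mul, pow_succ]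

/-- The stable subspace. -/
theorem exists_stable (hF : ∀ (c : k) (v : V), F (c • v) = c ^ p • F v) :
    ∃ (W : Submodule k V) (N : ℕ) (φ : W →ₛₗ[iterateFrobenius k p 1] W),
      (∀ w : W, (φ w : V) = F w) ∧ Function.Bijective φ ∧ ∀ v, (⇑F)^[N] v ∈ W := by
  let R : ℕ → Submodule k V := fun n =>
    { carrier := Set.range (⇑F)^[n]
      add_mem' := by
        rintro _ _ ⟨a, rfl⟩ ⟨b, rfl⟩
        exact ⟨a + b, iterate_map_add F n a b⟩
      zero_mem' := ⟨0, iterate_map_zero F n⟩
      smul_mem' := by
        rintro c _ ⟨a, rfl⟩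
        obtain ⟨d, rfl⟩ := IsAlgClosed.exists_pow_nat_eq c (pow_pos (Fact.out : p.Prime).pos n)
        exact ⟨d • a, iterate_smul p F hF n d a⟩ }
  have hR : ∀ n, R (n + 1) ≤ R n := by
    rintro n _ ⟨a, rfl⟩
    exact ⟨F a, (Function.iterate_succ_apply (⇑F) n a).symm⟩
  obtain ⟨N, hN⟩ := IsArtinian.monotone_stabilizes (R := k) (M := V)
    ⟨fun n => OrderDual.toDual (R n), monotone_nat_of_le_succ fun n => hR n⟩
  have hN' : R N = R (N + 1) := hN (N + 1) (Nat.le_succ N)
  have hmaps : ∀ w ∈ R N, F w ∈ R N := by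
    rintro _ ⟨a, rfl⟩
    exact ⟨F a, (Function.iterate_succ_apply (⇑F) N a).symm.trans (Function.iterate_succ_apply' (⇑F) N a)⟩
  let φ : R N →ₛₗ[iterateFrobenius k p 1] R N :=
    { toFun := fun w => ⟨F w, hmaps _ w.2⟩
      map_add' := fun a b => Subtype.ext (map_add F _ _)
      map_smul' := fun c a => Subtype.ext (by simp [frobenius_def, hF]) }
  haveI : RingHomSurjective (iterateFrobenius k p 1) := ⟨fun c => by
    obtain ⟨d, hd⟩ := IsAlgClosed.exists_pow_nat_eq c (Fact.out : p.Prime).pos
    exact ⟨d, by rw [iterateFrobenius_def, pow_one, hd]⟩⟩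
  have hs : Function.Surjective φ := fun w => by
    obtain ⟨a, ha⟩ := (hN' ▸ w.2 : (w : V) ∈ R (N + 1))
    exact ⟨⟨(⇑F)^[N] a, a, rfl⟩, Subtype.ext ((Function.iterate_succ_apply' (⇑F) N a).symm.trans ha)⟩
  refine ⟨R N, N, φ, fun _ => rfl, ⟨?_, hs⟩, fun v => ⟨v, rfl⟩⟩
  -- injectivity by counting dimensions
  let b := Module.finBasis k (R N)
  have hspan : Submodule.span k (Set.range fun i => φ (b i)) = ⊤ := eq_top_iff.2 fun w _ => by
    obtain ⟨v, rfl⟩ := hs w
    rw [← b.sum_repr v, map_sum]
    exact Submodule.sum_mem _ fun i _ => by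
      rw [φ.map_smulₛₗ]; exact Submodule.smul_mem _ _ (Submodule.subset_span ⟨i, rfl⟩)
  have hli := linearIndependent_of_top_le_span_of_card_eq_finrank hspan.ge (by simp)
  rw [injective_iff_map_eq_zero]
  intro v hv
  rw [← b.sum_repr v, map_sum] at hv
  simp only [φ.map_smulₛₗ] at hv
  have := Fintype.linearIndependent_iff.1 hli _ hv
  rw [← b.sum_repr v]
  refine Finset.sum_eq_zero fun i _ => ?_
  have h0 := this i
  rw [iterateFrobenius_def, pow_eq_zero_iff (pow_ne_zero _ (Fact.out : p.Prime).ne_zero)] at h0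
  rw [h0, zero_smul]

theorem surjective_sub_id (hF : ∀ (c : k) (v : V), F (c • v) = c ^ p • F v) :
    Function.Surjective fun v => F v - v := by
  intro y
  obtain ⟨W, N, φ, hφ, hb, hN⟩ := exists_stable p F hF
  obtain ⟨w, hw⟩ := CAlg8.SemilinearLang.surjective_sub_id k p 1 le_rfl W φ hb ⟨_, hN y⟩
  refine ⟨-(∑ i ∈ Finset.range N, (⇑F)^[i] y) + w, ?_⟩
  have hw' : F w - (w : V) = (⇑F)^[N] y := by
    rw [← hφ]; exact congrArg Subtype.val hw
  have h := Finset.sum_range_sub' (fun i => (⇑F)^[i] y) N
  simp only [Function.iterate_succ_apply', Function.iterate_zero_apply, Finset.sum_sub_distrib] at h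
  show F (-(∑ i ∈ Finset.range N, (⇑F)^[i] y) + w) - (-(∑ i ∈ Finset.range N, (⇑F)^[i] y) + w) = y
  rw [map_add, map_neg, map_sum, show F (w : V) = (⇑F)^[N] y + w by rw [← hw', sub_add_cancel]]
  rw [sub_eq_iff_eq_add] at h
  rw [h]; abel

omit [FiniteDimensional k V] [IsAlgClosed k] [Fact p.Prime] [CharP k p] in
theorem pow_eq_self_of_fixed (hF : ∀ (c : k) (v : V), F (c • v) = c ^ p • F v) {ι : Type*} [Fintype ι]
    {b : ι → V} (hb : LinearIndependent k b) (hfix : ∀ i, F (b i) = b i) {a : ι → k}
    (hv : F (∑ i, a i • b i) = ∑ i, a i • b i) (i : ι) : a i ^ p = a i := by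
  rw [map_sum] at hv
  simp only [hF, hfix] at hv
  exact sub_eq_zero.1 (Fintype.linearIndependent_iff.1 hb (fun i => a i ^ p - a i)
    (by simp only [sub_smul, Finset.sum_sub_distrib, hv, sub_self]) i)

omit [IsAlgClosed k] [CharP k p] in
theorem finite_fixed (hF : ∀ (c : k) (v : V), F (c • v) = c ^ p • F v) :
    Set.Finite {v : V | F v = v} ∧ Nat.card {v : V | F v = v} ≤ p ^ Module.finrank k V := by
  classical
  obtain ⟨s, hs, hsp, hli⟩ := exists_linearIndependent k {v : V | F v = v}
  have hsfin : s.Finite := hli.setFinite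
  haveI := hsfin.fintype
  let P : Polynomial k := Polynomial.X ^ p - Polynomial.X
  have h1 : (1 : ℕ) < p := (Fact.out : p.Prime).one_lt
  have hP : P ≠ 0 := FiniteField.X_pow_card_sub_X_ne_zero k h1
  let T : Finset k := P.roots.toFinset
  have hT : T.card ≤ p := (Multiset.toFinset_card_le _).trans ((Polynomial.card_roots' P).trans
    (le_of_eq (FiniteField.X_pow_card_sub_X_natDegree_eq k h1)))
  let f : (s → T) → V := fun a => ∑ i : s, (a i : k) • (i : V)
  have hsub : {v : V | F v = v} ⊆ Set.range f := by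
    intro v hv
    have hv' : v ∈ Submodule.span k (Set.range ((↑) : s → V)) := by
      rw [Subtype.range_coe, hsp]; exact Submodule.subset_span hv
    obtain ⟨a, rfl⟩ := (Submodule.mem_span_range_iff_exists_fun k).1 hv'
    have ha := pow_eq_self_of_fixed p F hF (b := ((↑) : s → V)) hli (fun i => hs i.2) hv
    refine ⟨fun i => ⟨a i, ?_⟩, rfl⟩
    rw [Multiset.mem_toFinset, Polynomial.mem_roots hP]
    simp [P, ha i]
  refine ⟨(Set.finite_range f).subset hsub, ?_⟩
  calc Nat.card {v : V | F v = v} ≤ Nat.card (Set.range f) := Nat.card_mono (Set.finite_range f) hsub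
    _ ≤ Nat.card (s → T) := Finite.card_range_le f
    _ ≤ p ^ Module.finrank k V := by
      rw [Nat.card_fun, Nat.card_eq_fintype_card, Nat.card_eq_fintype_card, Fintype.card_coe]
      exact (Nat.pow_le_pow_left hT _).trans
        (Nat.pow_le_pow_right (Fact.out : p.Prime).pos hli.fintype_card_le_finrank)

theorem bijOn_fixed {k' : Type u} [Field k'] [Algebra k k'] (hF : ∀ (c : k) (v : V), F (c • v) = c ^ p • F v)
    (F' : k' ⊗[k] V →+ k' ⊗[k] V) (hF' : ∀ (c : k') (v : V), F' (c ⊗ₜ[k] v) = (c ^ p) ⊗ₜ[k] F v) :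
    Set.BijOn (fun v : V => (1 : k') ⊗ₜ[k] v) {v : V | F v = v} {w : k' ⊗[k] V | F' w = w} := by
  have hinj : Function.Injective (fun v : V => (1 : k') ⊗ₜ[k] v) := by
    intro v w h
    let b := Module.finBasis k V
    refine b.ext_elem fun i => (algebraMap k k').injective ?_
    have h' := congrArg (fun z => (b.baseChange k').repr z i) h
    simpa [Module.Basis.baseChange_repr_tmul, Algebra.smul_def] using h'
  refine ⟨fun v hv => ?_, hinj.injOn, fun w hw => ?_⟩
  · show F' ((1 : k') ⊗ₜ v) = _
    rw [hF', one_pow, show F v = v from hv]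
  obtain ⟨W, N, φ, hφ, hb, hN⟩ := exists_stable p F hF
  have hW := span_fixed_eq_top k p 1 le_rfl _ W φ hb rfl
  obtain ⟨s, hs, hsp, hli⟩ := exists_linearIndependent k {v : W | φ v = v}
  haveI := hli.setFinite.fintype
  let g : W →ₗ[k] k' ⊗[k] V := (TensorProduct.mk k k' V 1).comp W.subtype
  let M : Submodule k' (k' ⊗[k] V) := Submodule.span k' (Set.range fun i : s => g i)
  have hgM : ∀ x : W, g x ∈ M := by
    intro x
    have hx : x ∈ Submodule.span k (Set.range ((↑) : s → W)) := by
      rw [Subtype.range_coe, hsp, hW]; trivial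
    obtain ⟨a, rfl⟩ := (Submodule.mem_span_range_iff_exists_fun k).1 hx
    rw [map_sum]
    refine Submodule.sum_mem _ fun i _ => ?_
    rw [map_smul, ← algebraMap_smul k' (a i)]
    exact M.smul_mem _ (Submodule.subset_span ⟨i, rfl⟩)
  have hiter : ∀ n c v, (⇑F')^[n] (c ⊗ₜ[k] v) = (c ^ p ^ n) ⊗ₜ[k] (⇑F)^[n] v := by
    intro n
    induction n with
    | zero => simp
    | succ n ih =>
      intro c v
      rw [Function.iterate_succ_apply', Function.iterate_succ_apply', ih, hF', ← pow_mul, pow_succ]
  have hMw : ∀ z, (⇑F')^[N] z ∈ M := by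
    intro z
    induction z using TensorProduct.induction_on with
    | zero => rw [iterate_map_zero]; exact M.zero_mem
    | tmul c v =>
      rw [hiter]
      have h := M.smul_mem (c ^ p ^ N) (hgM ⟨_, hN v⟩)
      simpa [g, TensorProduct.smul_tmul'] using h
    | add a b ha hb => rw [iterate_map_add]; exact M.add_mem ha hb
  have hwM : w ∈ M := Function.iterate_fixed (show F' w = w from hw) N ▸ hMw w
  obtain ⟨a, rfl⟩ := (Submodule.mem_span_range_iff_exists_fun k').1 hwM
  have hfix : ∀ i : s, F ((i : W) : V) = ((i : W) : V) := fun i => by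
    rw [← hφ]; exact congrArg Subtype.val (hs i.2)
  -- the images stay independent
  have hli' : LinearIndependent k' fun i : s => g i := by
    rw [Fintype.linearIndependent_iff]
    intro c hc i
    classical
    have hliV : LinearIndependent k fun j : s => ((j : W) : V) := hli.map' W.subtype W.ker_subtype
    obtain ⟨L, hL⟩ := (Fintype.linearCombination k fun j : s => ((j : W) : V)).exists_leftInverse_of_injective
      (LinearMap.ker_eq_bot.2 hliV.fintypeLinearCombination_injective)
    let ψ : k' ⊗[k] V →ₗ[k'] k' :=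
      LinearMap.liftBaseChange k' ((Algebra.linearMap k k').comp ((LinearMap.proj i).comp L))
    have hψ : ∀ j : s, ψ (g j) = if i = j then 1 else 0 := by
      intro j
      have h1 : L ((j : W) : V) i = if i = j then 1 else 0 := by
        have h2 := LinearMap.congr_fun hL (Pi.single j 1)
        simp only [LinearMap.comp_apply, LinearMap.id_apply, Fintype.linearCombination_apply_single, one_smul] at h2
        rw [h2, Pi.single_apply]
      simp only [ψ, g, LinearMap.comp_apply, TensorProduct.mk_apply, LinearMap.liftBaseChange_tmul,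
        Submodule.coe_subtype, LinearMap.proj_apply, one_smul, Algebra.linearMap_apply, h1]
      split <;> simp
    have h := congrArg ψ hc
    simpa [map_sum, hψ] using h
  have ha : ∀ i, a i ^ p = a i := by
    have hw' : F' (∑ i, a i • g i) = ∑ i, a i • g i := hw
    have e : F' (∑ i, a i • g i) = ∑ i, (a i ^ p) • g i := by
      rw [map_sum]
      refine Finset.sum_congr rfl fun i _ => ?_
      simp only [g, LinearMap.comp_apply, TensorProduct.mk_apply, TensorProduct.smul_tmul', smul_eq_mul,
        mul_one, hF', Submodule.coe_subtype, hfix]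
    rw [e] at hw'
    intro i
    exact sub_eq_zero.1 (Fintype.linearIndependent_iff.1 hli' (fun i => a i ^ p - a i)
      (by simp only [sub_smul, Finset.sum_sub_distrib, hw', sub_self]) i)
  have hak : ∀ i, ∃ c : k, algebraMap k k' c = a i ∧ c ^ p = c := by
    intro i
    have hint : IsIntegral k (a i) := ⟨Polynomial.X ^ p - Polynomial.X,
      (Polynomial.monic_X_pow _).sub_of_left (by
        rw [Polynomial.degree_X, Polynomial.degree_X_pow]; exact_mod_cast (Fact.out : p.Prime).one_lt),
      by simp [ha i]⟩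
    obtain ⟨c, hc⟩ := minpoly.degree_eq_one_iff.1
      (IsAlgClosed.degree_eq_one_of_irreducible k (minpoly.irreducible hint))
    exact ⟨c, hc, (algebraMap k k').injective (by rw [map_pow, hc, ha])⟩
  choose c hc hcp using hak
  refine ⟨∑ i : s, c i • ((i : W) : V), ?_, ?_⟩
  · show F _ = _
    rw [map_sum]
    simp only [hF, hfix, hcp]
  · show (1 : k') ⊗ₜ _ = _
    rw [TensorProduct.tmul_sum]
    refine Finset.sum_congr rfl fun i _ => ?_
    rw [TensorProduct.tmul_smul, ← algebraMap_smul k' (c i), hc]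
    rfl

end Groth.Agent.Unr55.FrobSemi
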