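import Groth.Agent.FlatMor66.FlatWeight
import Groth.Agent.FlatMor66.Semi
import Groth.Agent.FlatMor66.Weight
import Groth.Prelude.Def_MoreMor
import Mathlib.FieldTheory.IsSepClosed
import Groth.Agent.S1426
import Groth.Agent.S1428

/-!
The number of points in the geometric fibres of an étale separated morphism of finite type is the
fibre integral of the constant weighting `1`.
-/

set_option autoImplicit false
universe u

open AlgebraicGeometry CategoryTheory Limits IsLocalRing

namespace Groth.Agent.Unr55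

open Groth.Agent.FlatMor66

variable {X Y : Scheme.{u}}

theorem isSepClosed_of_surjective {K L : Type u} [Field K] [Field L] [IsSepClosed K] (φ : K →+* L)
    (h : Function.Surjective φ) : IsSepClosed L := by
  let e := RingEquiv.ofBijective φ ⟨φ.injective, h⟩
  refine IsSepClosed.of_exists_root _ fun p hp hi hsep => ?_
  have hsep' : (p.map e.symm.toRingHom).Separable := hsep.map
  have hdeg : (p.map e.symm.toRingHom).degree ≠ 0 := by
    rw [Polynomial.degree_map]; exact fun h0 => hi.1 (Polynomial.isUnit_iff_degree_eq_zero.mpr h0)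
  obtain ⟨x, hx⟩ := IsSepClosed.exists_root _ hdeg hsep'
  refine ⟨e x, ?_⟩
  have := congrArg e hx
  rw [Polynomial.eval_map, ← RingEquiv.coe_toRingHom, Polynomial.hom_eval₂, map_zero] at this
  have he : (e : K →+* L).comp e.symm.toRingHom = RingHom.id L := RingHom.ext e.apply_symm_apply
  erw [he] at this
  exact this

theorem wgt_eq_one (f : X ⟶ Y) [Etale f] (x : X) : wgt f x = 1 := by
  have h1 : lq (f.stalkMap x).hom = 1 := by
    unfold lq
    rw [map_maximalIdeal_stalkMap f x]
    have : IsSimpleModule (X.presheaf.stalk x)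
        (X.presheaf.stalk x ⧸ maximalIdeal (X.presheaf.stalk x)) :=
      isSimpleModule_iff_isCoatom.mpr (maximalIdeal.isMaximal _).1
    rw [Module.length_eq_one]; rfl
  have h2 : ideg (f.stalkMap x).hom = 1 := by
    let := (ResidueField.map (f.stalkMap x).hom).toAlgebra
    have : Algebra.IsSeparable (ResidueField (Y.presheaf.stalk (f x))) (ResidueField (X.presheaf.stalk x)) :=
      (inferInstance : letI := (f.residueFieldMap x).hom.toAlgebra
        Algebra.IsSeparable (Y.residueField (f x)) (X.residueField x))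
    exact Algebra.IsSeparable.finInsepDegree_eq _ _
  unfold wgt
  rw [h1, h2]; rfl

theorem isWeighting_one (f : X ⟶ Y) [Etale f] : MoreMor.IsWeighting f fun _ => 1 := by
  have : LocallyQuasiFinite f := lqf_of_etale f
  rw [show (fun _ => (1 : ℤ)) = wgt f from funext fun x => (wgt_eq_one f x).symm]
  exact isWeighting_wgt f

set_option backward.isDefEq.respectTransparency.types false in
theorem isLocallyConstant_one (f : X ⟶ Y) [Etale f] [IsFinite f] :
    IsLocallyConstant (MoreMor.fibreIntegral f fun _ => 1) := by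
  have : LocallyQuasiFinite f := lqf_of_etale f
  let T : (pullback f (𝟙 Y)).Opens := ⊤
  have : IsIso T.ι := (inferInstance : IsIso (pullback f (𝟙 Y)).topIso.hom)
  have hfin : IsFinite (T.ι ≫ pullback.snd f (𝟙 Y)) := inferInstance
  have h := isWeighting_one f Y (𝟙 Y) T hfin
  have sq : IsPullback (T.ι ≫ pullback.fst f (𝟙 Y)) (T.ι ≫ pullback.snd f (𝟙 Y)) f (𝟙 Y) :=
    (IsPullback.of_horiz_isIso (fst := T.ι) ⟨(Category.comp_id _).symm⟩).paste_horiz
      (IsPullback.of_hasPullback f (𝟙 Y))
  convert h using 1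
  funext y
  exact (fibreIntegral_baseChange f _ _ _ sq (fun _ => 1) y (f.finite_preimage_singleton _)).symm

/-- The geometric fibre is finite, of cardinality the fibre integral of `1`. -/
theorem card_geomFiber (f : X ⟶ Y) [Etale f] [QuasiCompact f] (y : Y) :
    ENat.card ↥(MoreMor.geomFiber f y) =
      ((MoreMor.fibreIntegral f (fun _ => 1) y).toNat : ℕ∞) ∧
      0 ≤ MoreMor.fibreIntegral f (fun _ => 1) y := by
  have : LocallyQuasiFinite f := lqf_of_etale f
  let Ω := SeparableClosure (Y.residueField y)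
  let a : Spec (CommRingCat.of Ω) ⟶ Spec (Y.residueField y) :=
    Spec.map (CommRingCat.ofHom (algebraMap (Y.residueField y) Ω))
  let π : MoreMor.geomFiber f y ⟶ Spec (CommRingCat.of Ω) := pullback.snd (f.fiberToSpecResidueField y) a
  let h : MoreMor.geomFiber f y ⟶ X := pullback.fst (f.fiberToSpecResidueField y) a ≫ f.fiberι y
  let g : Spec (CommRingCat.of Ω) ⟶ Y := a ≫ Y.fromSpecResidueField y
  have sq : IsPullback h π f g :=
    (IsPullback.of_hasPullback (f.fiberToSpecResidueField y) a).paste_horiz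
      (IsPullback.of_hasPullback f (Y.fromSpecResidueField y))
  have : Etale π := MorphismProperty.of_isPullback sq ‹_›
  have : QuasiCompact π := MorphismProperty.of_isPullback sq ‹_›
  have : LocallyQuasiFinite π := lqf_of_etale π
  let v₀ : Spec (CommRingCat.of Ω) := (⊥ : PrimeSpectrum Ω)
  have hv : ∀ v : Spec (CommRingCat.of Ω), v = v₀ := fun v => Subsingleton.elim (α := PrimeSpectrum Ω) _ _
  have hgv : g v₀ = y := by
    rw [Scheme.Hom.comp_apply, Scheme.fromSpecResidueField_apply]
  rw [← hgv, ← fibreIntegral_baseChange f π h g sq (fun _ => 1) v₀ (f.finite_preimage_singleton _)]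
  have hfin : Finite {u : ↑(MoreMor.geomFiber f y) // π u = v₀} :=
    (π.finite_preimage_singleton v₀).to_subtype
  let e : {u : ↑(MoreMor.geomFiber f y) // π u = v₀} ≃ ↑(MoreMor.geomFiber f y) :=
    Equiv.subtypeUnivEquiv fun u => hv _
  have : Finite ↑(MoreMor.geomFiber f y) := Finite.of_equiv _ e
  have hcount : MoreMor.fibreIntegral π ((fun _ => (1 : ℤ)) ∘ ⇑h) v₀ =
      (Nat.card ↑(MoreMor.geomFiber f y) : ℤ) := by
    unfold MoreMor.fibreIntegral
    have := Fintype.ofFinite {u : ↑(MoreMor.geomFiber f y) // π u = v₀}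
    rw [finsum_eq_sum_of_fintype, ← Nat.card_congr e, Nat.card_eq_fintype_card,
      ← Finset.card_univ, Finset.card_eq_sum_ones, Nat.cast_sum]
    refine Finset.sum_congr rfl fun u _ => ?_
    let := (π.residueFieldMap u.1).hom.toAlgebra
    have hsep : Algebra.IsSeparable ((Spec (CommRingCat.of Ω)).residueField (π u.1))
        ((MoreMor.geomFiber f y).residueField u.1) := inferInstance
    let v : PrimeSpectrum Ω := π u.1
    let ψ : Ω →+* (Spec (CommRingCat.of Ω)).residueField v :=
      (CommRingCat.ofHom (algebraMap Ω v.asIdeal.ResidueField) ≫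
        (Scheme.Spec.residueFieldIso (CommRingCat.of Ω) v).inv).hom
    have hψ : Function.Surjective ψ := by
      have : (v : PrimeSpectrum Ω).asIdeal.IsMaximal := by rw [hv v]; exact Ideal.bot_isMaximal
      have h1 : Function.Surjective (algebraMap Ω v.asIdeal.ResidueField) :=
        v.asIdeal.algebraMap_residueField_surjective
      exact (ConcreteCategory.bijective_of_isIso
        (Scheme.Spec.residueFieldIso (CommRingCat.of Ω) v).inv).2.comp h1
    have : IsSepClosed ((Spec (CommRingCat.of Ω)).residueField v) := isSepClosed_of_surjective ψ hψ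
    have hs := IsSepClosed.algebraMap_surjective ((Spec (CommRingCat.of Ω)).residueField v)
      ((MoreMor.geomFiber f y).residueField u.1)
    have hdeg := Field.finSepDegree_eq_of_equiv _ _ _ (AlgEquiv.ofBijective
      (Algebra.ofId ((Spec (CommRingCat.of Ω)).residueField v)
        ((MoreMor.geomFiber f y).residueField u.1)) ⟨RingHom.injective _, hs⟩)
    rw [Field.finSepDegree_self] at hdeg
    simp only [Function.comp_apply, one_mul, Nat.cast_one]
    exact_mod_cast hdeg.symm
  rw [hcount, hgv, Int.toNat_natCast, ENat.card_eq_coe_natCard]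
  exact ⟨rfl, Int.natCast_nonneg _⟩

theorem card_geomFiber_eq_iff (f : X ⟶ Y) [Etale f] [QuasiCompact f] (y y' : Y) :
    ENat.card ↥(MoreMor.geomFiber f y) = ENat.card ↥(MoreMor.geomFiber f y') ↔
      MoreMor.fibreIntegral f (fun _ => 1) y = MoreMor.fibreIntegral f (fun _ => 1) y' := by
  obtain ⟨h1, h2⟩ := card_geomFiber f y
  obtain ⟨h3, h4⟩ := card_geomFiber f y'
  rw [h1, h3, Nat.cast_inj]
  omega

theorem lowerSemicontinuous_card (f : X ⟶ Y) [Etale f] [IsSeparated f] [QuasiCompact f] :
    LowerSemicontinuous (fun y : Y => ENat.card ↥(MoreMor.geomFiber f y)) := by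
  have : LocallyQuasiFinite f := lqf_of_etale f
  have hl := S1426.result f (f.finite_preimage_singleton ·) _ (isWeighting_one f) fun _ => one_pos
  intro y a ha
  dsimp only at ha ⊢
  obtain ⟨h1, h2⟩ := card_geomFiber f y
  rw [h1] at ha
  obtain ⟨k, rfl⟩ := ENat.ne_top_iff_exists.mp ha.ne_top
  filter_upwards [hl y (k : ℤ) (by have := ENat.natCast_lt_natCast.mp ha; omega)] with y' hy'
  obtain ⟨h3, h4⟩ := card_geomFiber f y'
  rw [h3]
  exact ENat.natCast_lt_natCast.mpr (by omega)

set_option backward.isDefEq.respectTransparency.types false in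
theorem card_locally_constant_iff (f : X ⟶ Y) [Etale f] [IsSeparated f] [QuasiCompact f] (y : Y) :
    (∃ U : Y.Opens, y ∈ U ∧ ∀ y' : Y, y' ∈ U →
        ENat.card ↥(MoreMor.geomFiber f y') = ENat.card ↥(MoreMor.geomFiber f y)) ↔
      ∃ U : Y.Opens, y ∈ U ∧ IsFinite (f ∣_ U) := by
  have : LocallyQuasiFinite f := lqf_of_etale f
  have key : ∀ (U : Y.Opens) (v : U.toScheme), MoreMor.fibreIntegral (f ∣_ U) (fun _ => 1) v =
      MoreMor.fibreIntegral f (fun _ => 1) (U.ι v) := fun U v =>
    fibreIntegral_baseChange f _ _ _ (isPullback_morphismRestrict f U).flip (fun _ => 1) v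
      (f.finite_preimage_singleton _)
  constructor
  · rintro ⟨U, hyU, hU⟩
    have : LocallyQuasiFinite (f ∣_ U) := lqf_of_etale _
    have hconst : ∀ v : U.toScheme, MoreMor.fibreIntegral (f ∣_ U) (fun _ => 1) v =
        MoreMor.fibreIntegral f (fun _ => 1) y := fun v => by
      rw [key]; exact (card_geomFiber_eq_iff f _ y).mp (hU _ v.2)
    obtain ⟨hopen, hfin⟩ := S1428.result (f ∣_ U) ((f ∣_ U).finite_preimage_singleton ·) _
      (isWeighting_one (f ∣_ U)) (fun _ => one_pos) _ (fun v => (hconst v).le) ⟨⟨y, hyU⟩, hconst _⟩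
    refine ⟨U, hyU, ?_⟩
    exact (IsZariskiLocalAtTarget.iff_of_iSup_eq_top (P := @IsFinite) (fun _ : Unit => (⟨_, hopen⟩ : U.toScheme.Opens))
      (top_le_iff.mp fun v _ => TopologicalSpace.Opens.mem_iSup.mpr ⟨(), hconst v⟩)).mpr fun _ => hfin
  · rintro ⟨U, hyU, hU⟩
    have hc := isLocallyConstant_one (f ∣_ U)
    let O : U.toScheme.Opens := ⟨_, hc.isOpen_fiber (MoreMor.fibreIntegral (f ∣_ U) (fun _ => 1) ⟨y, hyU⟩)⟩
    refine ⟨U.ι ''ᵁ O, ⟨⟨y, hyU⟩, rfl, rfl⟩, ?_⟩
    rintro _ ⟨v, hv, rfl⟩
    refine (card_geomFiber_eq_iff f _ _).mpr ((key U v).symm.trans ?_)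
    exact (show MoreMor.fibreIntegral (f ∣_ U) (fun _ => 1) v = _ from hv).trans (key U ⟨y, hyU⟩)

set_option backward.isDefEq.respectTransparency.types false in
theorem isFinite_iff_card_const [ConnectedSpace ↥Y] (f : X ⟶ Y) [Etale f] [IsSeparated f]
    [QuasiCompact f] :
    IsFinite f ↔ ∃ n : ℕ∞, ∀ y : Y, ENat.card ↥(MoreMor.geomFiber f y) = n := by
  constructor
  · intro hf
    obtain ⟨y₀⟩ := (inferInstance : Nonempty ↥Y)
    exact ⟨_, fun y => (card_geomFiber_eq_iff f y y₀).mpr
      ((isLocallyConstant_one f).apply_eq_of_preconnectedSpace y y₀)⟩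
  · rintro ⟨n, hn⟩
    choose U hyU hU using fun y => (card_locally_constant_iff f y).mp
      ⟨⊤, trivial, fun y' _ => (hn y').trans (hn y).symm⟩
    exact (IsZariskiLocalAtTarget.iff_of_iSup_eq_top (P := @IsFinite) U
      (top_le_iff.mp fun y _ => TopologicalSpace.Opens.mem_iSup.mpr ⟨y, hyU y⟩)).mpr hU

end Groth.Agent.Unr55
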