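import Groth.Agent.CAlg7.FlatLimit
import Groth.Agent.Unr55.StalkCrit
import Mathlib.RingTheory.Unramified.LocalRing
import Mathlib.RingTheory.Flat.FaithfullyFlat.Algebra
import Mathlib.FieldTheory.IsSepClosed
import Mathlib.AlgebraicGeometry.Noetherian

/-!
Unramified and étale via the completed local rings, at finite level.
-/

universe u

open IsLocalRing

namespace Groth.Agent.Unr55

section Ring

variable {A B : Type u} [CommRing A] [CommRing B] [IsLocalRing A] [IsLocalRing B] [Algebra A B]
  [IsLocalHom (algebraMap A B)]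

theorem forall_exists_sub_mem_pow (hm : (maximalIdeal A).map (algebraMap A B) = maximalIdeal B)
    (hres : ∀ b : B, ∃ a, b - algebraMap A B a ∈ maximalIdeal B) :
    ∀ (n : ℕ) (b : B), ∃ a, b - algebraMap A B a ∈ maximalIdeal B ^ n := by
  intro n
  induction n with
  | zero => exact fun b ↦ ⟨0, by simp⟩
  | succ n ih =>
    have key : ∀ c ∈ maximalIdeal B ^ n, ∃ a, c - algebraMap A B a ∈ maximalIdeal B ^ (n + 1) := by
      intro c hc
      rw [← hm, ← Ideal.map_pow] at hc
      induction hc using Submodule.span_induction with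
      | mem x hx =>
        obtain ⟨a, -, rfl⟩ := hx
        exact ⟨a, by simp⟩
      | zero => exact ⟨0, by simp⟩
      | add x y _ _ hx hy =>
        obtain ⟨a, ha⟩ := hx
        obtain ⟨a', ha'⟩ := hy
        refine ⟨a + a', ?_⟩
        rw [map_add, add_sub_add_comm]
        exact add_mem ha ha'
      | smul r x hx hx' =>
        obtain ⟨a, ha⟩ := hx'
        obtain ⟨s, hs⟩ := hres r
        refine ⟨s * a, ?_⟩
        have h1 : r * x - algebraMap A B (s * a) =
            (r - algebraMap A B s) * x + algebraMap A B s * (x - algebraMap A B a) := by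
          rw [map_mul]; ring
        rw [smul_eq_mul, h1]
        refine add_mem ?_ (Ideal.mul_mem_left _ _ ha)
        rw [pow_succ']
        refine Ideal.mul_mem_mul hs ?_
        rw [← hm, ← Ideal.map_pow]
        exact hx
    intro b
    obtain ⟨a, ha⟩ := ih b
    obtain ⟨a', ha'⟩ := key _ ha
    exact ⟨a + a', by rwa [map_add, ← sub_sub]⟩

theorem forall_surjective_iff [IsNoetherianRing B] :
    (∀ n : ℕ, Function.Surjective ((Ideal.Quotient.mk (maximalIdeal B ^ n)).comp (algebraMap A B))) ↔
      (maximalIdeal A).map (algebraMap A B) = maximalIdeal B ∧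
        ∀ b : B, ∃ a, b - algebraMap A B a ∈ maximalIdeal B := by
  constructor
  · intro h
    have h' : ∀ (n : ℕ) (b : B), ∃ a, b - algebraMap A B a ∈ maximalIdeal B ^ n := fun n b ↦ by
      obtain ⟨a, ha⟩ := h n (Ideal.Quotient.mk _ b)
      exact ⟨a, Ideal.Quotient.eq.mp ha.symm⟩
    refine ⟨le_antisymm (((local_hom_TFAE (algebraMap A B)).out 0 2 rfl rfl).mp ‹_›) ?_,
      fun b ↦ by simpa using h' 1 b⟩
    refine Submodule.le_of_le_smul_of_le_jacobson_bot (I := maximalIdeal B)
      (IsNoetherian.noetherian _) (jacobson_eq_maximalIdeal ⊥ bot_ne_top).ge fun b hb ↦ ?_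
    obtain ⟨a, ha⟩ := h' 2 b
    have ha' : a ∈ maximalIdeal A := by
      by_contra hna
      have hu := (notMem_maximalIdeal.mp hna).map (algebraMap A B)
      refine (maximalIdeal.isMaximal B).ne_top (Ideal.eq_top_of_isUnit_mem _ ?_ hu)
      have := sub_mem hb (Ideal.pow_le_self (two_ne_zero) ha)
      simpa using this
    rw [← sub_add_cancel b (algebraMap A B a)]
    refine Submodule.add_mem _ (Submodule.mem_sup_right ?_) (Submodule.mem_sup_left
      (Ideal.mem_map_of_mem _ ha'))
    rwa [smul_eq_mul, ← pow_two]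
  · rintro ⟨hm, hres⟩ n c
    obtain ⟨b, rfl⟩ := Ideal.Quotient.mk_surjective c
    obtain ⟨a, ha⟩ := forall_exists_sub_mem_pow hm hres n b
    exact ⟨a, (Ideal.Quotient.eq.mpr ha).symm⟩

theorem formallyUnramified_iff_forall_surjective [IsNoetherianRing B] [Algebra.EssFiniteType A B]
    (hk : Function.Surjective (algebraMap (ResidueField A) (ResidueField B)) ∨
      IsSepClosed (ResidueField A)) :
    Algebra.FormallyUnramified A B ↔
      ∀ n : ℕ, Function.Surjective
        ((Ideal.Quotient.mk (maximalIdeal B ^ n)).comp (algebraMap A B)) := by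
  rw [Algebra.FormallyUnramified.iff_map_maximalIdeal_eq, forall_surjective_iff]
  have key : (∀ b : B, ∃ a, b - algebraMap A B a ∈ maximalIdeal B) ↔
      Function.Surjective (algebraMap (ResidueField A) (ResidueField B)) := by
    refine ⟨fun h x ↦ ?_, fun h b ↦ ?_⟩
    · obtain ⟨b, rfl⟩ := residue_surjective x
      obtain ⟨a, ha⟩ := h b
      exact ⟨residue A a, (Ideal.Quotient.eq.mpr ha).symm⟩
    · obtain ⟨x, hx⟩ := h (residue B b)
      obtain ⟨a, rfl⟩ := residue_surjective x
      exact ⟨a, Ideal.Quotient.eq.mp hx.symm⟩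
  rw [key]
  constructor
  · rintro ⟨hsep, hm⟩
    refine ⟨hm, ?_⟩
    rcases hk with hk | hk
    · exact hk
    · exact IsSepClosed.algebraMap_surjective (ResidueField A) (ResidueField B)
  · rintro ⟨hm, hs⟩
    refine ⟨⟨fun x ↦ ?_⟩, hm⟩
    obtain ⟨y, rfl⟩ := hs x
    exact isSeparable_algebraMap y

theorem flat_iff_forall_ker [IsNoetherianRing A] [IsNoetherianRing B]
    (h : ∀ n : ℕ, Function.Surjective
      ((Ideal.Quotient.mk (maximalIdeal B ^ n)).comp (algebraMap A B))) :
    Module.Flat A B ↔ ∀ n : ℕ,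
      RingHom.ker ((Ideal.Quotient.mk (maximalIdeal B ^ n)).comp (algebraMap A B)) =
        maximalIdeal A ^ n := by
  have hm := (forall_surjective_iff.mp h).1
  have hker : ∀ n, RingHom.ker ((Ideal.Quotient.mk (maximalIdeal B ^ n)).comp (algebraMap A B)) =
      ((maximalIdeal A ^ n).map (algebraMap A B)).comap (algebraMap A B) := fun n ↦ by
    rw [Ideal.map_pow, hm, ← RingHom.comap_ker, Ideal.mk_ker]
  constructor
  · intro _ n
    have : Module.FaithfullyFlat A B := .of_flat_of_isLocalHom
    rw [hker, Ideal.comap_map_eq_self_of_faithfullyFlat]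
  · intro hk
    refine CAlg7.flat_of_forall_flat_mod_pow (S := B) (M := B) (maximalIdeal A)
      (hm.le.trans (jacobson_eq_maximalIdeal ⊥ bot_ne_top).ge) fun n _ ↦ ?_
    let J := maximalIdeal A ^ n
    let φ : (A ⧸ J) →ₗ[A ⧸ J] (B ⧸ (J • ⊤ : Submodule A B)) :=
      LinearMap.toSpanSingleton _ _ (Submodule.Quotient.mk 1)
    have hφ : ∀ a : A, φ (Ideal.Quotient.mk J a) = Submodule.Quotient.mk (algebraMap A B a) :=
      fun a ↦ by
      simp only [φ, LinearMap.toSpanSingleton_apply, Algebra.algebraMap_eq_smul_one]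
      rfl
    have hmem : ∀ b : B, b ∈ (J • ⊤ : Submodule A B) ↔ b ∈ maximalIdeal B ^ n := fun b ↦ by
      rw [Ideal.smul_top_eq_map, Submodule.restrictScalars_mem, Ideal.map_pow, hm]
    refine Module.Flat.of_linearEquiv (LinearEquiv.ofBijective φ ⟨?_, ?_⟩).symm
    · rw [injective_iff_map_eq_zero]
      intro x hx
      obtain ⟨a, rfl⟩ := Ideal.Quotient.mk_surjective x
      rw [hφ, Submodule.Quotient.mk_eq_zero, hmem] at hx
      rw [Ideal.Quotient.eq_zero_iff_mem]
      show a ∈ maximalIdeal A ^ n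
      rw [← hk n, RingHom.mem_ker, RingHom.comp_apply,
        Ideal.Quotient.eq_zero_iff_mem]
      exact hx
    · intro c
      obtain ⟨b, rfl⟩ := Submodule.Quotient.mk_surjective _ c
      obtain ⟨a, ha⟩ := h n (Ideal.Quotient.mk _ b)
      refine ⟨Ideal.Quotient.mk J a, ?_⟩
      rw [hφ, Submodule.Quotient.eq, hmem]
      exact Ideal.Quotient.eq.mp ha

end Ring

open CategoryTheory AlgebraicGeometry

variable {X Y : Scheme.{u}} (f : X ⟶ Y) [LocallyOfFiniteType f] [IsLocallyNoetherian Y] (x : X)

set_option backward.isDefEq.respectTransparency.types false in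
theorem unramified_nhd_iff
    (hk : Function.Surjective (f.residueFieldMap x) ∨ IsSepClosed (Y.residueField (f.base x))) :
    (∃ U : X.Opens, x ∈ U ∧ FormallyUnramified (U.ι ≫ f)) ↔
      ∀ n : ℕ, Function.Surjective
        ((Ideal.Quotient.mk (maximalIdeal (X.presheaf.stalk x) ^ n)).comp (f.stalkMap x).hom) := by
  have := LocallyOfFiniteType.isLocallyNoetherian f
  rw [exists_formallyUnramified_iff]
  algebraize [(f.stalkMap x).hom]
  have : IsLocalHom (algebraMap (Y.presheaf.stalk (f x)) (X.presheaf.stalk x)) :=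
    inferInstanceAs <| IsLocalHom (f.stalkMap x).hom
  have : Algebra.EssFiniteType (Y.presheaf.stalk (f x)) (X.presheaf.stalk x) := by
    rw [← RingHom.essFiniteType_algebraMap, RingHom.algebraMap_toAlgebra]
    exact LocallyOfFiniteType.stalkMap f x
  refine (formallyUnramified_iff_forall_surjective
    (A := Y.presheaf.stalk (f x)) (B := X.presheaf.stalk x) (hk.imp_left fun h z ↦ ?_))
  obtain ⟨y, hy⟩ := h z
  exact ⟨y, Eq.trans (by obtain ⟨a, rfl⟩ := residue_surjective y; rfl) hy⟩

set_option backward.isDefEq.respectTransparency.types false in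
theorem etale_nhd_iff
    (hk : Function.Surjective (f.residueFieldMap x) ∨ IsAlgClosed (Y.residueField (f.base x))) :
    (∃ U : X.Opens, x ∈ U ∧ Etale (U.ι ≫ f)) ↔
      ∀ n : ℕ, Function.Surjective
          ((Ideal.Quotient.mk (maximalIdeal (X.presheaf.stalk x) ^ n)).comp (f.stalkMap x).hom) ∧
        RingHom.ker ((Ideal.Quotient.mk (maximalIdeal (X.presheaf.stalk x) ^ n)).comp
          (f.stalkMap x).hom) = maximalIdeal (Y.presheaf.stalk (f.base x)) ^ n := by
  have := LocallyOfFiniteType.isLocallyNoetherian f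
  have hk' : Function.Surjective (f.residueFieldMap x) ∨ IsSepClosed (Y.residueField (f.base x)) :=
    hk.imp_right fun h ↦ @IsSepClosed.of_isAlgClosed _ _ h
  rw [exists_etale_iff, ← exists_formallyUnramified_iff, unramified_nhd_iff f x hk', forall_and]
  algebraize [(f.stalkMap x).hom]
  have : IsLocalHom (algebraMap (Y.presheaf.stalk (f x)) (X.presheaf.stalk x)) :=
    inferInstanceAs <| IsLocalHom (f.stalkMap x).hom
  have hfl := fun h ↦ flat_iff_forall_ker (A := Y.presheaf.stalk (f x))
    (B := X.presheaf.stalk x) h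
  exact ⟨fun ⟨h1, h2⟩ ↦ ⟨h2, (hfl h2).mp h1⟩, fun ⟨h1, h2⟩ ↦ ⟨(hfl h1).mpr h2, h1⟩⟩

end Groth.Agent.Unr55
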