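import Groth.Agent.Unr55.EtaleStrictHens
import Groth.Agent.Props58.GeomUnibranch
import Groth.Agent.Unr55.UnrQF
import Mathlib.AlgebraicGeometry.Morphisms.QuasiFinite
import Mathlib.AlgebraicGeometry.Properties

/-!
Irreducible components of a scheme locally quasi-finite over an irreducible one, all of whose points
have a unique maximal generization, lying over the generic point.
-/

universe u

open CategoryTheory CategoryTheory.Limits AlgebraicGeometry IsLocalRing

namespace Groth.Agent.Unr55.EtComp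

/-- A unibranch local ring has a unique minimal prime. -/
theorem subsingleton_minimalPrimes {A : Type u} [CommRing A] [IsLocalRing A] (h : CAlg2.IsGeomUnibranch A) :
    Subsingleton (minimalPrimes A) := by
  have hd : IsDomain (A ⧸ nilradical A) := h.1.1
  have hp : (nilradical A).IsPrime := (Ideal.Quotient.isDomain_iff_prime _).mp hd
  refine ⟨fun ⟨P, hP⟩ ⟨P', hP'⟩ => Subtype.ext ?_⟩
  have := hP.1.1
  have := hP'.1.1
  exact (le_antisymm (hP.2 ⟨hp, bot_le⟩ (nilradical_le_prime P)) (nilradical_le_prime P)).trans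
    (le_antisymm (hP'.2 ⟨hp, bot_le⟩ (nilradical_le_prime P')) (nilradical_le_prime P')).symm

set_option backward.isDefEq.respectTransparency.types false in
/-- Geometrically unibranch points ascend along etale morphisms. -/
theorem isGeomUnibranch_stalk {X Y : Scheme.{u}} (f : X ⟶ Y) [LocallyOfFinitePresentation f] (x : X)
    (hf : ∃ U : X.Opens, x ∈ U ∧ Etale (U.ι ≫ f))
    (hY : CAlg2.IsGeomUnibranch (Y.presheaf.stalk (f x))) :
    CAlg2.IsGeomUnibranch (X.presheaf.stalk x) := by
  let : Algebra (Y.presheaf.stalk (f x)) (X.presheaf.stalk x) := (f.stalkMap x).hom.toAlgebra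
  have : IsLocalHom (algebraMap (Y.presheaf.stalk (f x)) (X.presheaf.stalk x)) :=
    inferInstanceAs <| IsLocalHom (f.stalkMap x).hom
  let S := Henz21.StrictHenselization (Y.presheaf.stalk (f x))
  have hsub : Subsingleton (minimalPrimes S) :=
    (Props58.GeomUnibranch.subsingleton_minimalPrimes_iff S).1 hY
  obtain ⟨ψ, hψ, -, hsh⟩ := EtSH.exists_isStrictHenselization (EtSH.isEssentiallyEtale_stalkMap f x hf) S
  let : Algebra (X.presheaf.stalk x) S := ψ.toAlgebra
  have : IsLocalHom (algebraMap (X.presheaf.stalk x) S) := hψ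
  have : Hensel.IsStrictHenselization (X.presheaf.stalk x) S := hsh
  exact (Props58.GeomUnibranch.subsingleton_minimalPrimes_iff S).2 hsub

/-- Maximal generizations of a point with a unique minimal prime are unique. -/
theorem eq_of_maximal {X : Scheme.{u}} (x : X) (hsub : Subsingleton (minimalPrimes (X.presheaf.stalk x)))
    {a b : X} (ha : a ⤳ x) (hb : b ⤳ x) (hamax : ∀ z, z ⤳ a → z = a) (hbmax : ∀ z, z ⤳ b → z = b) :
    a = b := by
  have hinj := (X.fromSpecStalk x).isEmbedding.injective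
  have key : ∀ c, c ⤳ x → (∀ z, z ⤳ c → z = c) →
      ∃ P : PrimeSpectrum (X.presheaf.stalk x), X.fromSpecStalk x P = c ∧
        P.asIdeal ∈ minimalPrimes (X.presheaf.stalk x) := by
    intro c hc hmax
    obtain ⟨P, hP⟩ : c ∈ Set.range (X.fromSpecStalk x) := by rw [X.range_fromSpecStalk]; exact hc
    refine ⟨P, hP, ⟨P.2, bot_le⟩, fun J hJ hle => ?_⟩
    have h := ((PrimeSpectrum.le_iff_specializes ⟨J, hJ.1⟩ P).mp hle).map (X.fromSpecStalk x).continuous
    rw [hP] at h
    have := hinj ((hmax _ h).trans hP.symm)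
    rw [← this]
  obtain ⟨P, hP, hPm⟩ := key a ha hamax
  obtain ⟨P', hP', hPm'⟩ := key b hb hbmax
  have : P = P' := PrimeSpectrum.ext (congrArg Subtype.val (hsub.elim ⟨_, hPm⟩ ⟨_, hPm'⟩))
  rw [← hP, ← hP', this]

theorem exists_maximal_generization {X : Scheme.{u}} (x : X) :
    ∃ ξ : X, ξ ⤳ x ∧ (∀ z, z ⤳ ξ → z = ξ) ∧ irreducibleComponent x = closure {ξ} := by
  obtain ⟨ξ, hξ⟩ := QuasiSober.sober (isIrreducible_irreducibleComponent (x := x))
    isClosed_irreducibleComponent
  have hx : ξ ⤳ x := hξ.specializes mem_irreducibleComponent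
  refine ⟨ξ, hx, fun z hz => ?_, hξ.symm⟩
  have hle : irreducibleComponent x ⊆ closure {z} := by
    rw [← hξ]
    exact closure_minimal (Set.singleton_subset_iff.2 hz.mem_closure) isClosed_closure
  have hzξ : closure {z} ⊆ irreducibleComponent x :=
    (irreducibleComponent_mem_irreducibleComponents x).2 isIrreducible_singleton.closure hle
  rw [← hξ] at hzξ
  exact ((specializes_iff_mem_closure.2 (hzξ (subset_closure rfl))).antisymm hz).eq.symm

variable {X Y : Scheme.{u}} (f : X ⟶ Y) [IrreducibleSpace Y]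

/-- Points over the generic point are maximal, for morphisms with discrete fibres. -/
theorem maximal_of_over_generic [LocallyQuasiFinite f] {z ξ : X} (hξ : f ξ = genericPoint Y) (hz : z ⤳ ξ) :
    z = ξ := by
  have he : f z = f ξ := by
    have h1 : f z ⤳ genericPoint Y := hξ ▸ hz.map f.continuous
    rw [hξ]
    exact (h1.antisymm (genericPoint_specializes _)).eq
  have : DiscreteTopology (f ⁻¹' {f ξ} : Set X) := (f.isDiscrete_preimage_singleton (f ξ)).to_subtype
  have h : (⟨z, he⟩ : (f ⁻¹' {f ξ} : Set X)) ⤳ ⟨ξ, rfl⟩ := (subtype_specializes_iff _ _).mpr hz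
  exact congrArg Subtype.val h.eq

/-- Near every point only finitely many points lie over the generic point. -/
theorem exists_open_finite [LocallyQuasiFinite f] (x : X) :
    ∃ V : X.Opens, x ∈ V ∧ ((f ⁻¹' {genericPoint Y}) ∩ (V : Set X)).Finite := by
  obtain ⟨W, hW, hxW, -⟩ := exists_isAffineOpen_mem_and_subset (U := (⊤ : Y.Opens)) (x := f x) trivial
  obtain ⟨V, hV, hxV, e⟩ := exists_isAffineOpen_mem_and_subset (U := f ⁻¹ᵁ W) (x := x) hxW
  have : IsAffine V := hV
  have : IsAffine W := hW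
  have hlq : LocallyQuasiFinite (f.resLE W V e) := by
    have : LocallyQuasiFinite (f.resLE W V e ≫ W.ι) := by
      rw [Scheme.Hom.resLE_comp_ι]; infer_instance
    exact LocallyQuasiFinite.of_comp _ W.ι
  have hη : genericPoint Y ∈ W := ((genericPoint_spec Y).mem_open_set_iff W.2).2 ⟨f x, trivial, hxW⟩
  refine ⟨V, hxV, (((f.resLE W V e).finite_preimage_singleton ⟨genericPoint Y, hη⟩).image Subtype.val).subset ?_⟩
  rintro z ⟨hz, hzV⟩
  refine ⟨⟨z, hzV⟩, ?_, rfl⟩
  apply W.ι.isOpenEmbedding.injective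
  show (f.resLE W V e ≫ W.ι) ⟨z, hzV⟩ = genericPoint Y
  rw [Scheme.Hom.resLE_comp_ι]
  exact hz

/-- If every point has a unique maximal generization and maximal points lie over the generic point,
the irreducible components are open, disjoint, with a single point over the generic point. -/
theorem components [LocallyQuasiFinite f]
    (hmax : ∀ ξ : X, (∀ z, z ⤳ ξ → z = ξ) → f ξ = genericPoint Y)
    (huniq : ∀ x : X, Subsingleton (minimalPrimes (X.presheaf.stalk x))) :
    (∀ x : X, ∃! Z, Z ∈ irreducibleComponents ↥X ∧ x ∈ Z) ∧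
    (∀ Z ∈ irreducibleComponents ↥X, IsOpen Z ∧ ∃! x : X, x ∈ Z ∧ f x = genericPoint Y) := by
  have hgen : ∀ Z ∈ irreducibleComponents ↥X, ∃ ξ, Z = closure {ξ} ∧ ∀ z, z ⤳ ξ → z = ξ := by
    intro Z hZ
    obtain ⟨ξ, hξ⟩ := QuasiSober.sober hZ.1 (isClosed_of_mem_irreducibleComponents Z hZ)
    refine ⟨ξ, hξ.symm, fun z hz => ?_⟩
    have hle : Z ⊆ closure {z} := by
      rw [← hξ]
      exact closure_minimal (Set.singleton_subset_iff.2 hz.mem_closure) isClosed_closure
    have hzξ : closure {z} ⊆ Z := hZ.2 isIrreducible_singleton.closure hle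
    rw [← hξ] at hzξ
    exact ((specializes_iff_mem_closure.2 (hzξ (subset_closure rfl))).antisymm hz).eq.symm
  refine ⟨fun x => ?_, fun Z hZ => ?_⟩
  · refine ⟨irreducibleComponent x, ⟨irreducibleComponent_mem_irreducibleComponents x,
      mem_irreducibleComponent⟩, ?_⟩
    rintro Z ⟨hZ, hxZ⟩
    obtain ⟨ξ, rfl, hξ⟩ := hgen Z hZ
    obtain ⟨ξ', hξ'x, hξ', hξ'e⟩ := exists_maximal_generization x
    rw [hξ'e, eq_of_maximal x (huniq x) (specializes_iff_mem_closure.2 hxZ) hξ'x hξ hξ']
  · obtain ⟨ξ, rfl, hξ⟩ := hgen Z hZ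
    refine ⟨isOpen_iff_forall_mem_open.2 fun x hx => ?_, ?_⟩
    · obtain ⟨V, hxV, hfin⟩ := exists_open_finite f x
      let F := ((f ⁻¹' {genericPoint Y}) ∩ (V : Set X)) \ {ξ}
      have hFc : IsClosed (⋃ ξ' ∈ F, closure {ξ'}) :=
        (hfin.subset fun _ h => h.1).isClosed_biUnion fun _ _ => isClosed_closure
      refine ⟨(V : Set X) \ ⋃ ξ' ∈ F, closure {ξ'}, fun y hy => ?_, V.2.sdiff hFc, hxV, ?_⟩
      · obtain ⟨ξ', hξ'y, hξ', -⟩ := exists_maximal_generization y
        have hξ'V : ξ' ∈ V := hξ'y.mem_open V.2 hy.1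
        by_cases he : ξ' = ξ
        · exact he ▸ hξ'y.mem_closure
        · exact absurd (Set.mem_iUnion₂.mpr ⟨ξ', ⟨⟨hmax ξ' hξ', hξ'V⟩, he⟩, hξ'y.mem_closure⟩) hy.2
      · simp only [Set.mem_iUnion, not_exists]
        rintro ξ' ⟨⟨hξ'η, -⟩, hne⟩ hxξ'
        exact hne (eq_of_maximal x (huniq x) (specializes_iff_mem_closure.2 hxξ')
          (specializes_iff_mem_closure.2 hx) (fun z hz => maximal_of_over_generic f hξ'η hz) hξ)
    · refine existsUnique_of_exists_of_unique ⟨ξ, subset_closure rfl, hmax ξ hξ⟩ fun a b ha hb => ?_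
      suffices key : ∀ z, z ∈ closure {ξ} ∧ f z = genericPoint Y → z = ξ from (key a ha).trans (key b hb).symm
      rintro z ⟨hz, hzη⟩
      exact (maximal_of_over_generic f hzη (specializes_iff_mem_closure.2 hz)).symm

end Groth.Agent.Unr55.EtComp
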