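import Mathlib.RingTheory.Etale.Field
import Mathlib.RingTheory.Trace.Basic
import Mathlib.RingTheory.Kaehler.TensorProduct
import Mathlib.RingTheory.Smooth.Fiber
import Mathlib.RingTheory.Artinian.Module
import Mathlib.RingTheory.LocalRing.Module
import Mathlib.LinearAlgebra.Determinant
import Mathlib.RingTheory.Finiteness.ModuleFinitePresentation
import Mathlib.LinearAlgebra.TensorProduct.Basis

/-!
The trace form detects finite free étale algebras.
-/

universe u

open TensorProduct

namespace Groth.Agent.Unr55

theorem bijective_traceForm_iff_isUnit_det {A B : Type u} [CommRing A] [CommRing B] [Algebra A B]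
    {ι : Type*} [Fintype ι] [DecidableEq ι] (b : Module.Basis ι A B) :
    Function.Bijective (Algebra.traceForm A B) ↔ IsUnit (Algebra.traceMatrix A b).det := by
  have : Module.Finite A B := .of_basis b
  have : Module.Free A B := .of_basis b
  let e : (B →ₗ[A] A) ≃ₗ[A] B := b.dualBasis.equiv b (Equiv.refl ι)
  let g : B →ₗ[A] B := e.toLinearMap ∘ₗ Algebra.traceForm A B
  have hg : Function.Bijective g ↔ Function.Bijective (Algebra.traceForm A B) :=
    Function.Bijective.of_comp_iff' e.bijective _
  rw [← hg, ← Module.End.isUnit_iff, LinearMap.isUnit_iff_isUnit_det, ← LinearMap.det_toMatrix b]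
  have : LinearMap.toMatrix b b g = (Algebra.traceMatrix A b).transpose := by
    ext i j
    rw [LinearMap.toMatrix_apply, Matrix.transpose_apply, Algebra.traceMatrix_apply]
    simp [g, e, Module.Basis.equiv]
  rw [this, Matrix.det_transpose]

theorem trace_one_tmul {A B : Type u} (K : Type u) [CommRing A] [CommRing B] [CommRing K]
    [Algebra A B] [Algebra A K] {ι : Type*} [Fintype ι] [DecidableEq ι] (b : Module.Basis ι A B)
    (x : B) : Algebra.trace K (K ⊗[A] B) (1 ⊗ₜ x) = algebraMap A K (Algebra.trace A B x) := by
  rw [Algebra.trace_eq_matrix_trace (b.baseChange K), Algebra.trace_eq_matrix_trace b,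
    Matrix.trace, Matrix.trace, map_sum]
  refine Finset.sum_congr rfl fun i _ ↦ ?_
  simp [Matrix.diag, Algebra.leftMulMatrix_eq_repr_mul, Algebra.smul_def]

theorem traceMatrix_baseChange {A B : Type u} (K : Type u) [CommRing A] [CommRing B] [CommRing K]
    [Algebra A B] [Algebra A K] {ι : Type*} [Fintype ι] [DecidableEq ι] (b : Module.Basis ι A B) :
    Algebra.traceMatrix K (b.baseChange K) = (Algebra.traceMatrix A b).map (algebraMap A K) := by
  ext i j
  rw [Matrix.map_apply, Algebra.traceMatrix_apply, Algebra.traceMatrix_apply,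
    Algebra.traceForm_apply, Algebra.traceForm_apply, Module.Basis.baseChange_apply,
    Module.Basis.baseChange_apply, Algebra.TensorProduct.tmul_mul_tmul, one_mul, trace_one_tmul K b]

/-- A finite reduced algebra over an algebraically closed field is split. -/
theorem exists_algEquiv_pi_of_isReduced (K B : Type u) [Field K] [IsAlgClosed K] [CommRing B]
    [Algebra K B] [Module.Finite K B] [IsReduced B] :
    ∃ (I : Type u) (_ : Fintype I), Nonempty (B ≃ₐ[K] (I → K)) := by
  have : IsArtinianRing B := .of_finite K B
  have : Fintype (MaximalSpectrum B) := Fintype.ofFinite _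
  have h : ∀ m : MaximalSpectrum B, Function.Bijective (algebraMap K (B ⧸ m.asIdeal)) := fun m ↦ by
    have := m.isMaximal
    have : IsDomain (B ⧸ m.asIdeal) := Ideal.Quotient.isDomain _
    exact IsAlgClosed.algebraMap_bijective_of_isIntegral
  exact ⟨MaximalSpectrum B, inferInstance, ⟨((IsArtinianRing.equivPi B).restrictScalars K).trans
    (AlgEquiv.piCongrRight fun m ↦ (AlgEquiv.ofBijective (Algebra.ofId K _) (h m)).symm)⟩⟩

theorem etale_iff_isReduced_of_isAlgClosed (K B : Type u) [Field K] [IsAlgClosed K] [CommRing B]
    [Algebra K B] [Module.Finite K B] : Algebra.Etale K B ↔ IsReduced B := by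
  refine ⟨fun _ ↦ Algebra.FormallyUnramified.isReduced_of_field K B, fun _ ↦ ?_⟩
  obtain ⟨I, _, ⟨e⟩⟩ := exists_algEquiv_pi_of_isReduced K B
  exact (Algebra.Etale.iff_exists_algEquiv_prod K B).mpr
    ⟨I, inferInstance, fun _ ↦ K, inferInstance, inferInstance, e, fun _ ↦ ⟨inferInstance, inferInstance⟩⟩

theorem bijective_traceForm_iff_of_isAlgClosed (K B : Type u) [Field K] [IsAlgClosed K] [CommRing B]
    [Algebra K B] [Module.Finite K B] :
    Function.Bijective (Algebra.traceForm K B) ↔ IsReduced B := by
  refine ⟨fun h ↦ ⟨fun x hx ↦ ?_⟩, fun _ ↦ ?_⟩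
  · refine h.1 (LinearMap.ext fun y ↦ ?_)
    rw [map_zero, LinearMap.zero_apply, Algebra.traceForm_apply]
    exact (Algebra.isNilpotent_trace_of_isNilpotent ((Commute.all _ _).isNilpotent_mul_right hx)).eq_zero
  · obtain ⟨I, _, ⟨e⟩⟩ := exists_algEquiv_pi_of_isReduced K B
    have hinj : Function.Injective (Algebra.traceForm K B) := by
      rw [injective_iff_map_eq_zero]
      intro x hx
      classical
      refine e.injective (funext fun i ↦ ?_)
      have := LinearMap.congr_fun hx (e.symm (Pi.single i 1))
      rw [LinearMap.zero_apply, Algebra.traceForm_apply, ← Algebra.trace_eq_of_algEquiv e, map_mul,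
        e.apply_symm_apply, Algebra.trace_eq_matrix_trace (Pi.basisFun K I)] at this
      rw [map_zero, Pi.zero_apply, ← this]
      simp [Matrix.trace, Matrix.diag, Algebra.leftMulMatrix_eq_repr_mul, Pi.single_apply]
    refine ⟨hinj, ?_⟩
    exact (LinearMap.injective_iff_surjective_of_finrank_eq_finrank
      (f := Algebra.traceForm K B) (Subspace.dual_finrank_eq (K := K) (V := B)).symm).mp hinj

theorem formallyUnramified_of_baseChange_field {k B : Type u} (K : Type u) [Field k] [Field K]
    [Algebra k K] [CommRing B] [Algebra k B] [Algebra.FormallyUnramified K (K ⊗[k] B)] :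
    Algebra.FormallyUnramified k B := by
  let := Algebra.TensorProduct.rightAlgebra (R := k) (A := K) (B := B)
  have : Subsingleton (K ⊗[k] Ω[B⁄k]) :=
    (KaehlerDifferential.tensorKaehlerEquivBase k K B (K ⊗[k] B)).subsingleton
  exact ⟨(Module.FaithfullyFlat.subsingleton_tensorProduct_iff_right k K).mp this⟩

theorem bijective_traceForm_iff_etale_field (k B : Type u) [Field k] [CommRing B] [Algebra k B]
    [Module.Finite k B] : Function.Bijective (Algebra.traceForm k B) ↔ Algebra.Etale k B := by
  let K := AlgebraicClosure k
  classical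
  let b := Module.finBasis k B
  have h1 : Function.Bijective (Algebra.traceForm k B) ↔
      Function.Bijective (Algebra.traceForm K (K ⊗[k] B)) := by
    rw [bijective_traceForm_iff_isUnit_det b, bijective_traceForm_iff_isUnit_det (b.baseChange K),
      traceMatrix_baseChange K b, ← RingHom.mapMatrix_apply, ← RingHom.map_det, isUnit_iff_ne_zero,
      isUnit_iff_ne_zero, map_ne_zero]
  rw [h1, bijective_traceForm_iff_of_isAlgClosed, ← etale_iff_isReduced_of_isAlgClosed K]
  refine ⟨fun _ ↦ ?_, fun _ ↦ inferInstance⟩
  have := formallyUnramified_of_baseChange_field (k := k) (B := B) K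
  exact ⟨Algebra.FormallyEtale.of_formallyUnramified_of_field k B,
    Algebra.FinitePresentation.of_finiteType.mp inferInstance⟩

/-- The trace form of a finite free algebra is perfect iff the algebra is étale. -/
theorem etale_iff_bijective_traceForm (A B : Type u) [CommRing A] [CommRing B] [Algebra A B]
    [Module.Finite A B] [Module.Free A B] :
    Algebra.Etale A B ↔ Function.Bijective (Algebra.traceForm A B) := by
  classical
  let b := Module.Free.chooseBasis A B
  have key : ∀ (p : Ideal A) [p.IsPrime], Algebra.Etale p.ResidueField (p.Fiber B) ↔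
      (Algebra.traceMatrix A b).det ∉ p := fun p _ ↦ by
    rw [← bijective_traceForm_iff_etale_field,
      bijective_traceForm_iff_isUnit_det (b.baseChange p.ResidueField), traceMatrix_baseChange,
      ← RingHom.mapMatrix_apply, ← RingHom.map_det, isUnit_iff_ne_zero, ne_eq,
      Ideal.algebraMap_residueField_eq_zero]
  rw [bijective_traceForm_iff_isUnit_det b]
  constructor
  · intro _
    by_contra hd
    obtain ⟨m, hm, hdm⟩ := exists_max_ideal_of_mem_nonunits hd
    exact (key m).mp inferInstance hdm
  · intro hd
    have : Module.FinitePresentation A B := Module.finitePresentation_of_projective A B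
    have : Algebra.FinitePresentation A B := inferInstance
    have : Algebra.FormallyUnramified A B := by
      refine ⟨(Module.support_eq_empty_iff (R := A)).mp (Set.eq_empty_iff_forall_notMem.mpr fun p hp ↦ ?_)⟩
      have : Module.Finite A Ω[B⁄A] := .trans B _
      rw [Module.mem_support_iff_nontrivial_residueField_tensorProduct] at hp
      let K := p.asIdeal.ResidueField
      have : Algebra.Etale K (p.asIdeal.Fiber B) :=
        (key p.asIdeal).mpr fun h ↦ p.2.ne_top (Ideal.eq_top_of_isUnit_mem _ h hd)
      let := Algebra.TensorProduct.rightAlgebra (R := A) (A := K) (B := B)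
      exact not_subsingleton (K ⊗[A] Ω[B⁄A])
        (KaehlerDifferential.tensorKaehlerEquivBase A K B (K ⊗[A] B)).subsingleton
    exact Algebra.Etale.of_formallyUnramified_of_flat

/-- The trace of a faithfully flat finite free étale algebra is onto. -/
theorem surjective_trace (A B : Type u) [CommRing A] [CommRing B] [Algebra A B]
    [Module.Finite A B] [Module.Free A B] [Algebra.Etale A B] [Module.FaithfullyFlat A B] :
    Function.Surjective (Algebra.trace A B) := by
  by_contra hs
  rw [← LinearMap.range_eq_top] at hs
  obtain ⟨m, hm, hle⟩ := Ideal.exists_le_maximal (LinearMap.range (Algebra.trace A B)) hs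
  classical
  let b := Module.Free.chooseBasis A B
  let K := m.ResidueField
  have hb := (bijective_traceForm_iff_etale_field K (m.Fiber B)).mpr inferInstance
  have : Nontrivial (m.Fiber B) := Module.FaithfullyFlat.rTensor_nontrivial A B K
  obtain ⟨x, hx⟩ := exists_ne (0 : m.Fiber B)
  refine hx (hb.1 (LinearMap.ext fun y ↦ ?_))
  rw [map_zero, LinearMap.zero_apply, Algebra.traceForm_apply]
  generalize x * y = z
  induction z using TensorProduct.induction_on with
  | zero => simp
  | add x y hx hy => simp [hx, hy]
  | tmul c t =>
    rw [show (c ⊗ₜ t : K ⊗[A] B) = c • (1 ⊗ₜ t) by simp [TensorProduct.smul_tmul'], map_smul,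
      trace_one_tmul K b, Ideal.algebraMap_residueField_eq_zero.mpr (hle ⟨t, rfl⟩), smul_zero]

end Groth.Agent.Unr55
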