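import Mathlib.RingTheory.Kaehler.JacobiZariski
import Mathlib.RingTheory.Smooth.Locus
import Mathlib.RingTheory.Smooth.Basic
import Mathlib.RingTheory.LocalRing.Module
import Mathlib.RingTheory.LocalRing.ResidueField.Ideal
import Mathlib.RingTheory.Etale.Basic

/-!
The Jacobi-Zariski criterion for relative smoothness.
-/

universe u

open TensorProduct

namespace Groth.Agent.Unr55

variable {A B L : Type u} [CommRing A] [CommRing B] [CommRing L] [Algebra A B] [Algebra A L]
  [Algebra B L] [IsScalarTower A B L]

/-- Smoothness of the top algebra reduces relative smoothness to a split injection. -/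
theorem formallySmooth_iff_exists_retraction [Algebra.FormallySmooth A L] :
    Algebra.FormallySmooth B L ↔
      ∃ r : Ω[L⁄A] →ₗ[L] L ⊗[B] Ω[B⁄A],
        r ∘ₗ KaehlerDifferential.mapBaseChange A B L = LinearMap.id := by
  let φ := KaehlerDifferential.mapBaseChange A B L
  let π := KaehlerDifferential.map A B L L
  have hπ : Function.Surjective π := KaehlerDifferential.map_surjective A B L
  constructor
  · intro _
    have hinj : Function.Injective φ := by
      rw [injective_iff_map_eq_zero]
      intro x hx
      obtain ⟨y, rfl⟩ := (Algebra.H1Cotangent.exact_δ_mapBaseChange A B L x).mp hx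
      rw [Subsingleton.elim y 0, map_zero]
    obtain ⟨σ, hσ⟩ := Module.projective_lifting_property π LinearMap.id hπ
    have h := fun x ↦ ((KaehlerDifferential.exact_mapBaseChange_map A B L) (x - σ (π x))).mp (by
      rw [map_sub, sub_eq_zero]; exact (LinearMap.congr_fun hσ (π x)).symm)
    choose r hr using h
    have hr' : ∀ x, φ (r x) = x - σ (π x) := hr
    refine ⟨{ toFun := r, map_add' := fun x y ↦ hinj ?_, map_smul' := fun c x ↦ hinj ?_ }, ?_⟩
    · rw [map_add, hr', hr', hr']; simp only [map_add]; abel
    · simp only [RingHom.id_apply, map_smul, hr', smul_sub]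
    · refine LinearMap.ext fun x ↦ hinj ?_
      change φ (r (φ x)) = φ x
      rw [hr', (KaehlerDifferential.exact_mapBaseChange_map A B L).apply_apply_eq_zero, map_zero,
        sub_zero]
  · rintro ⟨r, hr⟩
    have hinj : Function.Injective φ := Function.HasLeftInverse.injective ⟨r, LinearMap.congr_fun hr⟩
    refine ⟨?_, ?_⟩
    · obtain ⟨σ, hσ⟩ : ∃ σ : Ω[L⁄B] →ₗ[L] Ω[L⁄A], π ∘ₗ σ = LinearMap.id := by
        have h : LinearMap.ker π ≤ LinearMap.ker (LinearMap.id - φ ∘ₗ r) := fun x hx ↦ by
          obtain ⟨y, rfl⟩ := ((KaehlerDifferential.exact_mapBaseChange_map A B L) x).mp hx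
          change φ y - φ (r (φ y)) = 0
          rw [show r (φ y) = y from LinearMap.congr_fun hr y, sub_self]
        refine ⟨(LinearMap.ker π).liftQ _ h ∘ₗ (π.quotKerEquivOfSurjective hπ).symm, ?_⟩
        refine LinearMap.ext fun y ↦ ?_
        obtain ⟨x, rfl⟩ := hπ y
        have hx : (π.quotKerEquivOfSurjective hπ).symm (π x) = Submodule.Quotient.mk x :=
          (LinearEquiv.symm_apply_eq _).mpr rfl
        simp [hx, π, φ, (KaehlerDifferential.exact_mapBaseChange_map A B L).apply_apply_eq_zero]
      exact Module.Projective.of_split σ π hσ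
    · refine subsingleton_of_forall_eq 0 fun x ↦ ?_
      have h1 : Algebra.H1Cotangent.δ A B L x = 0 := hinj (by
        rw [map_zero]; exact (Algebra.H1Cotangent.exact_δ_mapBaseChange A B L).apply_apply_eq_zero x)
      obtain ⟨y, rfl⟩ := (Algebra.H1Cotangent.exact_map_δ A B L x).mp h1
      rw [Subsingleton.elim y 0, map_zero]

/-- Smoothness of the top algebra reduces relative étaleness to a bijection. -/
theorem formallyEtale_iff_bijective_mapBaseChange [Algebra.FormallySmooth A L] :
    Algebra.FormallyEtale B L ↔ Function.Bijective (KaehlerDifferential.mapBaseChange A B L) := by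
  constructor
  · intro _
    refine ⟨?_, fun y ↦ ((KaehlerDifferential.exact_mapBaseChange_map A B L) y).mp
      (Subsingleton.elim _ _)⟩
    obtain ⟨r, hr⟩ := (formallySmooth_iff_exists_retraction (A := A) (B := B) (L := L)).mp inferInstance
    exact Function.HasLeftInverse.injective ⟨r, LinearMap.congr_fun hr⟩
  · intro h
    rw [Algebra.FormallyEtale.iff_formallyUnramified_and_formallySmooth]
    refine ⟨⟨subsingleton_of_forall_eq 0 fun y ↦ ?_⟩, formallySmooth_iff_exists_retraction.mpr
      ⟨(LinearEquiv.ofBijective _ h).symm.toLinearMap, ?_⟩⟩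
    · obtain ⟨x, rfl⟩ := KaehlerDifferential.map_surjective A B L y
      obtain ⟨z, rfl⟩ := h.2 x
      exact (KaehlerDifferential.exact_mapBaseChange_map A B L).apply_apply_eq_zero z
    · exact LinearMap.ext fun x ↦ (LinearEquiv.ofBijective _ h).symm_apply_apply x

set_option backward.isDefEq.respectTransparency.types false in
/-- The fibrewise criterion. -/
theorem isSmoothAt_iff_injective_fibre {C : Type u} [CommRing C] [Algebra B C] [Algebra A C]
    [IsScalarTower A B C] [Algebra.FinitePresentation A B] [Algebra.FinitePresentation A C]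
    (q : Ideal C) [q.IsPrime] (hC : Algebra.IsSmoothAt A q)
    (hB : Algebra.IsSmoothAt A (q.comap (algebraMap B C))) :
    Algebra.IsSmoothAt B q ↔
      Function.Injective ((KaehlerDifferential.mapBaseChange A B C).lTensor q.ResidueField) := by
  let p := q.comap (algebraMap B C)
  let L := Localization.AtPrime q
  have : q.LiesOver p := ⟨rfl⟩
  let := Localization.AtPrime.algebraOfLiesOver p q
  let Bp := Localization.AtPrime p
  have : Algebra.FormallySmooth A L := hC
  have : Algebra.FormallySmooth A Bp := hB
  have : Algebra.EssFiniteType A Bp := .comp A B Bp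
  have : Algebra.EssFiniteType A L := .comp A C L
  have : Module.Free L Ω[L⁄A] := Module.free_of_flat_of_isLocalRing
  let eB : L ⊗[B] Ω[B⁄A] ≃ₗ[L] L ⊗[Bp] Ω[Bp⁄A] :=
    (AlgebraTensorModule.cancelBaseChange B Bp L L _).symm.trans
      (AlgebraTensorModule.congr (LinearEquiv.refl L L)
        (KaehlerDifferential.tensorKaehlerEquivOfFormallyEtale A B Bp))
  have : Module.Finite L (L ⊗[B] Ω[B⁄A]) := Module.Finite.equiv eB.symm
  refine (formallySmooth_iff_exists_retraction (A := A) (B := B) (L := L)).trans ?_
  rw [IsLocalRing.split_injective_iff_lTensor_residueField_injective]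
  let e1 : q.ResidueField ⊗[L] (L ⊗[B] Ω[B⁄A]) ≃ₗ[C] q.ResidueField ⊗[C] (C ⊗[B] Ω[B⁄A]) :=
    ((AlgebraTensorModule.cancelBaseChange B L q.ResidueField q.ResidueField _).trans
      (AlgebraTensorModule.cancelBaseChange B C q.ResidueField q.ResidueField _).symm).restrictScalars C
  let e2 : q.ResidueField ⊗[L] Ω[L⁄A] ≃ₗ[C] q.ResidueField ⊗[C] Ω[C⁄A] :=
    ((AlgebraTensorModule.congr (LinearEquiv.refl q.ResidueField q.ResidueField)
      (KaehlerDifferential.tensorKaehlerEquivOfFormallyEtale A C L).symm).trans
      (AlgebraTensorModule.cancelBaseChange C L q.ResidueField q.ResidueField _)).restrictScalars C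
  have key : ∀ z, e2 ((KaehlerDifferential.mapBaseChange A B L).lTensor q.ResidueField z) =
      (KaehlerDifferential.mapBaseChange A B C).lTensor q.ResidueField (e1 z) := fun z ↦ by
    induction z with
    | zero => simp
    | add x y hx hy => simp only [map_add, hx, hy]
    | tmul k m =>
      induction m with
      | zero => simp
      | add x y hx hy => simp only [tmul_add, map_add, hx, hy]
      | tmul l w =>
        have hw : KaehlerDifferential.map A A C L (KaehlerDifferential.map A A B C w) =
            KaehlerDifferential.map A A B L w := by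
          induction (KaehlerDifferential.span_range_derivation A B).ge (Submodule.mem_top : w ∈ ⊤)
            using Submodule.span_induction with
          | mem x hx =>
            obtain ⟨b, rfl⟩ := hx
            simp only [KaehlerDifferential.map_D, ← IsScalarTower.algebraMap_apply]
          | zero => simp
          | add x y _ _ hx hy => simp only [map_add, hx, hy]
          | smul c x _ hx => simp only [LinearMap.map_smul_of_tower, hx]
        have hinv : (KaehlerDifferential.tensorKaehlerEquivOfFormallyEtale A C L).symm
            (KaehlerDifferential.map A A B L w) = 1 ⊗ₜ KaehlerDifferential.map A A B C w := by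
          rw [LinearEquiv.symm_apply_eq, ← hw]
          simp [KaehlerDifferential.tensorKaehlerEquivOfFormallyEtale]
        simp [e1, e2, hinv, TensorProduct.smul_tmul']
  have hco : ⇑e2 ∘ ⇑((KaehlerDifferential.mapBaseChange A B L).lTensor q.ResidueField) =
      ⇑((KaehlerDifferential.mapBaseChange A B C).lTensor q.ResidueField) ∘ ⇑e1 := funext key
  constructor
  · intro h
    exact Function.Injective.of_comp_right (hco ▸ e2.injective.comp h) e1.surjective
  · intro h
    exact Function.Injective.of_comp (f := e2) (hco ▸ h.comp e1.injective)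

end Groth.Agent.Unr55
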