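import Groth.Agent.Sga84.SmoothQuot
import Groth.Agent.Unr55.JacobiSmooth
import Mathlib.RingTheory.Etale.Locus
import Mathlib.RingTheory.RingHom.Surjective
import Mathlib.RingTheory.RingHom.Etale

/-!
Coordinates of a smooth algebra at a point: quotients by elements with independent differentials,
and etale coordinate maps.
-/

universe u

open TensorProduct

namespace Groth.Agent.Unr55.Coord

noncomputable section

theorem surjective_ker_localRingHom {A B : Type u} [CommRing A] [CommRing B] (f : A →+* B)
    (hf : Function.Surjective f) (m : Ideal B) [m.IsPrime] :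
    Function.Surjective (Localization.localRingHom (m.comap f) m f rfl) ∧
      RingHom.ker (Localization.localRingHom (m.comap f) m f rfl) =
        (RingHom.ker f).map (algebraMap A (Localization.AtPrime (m.comap f))) := by
  constructor
  · exact RingHom.surjective_localRingHom_of_surjective f hf m
  · refine le_antisymm (fun x hx => ?_) (Ideal.map_le_iff_le_comap.2 fun r hr => ?_)
    · obtain ⟨⟨r, s⟩, rfl⟩ := IsLocalization.mk'_surjective (m.comap f).primeCompl x
      rw [RingHom.mem_ker, Localization.localRingHom_mk', IsLocalization.mk'_eq_zero_iff] at hx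
      obtain ⟨⟨t, ht⟩, htr⟩ := hx
      obtain ⟨t', rfl⟩ := hf t
      have ht' : t' * r ∈ RingHom.ker f := by rw [RingHom.mem_ker, map_mul]; exact htr
      exact (IsLocalization.mk'_mem_map_algebraMap_iff (m.comap f).primeCompl
        (Localization.AtPrime (m.comap f)) (RingHom.ker f) r s).2 ⟨t', ht, ht'⟩
    · rw [Ideal.mem_comap, RingHom.mem_ker, Localization.localRingHom_to_map, RingHom.mem_ker.1 hr,
        map_zero]

variable (R : Type u) {P : Type u} [CommRing R] [CommRing P] [Algebra R P]

/-- The differential of an element at a prime, as a vector over the residue field. -/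
def δ (q : Ideal P) [q.IsPrime] (x : P) :
    IsLocalRing.ResidueField (Localization.AtPrime q) ⊗[Localization.AtPrime q] Ω[Localization.AtPrime q⁄R] :=
  1 ⊗ₜ KaehlerDifferential.D R (Localization.AtPrime q) (algebraMap P (Localization.AtPrime q) x)

/-- At a prime of a quotient of an algebra smooth there, smoothness means that finitely many of the
generators with independent differentials already generate. -/
theorem isSmoothAt_iff [Algebra.FinitePresentation R P] {C : Type u} [CommRing C] [Algebra R C]
    [Algebra P C] [IsScalarTower R P C] (hs : Function.Surjective (algebraMap P C))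
    (hfg : (RingHom.ker (algebraMap P C)).FG) (Q : Ideal C) [Q.IsPrime]
    (hsm : Algebra.IsSmoothAt R (Q.comap (algebraMap P C)))
    {ι : Type u} (g : ι → P)
    (hker : (RingHom.ker (algebraMap P C)).map (algebraMap P (Localization.AtPrime (Q.comap (algebraMap P C)))) =
      Ideal.span (Set.range fun i => algebraMap P (Localization.AtPrime (Q.comap (algebraMap P C))) (g i))) :
    Algebra.IsSmoothAt R Q ↔ ∃ t : Finset ι,
      (RingHom.ker (algebraMap P C)).map (algebraMap P (Localization.AtPrime (Q.comap (algebraMap P C)))) =
        Ideal.span ((fun i => algebraMap P (Localization.AtPrime (Q.comap (algebraMap P C))) (g i)) '' ↑t) ∧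
      LinearIndependent (IsLocalRing.ResidueField (Localization.AtPrime (Q.comap (algebraMap P C))))
        (fun j : ↥t => δ R (Q.comap (algebraMap P C)) (g j)) := by
  have : Q.LiesOver (Q.comap (algebraMap P C)) := ⟨rfl⟩
  let := Localization.AtPrime.algebraOfLiesOver (Q.comap (algebraMap P C)) Q
  obtain ⟨hL, hK⟩ := surjective_ker_localRingHom (algebraMap P C) hs Q
  have : Algebra.FormallySmooth R (Localization.AtPrime (Q.comap (algebraMap P C))) := hsm
  have : Algebra.EssFiniteType R (Localization.AtPrime (Q.comap (algebraMap P C))) := .comp R P _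
  have hK' : RingHom.ker (algebraMap (Localization.AtPrime (Q.comap (algebraMap P C)))
      (Localization.AtPrime Q)) = (RingHom.ker (algebraMap P C)).map (algebraMap P _) := hK
  have h := SmoothQuot84.formallySmooth_iff R (Localization.AtPrime (Q.comap (algebraMap P C)))
    (Localization.AtPrime Q) hL (by rw [hK']; exact hfg.map _) _ (hK'.trans hker)
  rw [hK'] at h
  exact h

/-- Elements with independent differentials cut out a smooth algebra. -/
theorem isSmoothAt_of_linearIndependent [Algebra.FinitePresentation R P] {C : Type u} [CommRing C]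
    [Algebra R C] [Algebra P C] [IsScalarTower R P C] (hs : Function.Surjective (algebraMap P C))
    (hfg : (RingHom.ker (algebraMap P C)).FG) (Q : Ideal C) [Q.IsPrime]
    (hsm : Algebra.IsSmoothAt R (Q.comap (algebraMap P C)))
    {ι : Type u} [Finite ι] (g : ι → P)
    (hker : (RingHom.ker (algebraMap P C)).map (algebraMap P (Localization.AtPrime (Q.comap (algebraMap P C)))) =
      Ideal.span (Set.range fun i => algebraMap P (Localization.AtPrime (Q.comap (algebraMap P C))) (g i)))
    (hli : LinearIndependent (IsLocalRing.ResidueField (Localization.AtPrime (Q.comap (algebraMap P C))))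
      (fun i => δ R (Q.comap (algebraMap P C)) (g i))) :
    Algebra.IsSmoothAt R Q := by
  have := Fintype.ofFinite ι
  refine (isSmoothAt_iff R hs hfg Q hsm g hker).mpr ⟨Finset.univ, ?_, hli.comp _ Subtype.val_injective⟩
  rw [hker, Finset.coe_univ, Set.image_univ]

/-- The differentials of the elements of the algebra span at every point. -/
theorem span_range_δ (q : Ideal P) [q.IsPrime] :
    Submodule.span (IsLocalRing.ResidueField (Localization.AtPrime q)) (Set.range (δ R q)) = ⊤ := by
  let L := Localization.AtPrime q
  let V := Submodule.span (IsLocalRing.ResidueField L) (Set.range (δ R q))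
  have hb : ∀ x : P, KaehlerDifferential.D R L (algebraMap P L x) ∈
      (V.restrictScalars L).comap (TensorProduct.mk L (IsLocalRing.ResidueField L) Ω[L⁄R] 1) :=
    fun x => Submodule.subset_span ⟨x, rfl⟩
  have hall : ∀ w : Ω[L⁄R], (1 : IsLocalRing.ResidueField L) ⊗ₜ[L] w ∈ V := by
    intro w
    suffices h : (⊤ : Submodule L Ω[L⁄R]) ≤
        (V.restrictScalars L).comap (TensorProduct.mk L (IsLocalRing.ResidueField L) Ω[L⁄R] 1) from
      h Submodule.mem_top
    rw [← KaehlerDifferential.span_range_derivation R L, Submodule.span_le]
    rintro _ ⟨x, rfl⟩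
    obtain ⟨⟨b, s⟩, hbs⟩ := IsLocalization.surj q.primeCompl x
    have hu := IsLocalization.map_units L s
    have h := congrArg (KaehlerDifferential.D R L) hbs
    rw [Derivation.leibniz, add_comm] at h
    rw [SetLike.mem_coe, ← Submodule.smul_mem_iff_of_isUnit _ hu, eq_sub_of_add_eq h]
    exact sub_mem (hb b) (Submodule.smul_mem _ _ (hb s))
  rw [eq_top_iff]
  rintro z -
  induction z with
  | zero => exact zero_mem _
  | add a b ha hb => exact add_mem ha hb
  | tmul c w =>
    rw [show c ⊗ₜ[L] w = c • ((1 : IsLocalRing.ResidueField L) ⊗ₜ[L] w) by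
      rw [TensorProduct.smul_tmul', smul_eq_mul, mul_one]]
    exact Submodule.smul_mem _ c (hall w)

/-- An independent family of differentials extends to a basis by differentials of elements. -/
theorem exists_extend [Algebra.FinitePresentation R P] (q : Ideal P) [q.IsPrime] {r : ℕ} (g : Fin r → P)
    (hli : LinearIndependent (IsLocalRing.ResidueField (Localization.AtPrime q)) (fun i => δ R q (g i))) :
    ∃ (m : ℕ) (g' : Fin m → P),
      LinearIndependent (IsLocalRing.ResidueField (Localization.AtPrime q))
        (fun j => δ R q (Sum.elim g g' j)) ∧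
      Submodule.span (IsLocalRing.ResidueField (Localization.AtPrime q))
        (Set.range fun j => δ R q (Sum.elim g g' j)) = ⊤ := by
  classical
  let L := Localization.AtPrime q
  have : Algebra.EssFiniteType R L := .comp R P L
  let W := Submodule.span (IsLocalRing.ResidueField L) (Set.range fun i => δ R q (g i))
  obtain ⟨κ, a, hinj, hspan, hli'⟩ := exists_linearIndependent' (IsLocalRing.ResidueField L)
    (fun x : P => W.mkQ (δ R q x))
  have hspan' : Submodule.span (IsLocalRing.ResidueField L) (Set.range (W.mkQ ∘ δ R q ∘ a)) = ⊤ := by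
    refine hspan.trans ?_
    rw [show (fun x : P => W.mkQ (δ R q x)) = W.mkQ ∘ δ R q from rfl, Set.range_comp, ← Submodule.map_span,
      span_range_δ, Submodule.map_top, Submodule.range_mkQ]
  have : Finite κ := hli'.finite
  obtain ⟨m, ⟨e⟩⟩ := Finite.exists_equiv_fin κ
  refine ⟨m, a ∘ e.symm, ?_, ?_⟩
  · have h1 : LinearIndependent (IsLocalRing.ResidueField L) (W.mkQ ∘ (fun j => δ R q (a (e.symm j)))) :=
      hli'.comp _ e.symm.injective
    refine linearIndependent_sum.mpr ⟨hli, h1.of_comp, ?_⟩
    show Disjoint W _
    rw [Submodule.disjoint_def]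
    intro x hxW hx
    obtain ⟨c, rfl⟩ := (Submodule.mem_span_range_iff_exists_fun _).mp hx
    have h0 : ∑ j, c j • (W.mkQ ∘ fun j => δ R q (a (e.symm j))) j = 0 := by
      simp only [Function.comp_apply, ← map_smul, ← map_sum]
      exact (Submodule.Quotient.mk_eq_zero W).mpr hxW
    exact Finset.sum_eq_zero fun j _ => by
      show c j • _ = 0
      rw [Fintype.linearIndependent_iff.mp h1 c h0 j, zero_smul]
  · rw [show (fun j => δ R q (Sum.elim g (a ∘ e.symm) j)) =
        Sum.elim (fun i => δ R q (g i)) (fun j => δ R q (a (e.symm j))) by ext (i | i) <;> rfl,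
      Set.Sum.elim_range, Submodule.span_union]
    rw [eq_top_iff]
    intro z _
    have hz : W.mkQ z ∈ Submodule.span (IsLocalRing.ResidueField L) (Set.range (W.mkQ ∘ δ R q ∘ a)) :=
      hspan' ▸ Submodule.mem_top
    rw [show (W.mkQ ∘ δ R q ∘ a) = W.mkQ ∘ (δ R q ∘ a) from rfl, Set.range_comp, ← Submodule.map_span] at hz
    obtain ⟨y, hy, hyz⟩ := hz
    rw [← sub_add_cancel z y]
    refine Submodule.add_mem_sup ((Submodule.Quotient.eq W).mp hyz.symm) ?_
    refine Submodule.span_mono ?_ hy
    rintro _ ⟨k, rfl⟩
    exact ⟨e k, by simp⟩

/-- The differentials of a family form a basis once they do so at the closed point. -/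
theorem bijective_linearCombination [Algebra.FinitePresentation R P] (q : Ideal P) [q.IsPrime]
    (hsm : Algebra.IsSmoothAt R q) {σ : Type u} (g : σ → P)
    (hli : LinearIndependent (IsLocalRing.ResidueField (Localization.AtPrime q)) (fun j => δ R q (g j)))
    (hspan : Submodule.span (IsLocalRing.ResidueField (Localization.AtPrime q))
      (Set.range fun j => δ R q (g j)) = ⊤) :
    Function.Bijective (Finsupp.linearCombination (Localization.AtPrime q) fun j =>
      KaehlerDifferential.D R (Localization.AtPrime q) (algebraMap P (Localization.AtPrime q) (g j))) := by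
  have : Algebra.FormallySmooth R (Localization.AtPrime q) := hsm
  have : Algebra.EssFiniteType R (Localization.AtPrime q) := .comp R P _
  refine Module.IsLocalRing.linearCombination_bijective_of_flat _ ⟨hli, ?_⟩
  rw [← LinearMap.range_eq_top, Finsupp.range_linearCombination]
  exact hspan

/-- Elements whose differentials form a basis at a point give etale coordinates there. -/
theorem exists_etale_aeval [Algebra.FinitePresentation R P] (q : Ideal P) [q.IsPrime]
    (hsm : Algebra.IsSmoothAt R q) {σ : Type} [Finite σ] (g : σ → P)
    (hli : LinearIndependent (IsLocalRing.ResidueField (Localization.AtPrime q)) (fun j => δ R q (g j)))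
    (hspan : Submodule.span (IsLocalRing.ResidueField (Localization.AtPrime q))
      (Set.range fun j => δ R q (g j)) = ⊤) :
    ∃ f ∉ q, (MvPolynomial.aeval (fun j => algebraMap P (Localization.Away f) (g j)) :
      MvPolynomial σ R →ₐ[R] Localization.Away f).toRingHom.Etale := by
  have := Fintype.ofFinite σ
  let B := MvPolynomial σ R
  let L := Localization.AtPrime q
  let := (MvPolynomial.aeval g : B →ₐ[R] P).toRingHom.toAlgebra
  have : IsScalarTower R B P := IsScalarTower.of_algebraMap_eq fun x =>
    ((MvPolynomial.aeval g).commutes x).symm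
  have : Algebra.FinitePresentation B P := Algebra.FinitePresentation.of_restrict_scalars_finitePresentation R B P
  have : Algebra.FormallySmooth R L := hsm
  have hb := bijective_linearCombination R q hsm (fun j : ULift.{u} σ => g j.down)
    (hli.comp _ Equiv.ulift.injective) (by
      rw [← hspan]; congr 1; exact Equiv.ulift.surjective.range_comp (fun j => δ R q (g j)))
  have het : Algebra.IsEtaleAt B q := by
    refine (Groth.Agent.Unr55.formallyEtale_iff_bijective_mapBaseChange (A := R) (B := B) (L := L)).mpr ?_
    let b := ((KaehlerDifferential.mvPolynomialBasis R σ).baseChange L).reindex Equiv.ulift.symm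
    have hφ : (KaehlerDifferential.mapBaseChange R B L) ∘ₗ b.repr.symm.toLinearMap =
        Finsupp.linearCombination L fun j : ULift.{u} σ =>
          KaehlerDifferential.D R L (algebraMap P L (g j.down)) := by
      refine Finsupp.lhom_ext' fun j => LinearMap.ext_ring ?_
      simp only [LinearMap.comp_apply, Finsupp.lsingle_apply, LinearEquiv.coe_coe, Module.Basis.repr_symm_single_one,
        Finsupp.linearCombination_single, one_smul, b, Module.Basis.reindex_apply, Module.Basis.baseChange_apply,
        KaehlerDifferential.mvPolynomialBasis_apply]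
      refine (KaehlerDifferential.mapBaseChange_tmul R B L _ _).trans ?_
      rw [one_smul, KaehlerDifferential.map_D, IsScalarTower.algebraMap_apply B P L]
      exact congrArg (fun z => KaehlerDifferential.D R L (algebraMap P L z)) (MvPolynomial.aeval_X g j.down)
    have := hφ ▸ hb
    exact (Function.Bijective.of_comp_iff _ b.repr.symm.bijective).mp this
  obtain ⟨f, hf, hfe⟩ := Algebra.exists_etale_of_isEtaleAt (R := B) q
  refine ⟨f, hf, ?_⟩
  have e : (MvPolynomial.aeval (fun j => algebraMap P (Localization.Away f) (g j)) :
      B →ₐ[R] Localization.Away f).toRingHom = algebraMap B (Localization.Away f) := by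
    refine MvPolynomial.ringHom_ext (fun x => ?_) fun j => ?_
    · show MvPolynomial.aeval _ (MvPolynomial.C x) = _
      rw [MvPolynomial.aeval_C, IsScalarTower.algebraMap_apply B P, IsScalarTower.algebraMap_apply R P]
      exact congrArg _ ((MvPolynomial.aeval g).commutes x).symm
    · show MvPolynomial.aeval _ (MvPolynomial.X j) = _
      rw [MvPolynomial.aeval_X, IsScalarTower.algebraMap_apply B P]
      exact congrArg _ (MvPolynomial.aeval_X g j).symm
  rw [e, RingHom.etale_algebraMap]
  exact hfe

/-- Etale coordinates stay etale on a smaller basic open. -/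
theorem etale_aeval_mul {σ : Type} (g : σ → P) (f₁ f₂ : P)
    (h : (MvPolynomial.aeval (fun j => algebraMap P (Localization.Away f₁) (g j)) :
      MvPolynomial σ R →ₐ[R] Localization.Away f₁).toRingHom.Etale) :
    (MvPolynomial.aeval (fun j => algebraMap P (Localization.Away (f₁ * f₂)) (g j)) :
      MvPolynomial σ R →ₐ[R] Localization.Away (f₁ * f₂)).toRingHom.Etale := by
  have hu : IsUnit (algebraMap P (Localization.Away (f₁ * f₂)) f₁) :=
    IsLocalization.Away.isUnit_of_dvd (f₁ * f₂) (dvd_mul_right f₁ f₂)
  let φ : Localization.Away f₁ →ₐ[P] Localization.Away (f₁ * f₂) :=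
    IsLocalization.liftAlgHom (M := Submonoid.powers f₁) (f := Algebra.ofId P _) (fun y => by
      obtain ⟨n, hn⟩ := y.2
      show IsUnit (algebraMap P _ (y : P))
      rw [← hn, map_pow]
      exact hu.pow n)
  have hT : φ.toRingHom.Etale := by
    let := φ.toRingHom.toAlgebra
    have : IsScalarTower P (Localization.Away f₁) (Localization.Away (f₁ * f₂)) :=
      IsScalarTower.of_algebraMap_eq fun x => (φ.commutes x).symm
    have : Algebra.Etale P (Localization.Away f₁) := .of_isLocalizationAway f₁
    have : Algebra.Etale P (Localization.Away (f₁ * f₂)) := .of_isLocalizationAway (f₁ * f₂)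
    exact RingHom.etale_algebraMap.mpr
      (Algebra.Etale.of_restrictScalars (R := P) (A := Localization.Away f₁) (B := Localization.Away (f₁ * f₂)))
  have e : (MvPolynomial.aeval (fun j => algebraMap P (Localization.Away (f₁ * f₂)) (g j)) :
      MvPolynomial σ R →ₐ[R] Localization.Away (f₁ * f₂)) =
      (φ.restrictScalars R).comp (MvPolynomial.aeval fun j => algebraMap P (Localization.Away f₁) (g j)) :=
    MvPolynomial.algHom_ext fun j => by
      rw [AlgHom.comp_apply, MvPolynomial.aeval_X, MvPolynomial.aeval_X]
      exact (φ.commutes (g j)).symm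
  rw [e]
  exact RingHom.Etale.stableUnderComposition _ _ h hT

/-- Elements whose differentials form a basis cut out an etale algebra. -/
theorem isEtaleAt_of_span [Algebra.FinitePresentation R P] {C : Type u} [CommRing C]
    [Algebra R C] [Algebra P C] [IsScalarTower R P C] (hs : Function.Surjective (algebraMap P C))
    (hfg : (RingHom.ker (algebraMap P C)).FG) (Q : Ideal C) [Q.IsPrime]
    (hsm : Algebra.IsSmoothAt R (Q.comap (algebraMap P C)))
    {ι : Type u} [Finite ι] (g : ι → P) (hg : ∀ i, algebraMap P C (g i) = 0)
    (hker : (RingHom.ker (algebraMap P C)).map (algebraMap P (Localization.AtPrime (Q.comap (algebraMap P C)))) =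
      Ideal.span (Set.range fun i => algebraMap P (Localization.AtPrime (Q.comap (algebraMap P C))) (g i)))
    (hli : LinearIndependent (IsLocalRing.ResidueField (Localization.AtPrime (Q.comap (algebraMap P C))))
      (fun i => δ R (Q.comap (algebraMap P C)) (g i)))
    (hspan : Submodule.span (IsLocalRing.ResidueField (Localization.AtPrime (Q.comap (algebraMap P C))))
      (Set.range fun i => δ R (Q.comap (algebraMap P C)) (g i)) = ⊤) :
    Algebra.IsEtaleAt R Q := by
  rw [show Algebra.IsEtaleAt R Q ↔ _ from Algebra.FormallyEtale.iff_formallyUnramified_and_formallySmooth]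
  refine ⟨⟨?_⟩, isSmoothAt_of_linearIndependent R hs hfg Q hsm g hker hli⟩
  have hb := bijective_linearCombination R _ hsm g hli hspan
  have : Q.LiesOver (Q.comap (algebraMap P C)) := ⟨rfl⟩
  let := Localization.AtPrime.algebraOfLiesOver (Q.comap (algebraMap P C)) Q
  let L := Localization.AtPrime (Q.comap (algebraMap P C))
  let M := Localization.AtPrime Q
  obtain ⟨hL, -⟩ := surjective_ker_localRingHom (algebraMap P C) hs Q
  let Φ := KaehlerDifferential.map R R L M
  have hΦ : Φ = 0 := by
    refine LinearMap.ext fun w => ?_
    obtain ⟨c, rfl⟩ := hb.2 w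
    rw [Finsupp.linearCombination_apply, map_finsuppSum, LinearMap.zero_apply]
    refine Finset.sum_eq_zero fun i _ => ?_
    show Φ (c i • KaehlerDifferential.D R L (algebraMap P L (g i))) = 0
    rw [map_smul, KaehlerDifferential.map_D, ← IsScalarTower.algebraMap_apply P L M,
      IsScalarTower.algebraMap_apply P C M, hg, map_zero, map_zero, smul_zero]
  refine subsingleton_of_forall_eq 0 fun y => ?_
  obtain ⟨x, rfl⟩ := KaehlerDifferential.map_surjective_of_surjective R R L M hL y
  exact LinearMap.congr_fun hΦ x

end

end Groth.Agent.Unr55.Coord
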