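import Mathlib.AlgebraicGeometry.Morphisms.QuasiFinite
import Mathlib.AlgebraicGeometry.Morphisms.UniversallyOpen
import Mathlib.AlgebraicGeometry.Morphisms.QuasiCompact
import Mathlib.Topology.Sober

/-!
Irreducible components along flat quasi-finite morphisms.
-/

universe u

open CategoryTheory AlgebraicGeometry TopologicalSpace

namespace Groth.Agent.Unr55

theorem mem_genericPoints_iff_forall {α : Type u} [TopologicalSpace α] [T0Space α] [QuasiSober α]
    (x : α) : x ∈ genericPoints α ↔ ∀ z, z ⤳ x → z = x := by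
  constructor
  · intro hx z hz
    have h1 : closure ({x} : Set α) ⊆ closure {z} := specializes_iff_closure_subset.mp hz
    have h2 : closure ({z} : Set α) ⊆ closure {x} :=
      hx.2 isIrreducible_singleton.closure h1
    exact (specializes_iff_closure_subset.mpr h2).antisymm hz |>.eq.symm
  · intro h
    refine ⟨isIrreducible_singleton.closure, fun Z hZ hle ↦ ?_⟩
    have hg := hZ.isGenericPoint_genericPoint_closure
    have hsp : hZ.genericPoint ⤳ x :=
      hg.specializes (subset_closure (hle (subset_closure rfl)))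
    rw [← h _ hsp, hg.def]
    exact subset_closure

variable {X Y : Scheme.{u}} (f : X ⟶ Y) [Flat f] [LocallyQuasiFinite f]

theorem mem_genericPoints_iff_apply (x : X) :
    x ∈ genericPoints X ↔ f x ∈ genericPoints Y := by
  rw [mem_genericPoints_iff_forall, mem_genericPoints_iff_forall]
  constructor
  · intro h z hz
    obtain ⟨x', hx', rfl⟩ := Flat.generalizingMap f hz
    rw [h x' hx']
  · intro h z hz
    have hfz : f z = f x := h _ (hz.map f.continuous)
    obtain ⟨U, hU, hUx⟩ := isDiscrete_iff_forall_mem_exists_isOpen.mp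
      (f.isDiscrete_preimage_singleton (f x)) x rfl
    exact hUx.le ⟨hz.mem_open hU (hUx.ge rfl).1, hfz⟩

theorem genericPoint_iff [IrreducibleSpace Y] (x : X) :
    f x = genericPoint Y ↔ closure ({x} : Set X) ∈ irreducibleComponents X := by
  change _ ↔ x ∈ genericPoints X
  rw [mem_genericPoints_iff_apply f, genericPoints_eq_singleton, Set.mem_singleton_iff]

include f in
theorem locallyFinite_irreducibleComponents
    (hY : LocallyFinite (fun Z : ↥(irreducibleComponents ↥Y) ↦ (Z : Set ↥Y))) :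
    LocallyFinite (fun Z : ↥(irreducibleComponents ↥X) ↦ (Z : Set ↥X)) := by
  intro x
  obtain ⟨N, hN, hfin⟩ := hY (f x)
  obtain ⟨_, ⟨W, hW, rfl⟩, hxW, hWN⟩ := Y.isBasis_affineOpens.exists_subset_of_mem_open
    (mem_interior_iff_mem_nhds.mpr hN) isOpen_interior
  obtain ⟨_, ⟨U, hU, rfl⟩, hxU, hUW⟩ := X.isBasis_affineOpens.exists_subset_of_mem_open
    (show x ∈ f ⁻¹ᵁ W from hxW) (f ⁻¹ᵁ W).isOpen
  refine ⟨U, U.isOpen.mem_nhds hxU, ?_⟩
  have : IsAffine (U : Scheme) := hU
  have : IsAffine (W : Scheme) := hW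
  let r := f.resLE W U hUW
  have hr : ∀ a : (U : Scheme), (r a).1 = f a.1 := fun a ↦ by
    rw [← Scheme.Opens.ι_apply, ← Scheme.Hom.comp_apply, Scheme.Hom.resLE_comp_ι]
    rfl
  have hG : {g : W | g.1 ∈ genericPoints Y}.Finite := by
    refine Set.Finite.of_finite_image (f := fun g : W ↦ (g.1 : Y)) ?_ Subtype.val_injective.injOn
    refine (hfin.image fun Z ↦ (genericPoints.ofComponent Z).1).subset ?_
    rintro _ ⟨g, hg, rfl⟩
    refine ⟨genericPoints.component ⟨g.1, hg⟩, ⟨g.1, subset_closure rfl, ?_⟩, ?_⟩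
    · exact interior_subset (hWN g.2)
    · exact congrArg Subtype.val (genericPoints.ofComponent_component ⟨g.1, hg⟩)
  refine (((Scheme.Hom.finite_preimage r hG).image fun a : (U : Scheme) ↦ closure ({a.1} : Set X)).subset
    ?_).of_finite_image (f := fun Z : ↥(irreducibleComponents ↥X) ↦ (Z : Set ↥X))
    Subtype.val_injective.injOn
  rintro _ ⟨Z, hZ, rfl⟩
  obtain ⟨y, hyZ, hyU⟩ := hZ
  have hg := genericPoints.isGenericPoint_ofComponent Z
  have hgU : (genericPoints.ofComponent Z).1 ∈ U :=
    (hg.mem_open_set_iff U.isOpen).mpr ⟨y, hyZ, hyU⟩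
  refine ⟨⟨_, hgU⟩, ?_, hg.def⟩
  show (r ⟨_, hgU⟩).1 ∈ genericPoints Y
  rw [hr]
  exact (mem_genericPoints_iff_apply f _).mp (genericPoints.ofComponent Z).2

end Groth.Agent.Unr55
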