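import Groth.Agent.Unr55.StalkCrit
import Groth.Agent.FSAdic12.Artinian
import Groth.Prelude.Def_EGA41
import Mathlib.Algebra.TrivSqZeroExt.Basic
import Mathlib.RingTheory.LocalRing.Module
import Mathlib.RingTheory.Kaehler.Basic
import Mathlib.LinearAlgebra.Dual.Lemmas

/-!
Smallest lifting criteria: Artinian small extensions with trivial residue extension.
-/

universe u

open IsLocalRing

namespace Groth.Agent.Unr55.ArtinCrit

variable {A B : Type u} [CommRing A] [CommRing B] [IsLocalRing A] [IsLocalRing B] [Algebra A B]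

variable (A B) in
/-- Existence of lifts along small extensions with trivial residue extension. -/
def SmallLifts : Prop :=
  ∀ (A' : Type u) [CommRing A'] [IsLocalRing A'] [IsArtinianRing A']
    (h : A →+* A') [IsLocalHom h]
    (I : Ideal A') (_ : I ≠ ⊤) (_ : I * maximalIdeal A' = ⊥)
    (g₀ : B →+* A' ⧸ I),
    g₀.comp (algebraMap A B) = (Ideal.Quotient.mk I).comp h →
    (∀ b ∈ maximalIdeal B, g₀ b ∈ (maximalIdeal A').map (Ideal.Quotient.mk I)) →
    (∀ a' : A', ∃ b : B, g₀ b - Ideal.Quotient.mk I a' ∈ (maximalIdeal A').map (Ideal.Quotient.mk I)) →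
    ∃ g : B →+* A', g.comp (algebraMap A B) = h ∧ (Ideal.Quotient.mk I).comp g = g₀

theorem isNilpotent_of_small {A' : Type u} [CommRing A'] [IsLocalRing A'] {I : Ideal A'} (hI : I ≠ ⊤)
    (h : I * maximalIdeal A' = ⊥) : IsNilpotent I :=
  ⟨2, le_bot_iff.1 (by rw [pow_two, ← h]; exact Ideal.mul_mono le_rfl (le_maximalIdeal hI))⟩

theorem smallLifts_of_formallySmooth [Algebra.FormallySmooth A B] : SmallLifts A B := by
  intro A' _ _ _ h _ I hI hIm g₀ hc _ _
  let := h.toAlgebra
  let u : B →ₐ[A] A' ⧸ I := { g₀ with commutes' := fun r => RingHom.congr_fun hc r }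
  have hn : IsNilpotent (RingHom.ker (Ideal.Quotient.mkₐ A I)) := by
    convert isNilpotent_of_small hI hIm
    exact Ideal.mk_ker
  let v := Algebra.FormallySmooth.liftOfSurjective u (Ideal.Quotient.mkₐ A I) Ideal.Quotient.mk_surjective hn
  exact ⟨v.toRingHom, AlgHom.comp_algebraMap _, RingHom.ext fun b =>
    Algebra.FormallySmooth.liftOfSurjective_apply u (Ideal.Quotient.mkₐ A I) Ideal.Quotient.mk_surjective hn b⟩

theorem liftsArtinian_of_smallLifts [IsLocalHom (algebraMap A B)] (H : SmallLifts A B) :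
    FSAdic12.LiftsArtinian A B := by
  intro C _ _ _ _ _ J hJ _ u _ hu
  have hJ' : J ≠ ⊤ := fun h => by
    obtain ⟨k, hk⟩ := hJ
    rw [h, Ideal.top_pow] at hk
    exact top_ne_bot hk
  let m := maximalIdeal C
  have key : ∀ k, ∃ v : B →+* C ⧸ J * m ^ k,
      v.comp (algebraMap A B) = (Ideal.Quotient.mk _).comp (algebraMap A C) ∧
      (Ideal.Quotient.factor (Ideal.mul_le_left : J * m ^ k ≤ J)).comp v = u.toRingHom := by
    intro k
    induction k with
    | zero =>
      have hle : J ≤ J * m ^ 0 := by simp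
      refine ⟨(Ideal.Quotient.factor hle).comp u.toRingHom, ?_, ?_⟩
      · rw [RingHom.comp_assoc, show u.toRingHom.comp (algebraMap A B) = _ from u.comp_algebraMap]
        rfl
      · refine RingHom.ext fun b => ?_
        obtain ⟨c, hc⟩ := Ideal.Quotient.mk_surjective (u b)
        simp [← hc]
    | succ k ih =>
      obtain ⟨v, hv, hvu⟩ := ih
      have hle : J * m ^ (k + 1) ≤ J * m ^ k := Ideal.mul_mono le_rfl (Ideal.pow_le_pow_right k.le_succ)
      let P := J * m ^ (k + 1)
      have hP : P ≠ ⊤ := fun h => hJ' (top_le_iff.1 (h ▸ Ideal.mul_le_left))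
      have : Nontrivial (C ⧸ P) := Ideal.Quotient.nontrivial_iff.2 hP
      have : IsLocalRing (C ⧸ P) := .of_surjective' _ Ideal.Quotient.mk_surjective
      have hmk : IsLocalHom (Ideal.Quotient.mk P) := .of_surjective _ Ideal.Quotient.mk_surjective
      have hm : maximalIdeal (C ⧸ P) = m.map (Ideal.Quotient.mk P) :=
        (IsLocalRing.map_maximalIdeal_of_surjective _ Ideal.Quotient.mk_surjective).symm
      let I := (J * m ^ k).map (Ideal.Quotient.mk P)
      have hI : I ≠ ⊤ := fun h => by
        refine hJ' (top_le_iff.1 ?_)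
        have h1 : Ideal.comap (Ideal.Quotient.mk P) I = ⊤ := by rw [h]; exact Ideal.comap_top
        rw [Ideal.comap_map_of_surjective _ Ideal.Quotient.mk_surjective, ← RingHom.ker_eq_comap_bot,
          Ideal.mk_ker] at h1
        exact h1.ge.trans (sup_le Ideal.mul_le_left Ideal.mul_le_left)
      have hIm : I * maximalIdeal (C ⧸ P) = ⊥ := by
        rw [hm, ← Ideal.map_mul, mul_assoc, ← pow_succ, Ideal.map_quotient_self]
      let e := DoubleQuot.quotQuotEquivQuotOfLE hle
      have he : ∀ c, e (Ideal.Quotient.mk I (Ideal.Quotient.mk P c)) = Ideal.Quotient.mk _ c :=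
        fun c => DoubleQuot.quotQuotEquivQuotOfLE_quotQuotMk c hle
      let θ : C ⧸ J * m ^ k →+* C ⧸ J := Ideal.Quotient.factor Ideal.mul_le_left
      let g₀ : B →+* (C ⧸ P) ⧸ I := e.symm.toRingHom.comp v
      have : Nontrivial ((C ⧸ P) ⧸ I) := Ideal.Quotient.nontrivial_iff.2 hI
      have : IsLocalRing ((C ⧸ P) ⧸ I) := .of_surjective' _ Ideal.Quotient.mk_surjective
      have hmI : (maximalIdeal (C ⧸ P)).map (Ideal.Quotient.mk I) = maximalIdeal ((C ⧸ P) ⧸ I) :=
        IsLocalRing.map_maximalIdeal_of_surjective _ Ideal.Quotient.mk_surjective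
      have : IsLocalHom ((Ideal.Quotient.mk P).comp (algebraMap A C)) := inferInstance
      obtain ⟨g, hg1, hg2⟩ := H (C ⧸ P) ((Ideal.Quotient.mk P).comp (algebraMap A C)) I hI hIm g₀
        (RingHom.ext fun a => by
          refine e.injective ((e.apply_symm_apply _).trans ?_)
          exact (RingHom.congr_fun hv a).trans (he _).symm)
        (fun b hb => by
          rw [hmI, mem_maximalIdeal, mem_nonunits_iff]
          intro hunit
          have h2 := (hunit.map e).map θ
          rw [show θ (e (g₀ b)) = u b from (congrArg θ (e.apply_symm_apply (v b))).trans (RingHom.congr_fun hvu b)] at h2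
          exact hb (IsUnit.of_map u.toRingHom b h2))
        (fun a' => by
          obtain ⟨c, rfl⟩ := Ideal.Quotient.mk_surjective a'
          obtain ⟨y, hy⟩ := hu.2 (residue _ (Ideal.Quotient.mk J c))
          obtain ⟨b, rfl⟩ := residue_surjective y
          refine ⟨b, ?_⟩
          rw [hmI, mem_maximalIdeal, mem_nonunits_iff]
          intro hunit
          have h2 := (hunit.map e).map θ
          rw [map_sub, map_sub, show θ (e (g₀ b)) = u b from
            (congrArg θ (e.apply_symm_apply (v b))).trans (RingHom.congr_fun hvu b), he] at h2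
          have h3 := h2.map (residue (C ⧸ J))
          rw [map_sub] at h3
          exact h3.ne_zero (sub_eq_zero.2 hy))
      refine ⟨g, hg1, ?_⟩
      rw [← hvu]
      refine RingHom.ext fun b => ?_
      obtain ⟨c, hc⟩ := Ideal.Quotient.mk_surjective (g b)
      have h1 : v b = Ideal.Quotient.mk _ c := by
        rw [← he c, hc]
        exact (e.apply_symm_apply _).symm.trans (congrArg e (RingHom.congr_fun hg2 b).symm)
      simp [← hc, h1]
      rfl
  obtain ⟨N, hN⟩ := IsArtinianRing.isNilpotent_jacobson_bot (R := C)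
  rw [jacobson_eq_maximalIdeal ⊥ bot_ne_top] at hN
  obtain ⟨v, hv, hvu⟩ := key N
  have hz : J * m ^ N = ⊥ := by rw [show m ^ N = ⊥ from hN, Ideal.mul_bot]
  let q : C ⧸ J * m ^ N ≃+* C := (Ideal.quotEquivOfEq hz).trans (RingEquiv.quotientBot C)
  have hq : ∀ c, q (Ideal.Quotient.mk _ c) = c := fun c => by simp [q]
  let f : B →ₐ[A] C := { q.toRingHom.comp v with
    commutes' := fun a => (congrArg q (RingHom.congr_fun hv a)).trans (hq _) }
  have hf : (Ideal.Quotient.mkₐ A J).comp f = u := AlgHom.ext fun b => by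
    obtain ⟨c, hc⟩ := Ideal.Quotient.mk_surjective (v b)
    change Ideal.Quotient.mk J (q (v b)) = u b
    rw [show u b = _ from (RingHom.congr_fun hvu b).symm, RingHom.comp_apply, ← hc, hq,
      Ideal.Quotient.factor_mk]
  refine ⟨f, ⟨fun b hb => IsUnit.of_map u.toRingHom b ?_⟩, hf⟩
  exact (AlgHom.congr_fun hf b) ▸ hb.map (Ideal.Quotient.mk J)

theorem unique_of_formallyUnramified [Algebra.FormallyUnramified A B] {A' : Type u} [CommRing A']
    [IsLocalRing A'] {h : A →+* A'} {I : Ideal A'} (hI : I ≠ ⊤) (hIm : I * maximalIdeal A' = ⊥)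
    {g g' : B →+* A'} (hg : g.comp (algebraMap A B) = h) (hg' : g'.comp (algebraMap A B) = h)
    (e : (Ideal.Quotient.mk I).comp g = (Ideal.Quotient.mk I).comp g') : g = g' := by
  let := h.toAlgebra
  have := Algebra.FormallyUnramified.ext I (isNilpotent_of_small hI hIm)
    (g₁ := ({ g with commutes' := fun r => RingHom.congr_fun hg r } : B →ₐ[A] A'))
    (g₂ := { g' with commutes' := fun r => RingHom.congr_fun hg' r })
    fun x => RingHom.congr_fun e x
  exact congrArg AlgHom.toRingHom this

variable (A B) in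
/-- Uniqueness of lifts along small extensions with trivial residue extension. -/
def SmallUnique : Prop :=
  ∀ (A' : Type u) [CommRing A'] [IsLocalRing A'] [IsArtinianRing A']
    (h : A →+* A') [IsLocalHom h]
    (I : Ideal A') (_ : I ≠ ⊤) (_ : I * maximalIdeal A' = ⊥)
    (g₀ : B →+* A' ⧸ I),
    g₀.comp (algebraMap A B) = (Ideal.Quotient.mk I).comp h →
    (∀ b ∈ maximalIdeal B, g₀ b ∈ (maximalIdeal A').map (Ideal.Quotient.mk I)) →
    (∀ a' : A', ∃ b : B, g₀ b - Ideal.Quotient.mk I a' ∈ (maximalIdeal A').map (Ideal.Quotient.mk I)) →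
    ∀ g g' : B →+* A', g.comp (algebraMap A B) = h → (Ideal.Quotient.mk I).comp g = g₀ →
      g'.comp (algebraMap A B) = h → (Ideal.Quotient.mk I).comp g' = g₀ → g = g'

theorem formallyUnramified_of_smallUnique [IsLocalHom (algebraMap A B)] [Algebra.EssFiniteType A B]
    (H : SmallUnique A B) : Algebra.FormallyUnramified A B := by
  have hD : ∀ D : Derivation A B (ResidueField B), D = 0 := by
    intro D
    have : Module.Finite (ResidueField B) (TrivSqZeroExt (ResidueField B) (ResidueField B)) := inferInstanceAs (Module.Finite (ResidueField B) ((ResidueField B) × (ResidueField B)))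
    have : IsArtinianRing (TrivSqZeroExt (ResidueField B) (ResidueField B)) := .of_finite (ResidueField B) (TrivSqZeroExt (ResidueField B) (ResidueField B))
    have hfst : Function.Surjective (TrivSqZeroExt.fstHom (ResidueField B) (ResidueField B) (ResidueField B)).toRingHom := fun z =>
      ⟨TrivSqZeroExt.inl z, TrivSqZeroExt.fst_inl (ResidueField B) z⟩
    have : IsLocalRing (TrivSqZeroExt (ResidueField B) (ResidueField B)) := .of_isUnit_or_isUnit_one_sub_self fun x => by
      rw [TrivSqZeroExt.isUnit_iff_isUnit_fst, TrivSqZeroExt.isUnit_iff_isUnit_fst (x := 1 - x), TrivSqZeroExt.fst_sub,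
        TrivSqZeroExt.fst_one]
      exact IsLocalRing.isUnit_or_isUnit_one_sub_self x.fst
    let I : Ideal (TrivSqZeroExt (ResidueField B) (ResidueField B)) := RingHom.ker (TrivSqZeroExt.fstHom (ResidueField B) (ResidueField B) (ResidueField B)).toRingHom
    have hI : I ≠ ⊤ := RingHom.ker_ne_top _
    have hnu : ∀ x : (TrivSqZeroExt (ResidueField B) (ResidueField B)), x ∈ maximalIdeal (TrivSqZeroExt (ResidueField B) (ResidueField B)) → x.fst = 0 := fun x hx => by
      by_contra h
      exact hx (TrivSqZeroExt.isUnit_iff_isUnit_fst.2 (isUnit_iff_ne_zero.2 h))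
    have hIm : I * maximalIdeal (TrivSqZeroExt (ResidueField B) (ResidueField B)) = ⊥ := by
      refine le_bot_iff.1 (Ideal.mul_le.2 fun x hx y hy => ?_)
      have hx' : x.fst = 0 := hx
      exact TrivSqZeroExt.ext (by simp [hx']) (by simp [hx', hnu y hy])
    let g₁ : B →+* (TrivSqZeroExt (ResidueField B) (ResidueField B)) := (TrivSqZeroExt.inlHom (ResidueField B) (ResidueField B)).comp (residue B)
    have hres : ∀ (b : B) (z : (ResidueField B)), b • z = residue B b * z := fun b z => by
      rw [Algebra.smul_def]; rfl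
    let g₂ : B →+* (TrivSqZeroExt (ResidueField B) (ResidueField B)) :=
      { toFun := fun b => TrivSqZeroExt.inl (residue B b) + TrivSqZeroExt.inr (D b)
        map_one' := TrivSqZeroExt.ext (by simp) (by simp)
        map_mul' := fun a b => TrivSqZeroExt.ext (by simp) (by
          simp only [Derivation.leibniz, TrivSqZeroExt.snd_add, TrivSqZeroExt.snd_inl, TrivSqZeroExt.snd_inr,
            TrivSqZeroExt.snd_mul, TrivSqZeroExt.fst_add, TrivSqZeroExt.fst_inl, TrivSqZeroExt.fst_inr,
            zero_add, add_zero, hres, smul_eq_mul, MulOpposite.smul_eq_mul_unop, MulOpposite.unop_op]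
          ring)
        map_zero' := by simp
        map_add' := fun a b => TrivSqZeroExt.ext (by simp) (by simp) }
    let h : A →+* (TrivSqZeroExt (ResidueField B) (ResidueField B)) := g₁.comp (algebraMap A B)
    have : IsLocalHom h := ⟨fun a ha => by
      have h1 : IsUnit (residue B (algebraMap A B a)) := TrivSqZeroExt.isUnit_iff_isUnit_fst.1 ha
      exact IsUnit.of_map (algebraMap A B) a (IsUnit.of_map (residue B) _ h1)⟩
    let g₀ : B →+* (TrivSqZeroExt (ResidueField B) (ResidueField B)) ⧸ I := (Ideal.Quotient.mk I).comp g₁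
    have hmem : ∀ x : (TrivSqZeroExt (ResidueField B) (ResidueField B)), x.fst = 0 → x ∈ maximalIdeal (TrivSqZeroExt (ResidueField B) (ResidueField B)) := fun x hx hu =>
      (TrivSqZeroExt.isUnit_iff_isUnit_fst.1 hu).ne_zero hx
    have he := H (TrivSqZeroExt (ResidueField B) (ResidueField B)) h I hI hIm g₀ rfl
      (fun b hb => Ideal.mem_map_of_mem _ (hmem _ ((residue_eq_zero_iff b).2 hb)))
      (fun a' => by
        obtain ⟨b, hb⟩ := residue_surjective a'.fst
        refine ⟨b, ?_⟩
        rw [RingHom.comp_apply, ← map_sub]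
        refine Ideal.mem_map_of_mem _ (hmem _ ?_)
        simp [g₁, hb])
      g₂ g₁ (RingHom.ext fun a => TrivSqZeroExt.ext (by simp [h, g₁, g₂]) (by simp [h, g₁, g₂]))
      (RingHom.ext fun b => Ideal.Quotient.eq.2 (show TrivSqZeroExt.fst (g₂ b - g₁ b) = 0 by simp [g₁, g₂]))
      rfl rfl
    ext b
    have := congrArg TrivSqZeroExt.snd (RingHom.congr_fun he b)
    simpa [g₁, g₂] using this
  have hsub : Subsingleton (TensorProduct B (ResidueField B) Ω[B⁄A]) := by
    refine subsingleton_of_forall_eq 0 fun z => (Module.forall_dual_apply_eq_zero_iff (ResidueField B) z).1 fun φ => ?_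
    let l : Ω[B⁄A] →ₗ[B] (ResidueField B) := (φ.restrictScalars B).comp ((TensorProduct.mk B (ResidueField B) Ω[B⁄A]) 1)
    have hl : l = 0 := (KaehlerDifferential.linearMapEquivDerivation A B).injective
      ((hD _).trans (map_zero _).symm)
    have hφ : φ = 0 := by
      refine TensorProduct.AlgebraTensorModule.ext fun a x => ?_
      have : a ⊗ₜ[B] x = a • ((1 : (ResidueField B)) ⊗ₜ[B] x) := by rw [TensorProduct.smul_tmul', smul_eq_mul, mul_one]
      rw [this, map_smul, show φ ((1 : (ResidueField B)) ⊗ₜ[B] x) = l x from rfl, hl]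
      simp
    rw [hφ]; rfl
  exact ⟨(IsLocalRing.subsingleton_tensorProduct).1 hsub⟩

end Groth.Agent.Unr55.ArtinCrit
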