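import Mathlib.AlgebraicGeometry.ZariskisMainTheorem
import Mathlib.AlgebraicGeometry.PullbackCarrier
import Mathlib.RingTheory.Etale.QuasiFinite
import Groth.Agent.EtaPt32.Homeo
import Groth.Agent.FlatMor66.OnePoint

/-!
Splitting off the finite part above a point with finite fibre, after an étale localization with
trivial residue field extension.
-/

set_option autoImplicit false
universe u

open AlgebraicGeometry CategoryTheory Limits TensorProduct

namespace Groth.Agent.Unr55

variable {X S : Scheme.{u}}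

set_option backward.defeqAttrib.useBackward true in
set_option backward.isDefEq.respectTransparency false in
theorem exists_etale_isCompl_residueIso (f : X ⟶ S) [LocallyOfFiniteType f] [IsSeparated f]
    (x : X) (hx : f.QuasiFiniteAt x) :
    ∃ (U : Scheme.{u}) (g : U ⟶ S) (u : U), Etale g ∧ g u = f x ∧ IsIso (g.residueFieldMap u) ∧
    ∃ (V W : (pullback f g).Opens) (v : ↑(pullback f g)), IsCompl V W ∧ v ∈ V ∧
      IsFinite (V.ι ≫ pullback.snd f g) ∧
      pullback.fst f g v = x ∧ pullback.snd f g v = u := by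
  obtain ⟨_, ⟨U, hU, rfl⟩, hxU, -⟩ := S.isBasis_affineOpens.exists_subset_of_mem_open
    (Set.mem_univ (f x)) isOpen_univ
  obtain ⟨_, ⟨V, hV, rfl⟩, hxV, hUV : V ≤ f ⁻¹ᵁ U⟩ :=
    X.isBasis_affineOpens.exists_subset_of_mem_open hxU (f ⁻¹ᵁ U).2
  have : (f.appLE U V hUV).hom.FiniteType := f.finiteType_appLE hU hV hUV
  algebraize [(f.appLE U V hUV).hom]
  have : (hV.primeIdealOf ⟨x, hxV⟩).asIdeal.LiesOver (hU.primeIdealOf ⟨f x, hxU⟩).asIdeal := by
    suffices hU.primeIdealOf ⟨f x, hxU⟩ = Spec.map (f.appLE U V hUV) (hV.primeIdealOf ⟨x, hxV⟩) from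
      ⟨congr(($this).1)⟩
    apply hU.isoSpec.inv.homeomorph.injective
    apply Subtype.ext
    simp only [IsAffineOpen.primeIdealOf, Scheme.Hom.homeomorph_apply,
      ← Scheme.Hom.comp_apply, ← Scheme.Opens.ι_apply, IsAffineOpen.isoSpec_hom]
    simp
  have : Algebra.QuasiFiniteAt Γ(S, U) (hV.primeIdealOf ⟨x, hxV⟩).asIdeal :=
    hx.quasiFiniteAt hV hU hUV hxV
  obtain ⟨R, _, _, _, P, _, _, e, _, P', _, _, hP', heP', hbij, _, -⟩ :=
    Algebra.exists_etale_isIdempotentElem_forall_liesOver_eq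
    (hU.primeIdealOf ⟨f x, hxU⟩).asIdeal (hV.primeIdealOf ⟨x, hxV⟩).asIdeal
  have : (algebraMap R (Localization.Away e)).Finite := RingHom.finite_algebraMap.mpr ‹_›
  let φ : Γ(S, U) ⟶ .of R := CommRingCat.ofHom <| algebraMap Γ(S, U) R
  have hφ : φ.hom.Etale := RingHom.etale_algebraMap.mpr ‹_›
  have : Etale (Spec.map φ) := HasRingHomProperty.Spec_iff.mpr hφ
  let e₁ : Spec (.of (R ⊗ Γ(X, V))) ≅ pullback (Spec.map (f.appLE U V hUV)) (Spec.map φ) :=
    (pullbackSpecIso _ _ _).symm ≪≫ pullbackSymmetry _ _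
  have he₁ : e₁.hom ≫ pullback.fst _ _ =
      Spec.map (CommRingCat.ofHom Algebra.TensorProduct.includeRight.toRingHom) := by
    dsimp [e₁, RingHom.algebraMap_toAlgebra]
    rw [Category.assoc, pullbackSymmetry_hom_comp_fst]
    exact pullbackSpecIso_inv_snd ..
  have he₂ : e₁.hom ≫ pullback.snd _ _ =
      Spec.map (CommRingCat.ofHom Algebra.TensorProduct.includeLeftRingHom) := by
    dsimp [e₁, RingHom.algebraMap_toAlgebra]
    rw [Category.assoc, pullbackSymmetry_hom_comp_snd]
    exact pullbackSpecIso_inv_fst ..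
  let g : Spec (.of (R ⊗[Γ(S, U)] Γ(X, V))) ⟶ pullback f (Spec.map φ ≫ hU.fromSpec) :=
    e₁.hom ≫ pullback.map _ _ _ _ hV.fromSpec (𝟙 _) hU.fromSpec
      (IsAffineOpen.SpecMap_appLE_fromSpec ..) (by simp)
  let W₁ := g ''ᵁ PrimeSpectrum.basicOpen e
  have hfin : IsFinite (W₁.ι ≫ pullback.snd f _) := by
    let ι : Spec (.of (Localization.Away e)) ⟶ pullback f (Spec.map φ ≫ hU.fromSpec) :=
      Spec.map (CommRingCat.ofHom <| algebraMap _ _) ≫ g
    have : ι.opensRange = W₁ := by
      simp only [Scheme.Hom.opensRange_comp, ι, W₁]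
      congr 1
      exact TopologicalSpace.Opens.ext <| PrimeSpectrum.localization_away_comap_range _ _
    rw [← this, ← MorphismProperty.cancel_left_of_respectsIso @IsFinite
      (Scheme.Hom.isoOpensRange _).hom]
    have H : (pullbackSpecIso _ R _).inv ≫ pullback.fst _ (Spec.map (f.appLE U V hUV)) = _ :=
      pullbackSpecIso_inv_fst ..
    simpa [Scheme.Hom.isoOpensRange, ι, g, e₁, RingHom.algebraMap_toAlgebra, φ, H,
      ← Spec.map_comp, IsFinite.SpecMap_iff]
  have : IsFinite W₁.ι := .of_comp _ (pullback.snd f _)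
  let W₂ : (pullback f (Spec.map φ ≫ hU.fromSpec)).Opens :=
    ⟨(W₁ : Set ↑(pullback f (Spec.map φ ≫ hU.fromSpec)))ᶜ, by
      simpa using W₁.ι.isClosedMap.isClosed_range⟩
  have hsnd : g ≫ pullback.snd f (Spec.map φ ≫ hU.fromSpec) =
      Spec.map (CommRingCat.ofHom Algebra.TensorProduct.includeLeftRingHom) := by
    simp only [g, Category.assoc, pullback.map, pullback.lift_snd, Category.comp_id, he₂]
  let u₀ : Spec (CommRingCat.of R) := ⟨P, ‹_›⟩
  refine ⟨Spec (.of R), Spec.map φ ≫ hU.fromSpec, u₀, inferInstance, ?_, ?_, W₁, W₂,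
    g ⟨P', ‹_›⟩, ?_, ⟨⟨P', ‹_›⟩, heP', rfl⟩, hfin, ?_, ?_⟩
  · dsimp [Spec.map_apply, u₀]
    convert! hU.fromSpec_primeIdealOf ⟨f x, hxU⟩
    exact PrimeSpectrum.ext (Ideal.over_def _ _).symm
  · rw [Scheme.residueFieldMap_comp]
    suffices IsIso ((Spec.map φ).residueFieldMap u₀) from inferInstance
    rw [ConcreteCategory.isIso_iff_bijective]
    have key := congrArg (fun m => ⇑(CommRingCat.Hom.hom m))
      (EtaPt32.residueFieldMap_eq (algebraMap Γ(S, U) R) u₀)
    have h1 := ConcreteCategory.bijective_of_isIso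
      (Scheme.Spec.residueFieldIso (CommRingCat.of R) u₀).hom
    have h2 := ConcreteCategory.bijective_of_isIso (Scheme.Spec.residueFieldIso
      (CommRingCat.of Γ(S, U)) (Spec.map (CommRingCat.ofHom (algebraMap Γ(S, U) R)) u₀)).hom
    simp only [CommRingCat.hom_comp, RingHom.coe_comp] at key
    have hb : ∀ (p : Ideal Γ(S, U)) [p.IsPrime] (hp : p = P.comap (algebraMap Γ(S, U) R)),
        Function.Bijective (Ideal.ResidueField.map p P (algebraMap Γ(S, U) R) hp) := by
      intro p _ hp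
      obtain rfl : p = (hU.primeIdealOf ⟨f x, hxU⟩).asIdeal :=
        hp.trans (P.over_def (hU.primeIdealOf ⟨f x, hxU⟩).asIdeal).symm
      exact hbij
    exact (Function.Bijective.of_comp_iff' h1 _).mp (key ▸ (hb _ rfl).comp h2)
  · simp [isCompl_iff, disjoint_iff, codisjoint_iff, W₂, SetLike.ext'_iff]
  · trans hV.fromSpec ⟨P'.comap Algebra.TensorProduct.includeRight.toRingHom, inferInstance⟩
    · simp [← Scheme.Hom.comp_apply, -Scheme.Hom.comp_base, g, reassoc_of% he₁]; rfl
    convert! hV.fromSpec_primeIdealOf ⟨x, hxV⟩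
  · rw [← Scheme.Hom.comp_apply, hsnd]
    exact PrimeSpectrum.ext (P'.over_def P).symm

/-- Over a point with trivial residue field extension, the points of a fibre product are
determined by their first projection. -/
theorem pullback_eq_of_fst_eq_of_snd_eq {Y : Scheme.{u}} {f : X ⟶ S} {g : Y ⟶ S}
    {P : Scheme.{u}} {p : P ⟶ X} {q : P ⟶ Y} (sq : IsPullback p q f g) (a b : P)
    (hp : p a = p b) (hq : q a = q b) [IsIso (g.residueFieldMap (q a))] : a = b := by
  let e := sq.isoPullback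
  have hfst : ∀ c, pullback.fst f g (e.hom c) = p c := fun c => by
    rw [← Scheme.Hom.comp_apply, IsPullback.isoPullback_hom_fst]
  have hsnd : ∀ c, pullback.snd f g (e.hom c) = q c := fun c => by
    rw [← Scheme.Hom.comp_apply, IsPullback.isoPullback_hom_snd]
  refine e.hom.homeomorph.injective ?_
  show e.hom a = e.hom b
  refine (Scheme.Pullback.carrierEquiv (f := f) (g := g)).injective
    (Scheme.Pullback.carrierEquiv_eq_iff.mpr ?_)
  have hT : (Scheme.Pullback.carrierEquiv (e.hom a)).fst =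
      (Scheme.Pullback.carrierEquiv (e.hom b)).fst :=
    Scheme.Pullback.Triplet.ext ((hfst a).trans (hp.trans (hfst b).symm))
      ((hsnd a).trans (hq.trans (hsnd b).symm))
  refine ⟨hT, ?_⟩
  let T := (Scheme.Pullback.carrierEquiv (e.hom b)).fst
  have : IsIso (g.residueFieldMap T.y) := by
    have hy : T.y = q a := (hsnd b).trans hq.symm
    rw [hy]; infer_instance
  have : IsIso T.tensorInl :=
    inferInstanceAs (IsIso (pushout.inl _ ((S.residueFieldCongr T.hy).inv ≫ g.residueFieldMap T.y)))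
  have : Subsingleton ↥(Spec T.tensor) :=
    (Spec.map T.tensorInl).homeomorph.injective.subsingleton
  exact Subsingleton.elim (α := ↥(Spec T.tensor)) _ _

theorem quasiFiniteAt_of_finite_preimage (f : X ⟶ S) [LocallyOfFiniteType f] (x : X)
    (hfin : (f ⁻¹' {f x}).Finite) : f.QuasiFiniteAt x := by
  rw [Scheme.Hom.quasiFiniteAt_iff_isOpen_singleton_asFiber]
  have : JacobsonSpace ↥(f.fiber (f x)) :=
    have : LocallyOfFiniteType (f.fiberToSpecResidueField (f x)) :=
      inferInstanceAs (LocallyOfFiniteType (pullback.snd f _))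
    LocallyOfFiniteType.jacobsonSpace (f.fiberToSpecResidueField (f x))
  have : Finite ↥(f.fiber (f x)) := by
    have : Finite ↑(f ⁻¹' {f x}) := hfin.to_subtype
    exact .of_equiv _ (f.fiberHomeo (f x)).toEquiv.symm
  exact isOpen_discrete _

set_option backward.isDefEq.respectTransparency.types false in
theorem isFinite_sup {V W : X.Opens} (h : Disjoint V W) (f : X ⟶ S) [IsFinite (V.ι ≫ f)]
    [IsFinite (W.ι ≫ f)] : IsFinite ((V ⊔ W).ι ≫ f) := by
  let i := X.homOfLE (le_sup_left : V ≤ V ⊔ W)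
  let j := X.homOfLE (le_sup_right : W ≤ V ⊔ W)
  have hc : IsCompl i.opensRange j.opensRange := by
    simp only [i, j, Scheme.opensRange_homOfLE]
    refine ⟨disjoint_iff.mpr ?_, codisjoint_iff.mpr ?_⟩
    · rw [← Scheme.Hom.preimage_inf, disjoint_iff.mp h]; rfl
    · rw [← Scheme.Hom.preimage_sup]; exact (V ⊔ W).ι_preimage_self
  obtain ⟨H⟩ := nonempty_isColimit_binaryCofanMk_of_isCompl i j hc
  let e := H.coconePointUniqueUpToIso (colimit.isColimit (pair V.toScheme W.toScheme))
  have hi : i ≫ e.hom = coprod.inl := H.comp_coconePointUniqueUpToIso_hom _ ⟨.left⟩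
  have hj : j ≫ e.hom = coprod.inr := H.comp_coconePointUniqueUpToIso_hom _ ⟨.right⟩
  have : (V ⊔ W).ι ≫ f = e.hom ≫ coprod.desc (V.ι ≫ f) (W.ι ≫ f) := by
    apply BinaryCofan.IsColimit.hom_ext H
    · change i ≫ _ = i ≫ _
      refine Eq.trans ?_ ((Category.assoc i e.hom _).trans rfl)
      erw [hi, coprod.inl_desc]
      rw [← Category.assoc, Scheme.homOfLE_ι]
    · change j ≫ _ = j ≫ _
      refine Eq.trans ?_ ((Category.assoc j e.hom _).trans rfl)
      erw [hj, coprod.inr_desc]
      rw [← Category.assoc, Scheme.homOfLE_ι]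
  rw [this]
  exact (MorphismProperty.cancel_left_of_respectsIso @IsFinite _ _).mpr inferInstance

set_option backward.isDefEq.respectTransparency.types false in
theorem exists_etale_clopen_finite_part {Y : Scheme.{u}} (f : X ⟶ Y)
    [LocallyOfFiniteType f] [IsSeparated f] (y : Y) (hfin : (f ⁻¹' {y}).Finite) :
    ∃ (Y' : Scheme.{u}) (g : Y' ⟶ Y) (y' : Y'), Etale g ∧ g y' = y ∧
      IsIso (g.residueFieldMap y') ∧
      ∃ (V W : (pullback f g).Opens), IsCompl V W ∧
        IsFinite (V.ι ≫ pullback.snd f g) ∧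
        ∀ x : ↥(pullback f g), pullback.snd f g x = y' → x ∈ V := by
  suffices H : ∀ F : Finset X, (∀ x ∈ F, f x = y) →
      ∃ (Y' : Scheme.{u}) (g : Y' ⟶ Y) (y' : Y'), Etale g ∧ g y' = y ∧
      IsIso (g.residueFieldMap y') ∧ ∃ (P : Scheme.{u}) (p : P ⟶ X) (q : P ⟶ Y'),
      IsPullback p q f g ∧ ∃ (V W : P.Opens), IsCompl V W ∧ IsFinite (V.ι ≫ q) ∧
        ∀ z, q z = y' → p z ∈ F → z ∈ V by
    obtain ⟨Y', g, y', hg, hgy, hiso, P, p, q, sq, V, W, hVW, hfinV, hV⟩ :=
      H hfin.toFinset (fun x hx => hfin.mem_toFinset.mp hx)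
    let e := sq.isoPullback
    refine ⟨Y', g, y', hg, hgy, hiso, e.inv ⁻¹ᵁ V, e.inv ⁻¹ᵁ W, ?_, ?_, fun z hz => ?_⟩
    · exact ⟨disjoint_iff.mpr (by rw [← Scheme.Hom.preimage_inf, hVW.inf_eq_bot]; rfl),
        codisjoint_iff.mpr (by rw [← Scheme.Hom.preimage_sup, hVW.sup_eq_top]; rfl)⟩
    · have : (e.inv ⁻¹ᵁ V).ι ≫ pullback.snd f g = (e.inv ∣_ V) ≫ V.ι ≫ q := by
        rw [morphismRestrict_ι_assoc, IsPullback.isoPullback_inv_snd]
      rw [this]
      exact (MorphismProperty.cancel_left_of_respectsIso @IsFinite _ _).mpr hfinV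
    · refine hV _ ?_ (hfin.mem_toFinset.mpr ?_)
      · rw [← Scheme.Hom.comp_apply, IsPullback.isoPullback_inv_snd, hz]
      · show f (p (e.inv z)) = y
        rw [← Scheme.Hom.comp_apply e.inv, IsPullback.isoPullback_inv_fst, ← Scheme.Hom.comp_apply,
          pullback.condition, Scheme.Hom.comp_apply, hz, hgy]
  classical
  intro F
  induction F using Finset.induction with
  | empty =>
    intro _
    refine ⟨Y, 𝟙 Y, y, inferInstance, rfl, inferInstance, X, 𝟙 X, f,
      IsPullback.of_id_fst, ⊥, ⊤, isCompl_bot_top, ?_, fun z _ h => ?_⟩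
    · have : IsEmpty ↥((⊥ : X.Opens) : Scheme.{u}) := ⟨fun a => a.2⟩
      infer_instance
    simp at h
  | insert x F hxF IH =>
    intro hF
    obtain ⟨Y', g, y', hg, hgy, hiso, P, p, q, sq, V, W, hVW, hfinV, hV⟩ :=
      IH fun a ha => hF a (Finset.mem_insert_of_mem ha)
    obtain ⟨w, hw1, hw2⟩ := Scheme.Pullback.exists_preimage_pullback x y'
      ((hF x (Finset.mem_insert_self _ _)).trans hgy.symm)
    let z₀ : P := sq.isoPullback.inv w
    have hz₀p : p z₀ = x := by
      rw [← Scheme.Hom.comp_apply, IsPullback.isoPullback_inv_fst, hw1]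
    have hz₀q : q z₀ = y' := by
      rw [← Scheme.Hom.comp_apply, IsPullback.isoPullback_inv_snd, hw2]
    have : LocallyOfFiniteType q := MorphismProperty.of_isPullback sq inferInstance
    have : IsSeparated q := MorphismProperty.of_isPullback sq inferInstance
    have hqfin : (q ⁻¹' {y'}).Finite := by
      refine Set.Finite.of_finite_image (f := p) (hfin.subset ?_) ?_
      · rintro _ ⟨a, ha, rfl⟩
        show f (p a) = y
        rw [← Scheme.Hom.comp_apply, sq.w, Scheme.Hom.comp_apply, show q a = y' from ha, hgy]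
      · intro a ha b hb hab
        have hiso' : IsIso (g.residueFieldMap (q a)) := by rw [show q a = y' from ha]; exact hiso
        exact pullback_eq_of_fst_eq_of_snd_eq sq a b hab
          ((show q a = y' from ha).trans (show q b = y' from hb).symm)
    obtain ⟨U, g', u, hg', hg'u, hiso', V₁, W₁, v, hVW₁, hvV₁, hfinV₁, hv1, hv2⟩ :=
      exists_etale_isCompl_residueIso q z₀
        (quasiFiniteAt_of_finite_preimage q z₀ (hz₀q ▸ hqfin))
    rw [hz₀q] at hg'u
    subst hg'u
    let r := pullback.fst q g'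
    let s := pullback.snd q g'
    have sq' : IsPullback (r ≫ p) s f (g' ≫ g) := (IsPullback.of_hasPullback q g').paste_horiz sq
    have hisoc : IsIso ((g' ≫ g).residueFieldMap u) := by
      rw [Scheme.residueFieldMap_comp]; exact IsIso.comp_isIso' hiso hiso'
    refine ⟨U, g' ≫ g, u, inferInstance, by rw [Scheme.Hom.comp_apply, hgy], hisoc,
      _, r ≫ p, s, sq', r ⁻¹ᵁ V ⊔ (r ⁻¹ᵁ W ⊓ V₁), r ⁻¹ᵁ W ⊓ W₁, ?_, ?_, fun a ha hpa => ?_⟩
    · constructor
      · rw [disjoint_iff]
        ext a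
        have h1 : r a ∈ V → r a ∉ W := fun h h' =>
          (show r a ∉ V ⊓ W by rw [hVW.inf_eq_bot]; simp) ⟨h, h'⟩
        have h2 : a ∈ V₁ → a ∉ W₁ := fun h h' =>
          (show a ∉ V₁ ⊓ W₁ by rw [hVW₁.inf_eq_bot]; simp) ⟨h, h'⟩
        simp
        tauto
      · rw [codisjoint_iff]
        ext a
        have h1 : r a ∈ V ∨ r a ∈ W := show r a ∈ V ⊔ W by rw [hVW.sup_eq_top]; trivial
        have h2 : a ∈ V₁ ∨ a ∈ W₁ := show a ∈ V₁ ⊔ W₁ by rw [hVW₁.sup_eq_top]; trivial
        simp
        tauto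
    · have hA : IsFinite ((r ⁻¹ᵁ V).ι ≫ s) := by
        have := MorphismProperty.of_isPullback (P := @IsFinite)
          ((isPullback_morphismRestrict r V).flip.paste_horiz
            (IsPullback.of_hasPullback q g').flip).flip hfinV
        exact this
      have hBci : IsClosedImmersion (Scheme.homOfLE _
          (inf_le_right : r ⁻¹ᵁ W ⊓ V₁ ≤ V₁)) := by
        apply IsClosedImmersion.of_isPreimmersion
        rw [← Scheme.Hom.coe_opensRange, Scheme.opensRange_homOfLE, ← isOpen_compl_iff]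
        convert (V₁.ι ⁻¹ᵁ (r ⁻¹ᵁ V)).isOpen using 1
        ext ⟨a, ha⟩
        have h1 : r a ∈ V ∨ r a ∈ W := show r a ∈ V ⊔ W by rw [hVW.sup_eq_top]; trivial
        have h2 : r a ∈ V → r a ∉ W := fun h h' =>
          (show r a ∉ V ⊓ W by rw [hVW.inf_eq_bot]; simp) ⟨h, h'⟩
        simp only [Set.mem_compl_iff, Set.mem_inter_iff, Set.mem_preimage, SetLike.mem_coe,
          Scheme.Opens.ι_apply, Scheme.Hom.coe_preimage, TopologicalSpace.Opens.coe_inf]
        tauto
      have hB : IsFinite ((r ⁻¹ᵁ W ⊓ V₁).ι ≫ s) := by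
        rw [← Scheme.homOfLE_ι _ (inf_le_right : r ⁻¹ᵁ W ⊓ V₁ ≤ V₁), Category.assoc]
        exact inferInstance
      exact isFinite_sup (disjoint_iff.mpr (by
        rw [← inf_assoc, ← Scheme.Hom.preimage_inf, hVW.inf_eq_bot]; simp)) s
    · have hra : q (r a) = g' u := by
        rw [← Scheme.Hom.comp_apply, pullback.condition, Scheme.Hom.comp_apply]
        exact congrArg g' ha
      rw [Scheme.Hom.comp_apply] at hpa
      rcases Finset.mem_insert.mp hpa with h | h
      · have : IsIso (g.residueFieldMap (q (r a))) := by rw [hra]; exact hiso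
        have hrz : r a = z₀ := pullback_eq_of_fst_eq_of_snd_eq sq (r a) z₀ (h.trans hz₀p.symm)
          (hra.trans hz₀q.symm)
        have : IsIso (g'.residueFieldMap (s a)) := by rw [ha]; exact hiso'
        have hav : a = v := pullback_eq_of_fst_eq_of_snd_eq (IsPullback.of_hasPullback q g') a v
          (hrz.trans hv1.symm) (ha.trans hv2.symm)
        by_cases hz : z₀ ∈ V
        · exact Or.inl (show r a ∈ V from hrz ▸ hz)
        · refine Or.inr ⟨show r a ∈ W from ?_, hav ▸ hvV₁⟩
          rw [hrz]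
          exact ((show z₀ ∈ V ∨ z₀ ∈ W from
            show z₀ ∈ V ⊔ W by rw [hVW.sup_eq_top]; trivial).resolve_left hz)
      · exact Or.inl (hV _ hra h)

end Groth.Agent.Unr55
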