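import Mathlib.AlgebraicGeometry.AffineScheme
import Mathlib.AlgebraicGeometry.Pullbacks

/-!
Affine base change of a morphism over an affine open.
-/

universe u

open CategoryTheory Limits AlgebraicGeometry

namespace Groth.Agent.Unr55

/-- Base change of `f⁻¹V ⟶ V` along `Spec B ⟶ V`, computed in rings. -/
theorem isPullback_affineBC {X Y : Scheme.{u}} (f : X ⟶ Y) {V : Y.Opens} (hV : IsAffineOpen V)
    (hU : IsAffineOpen (f ⁻¹ᵁ V)) {B P : CommRingCat.{u}} (φ : Γ(Y, V) ⟶ B) (inl : B ⟶ P)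
    (inr : Γ(X, f ⁻¹ᵁ V) ⟶ P) (h : IsPushout φ (f.app V) inl inr) :
    IsPullback (Spec.map inr ≫ hU.fromSpec) (Spec.map inl) f (Spec.map φ ≫ hV.fromSpec) := by
  have h1 : IsPullback (Spec.map (f.app V)) hU.fromSpec hV.fromSpec f := by
    refine IsOpenImmersion.isPullback _ _ _ _ ?_ ?_
    · rw [Scheme.Hom.app_eq_appLE, hV.SpecMap_appLE_fromSpec]
    · rw [hV.opensRange_fromSpec, hU.opensRange_fromSpec]
  exact (isPullback_SpecMap_of_isPushout _ _ _ _ h).flip.paste_horiz h1.flip |>.of_iso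
    (Iso.refl _) (Iso.refl _) (Iso.refl _) (Iso.refl _) (by simp) (by simp) (by simp) (by simp)

end Groth.Agent.Unr55
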