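import Groth.Agent.Unr55.EtLocalSplit
import Groth.Agent.Unr55.DescAt
import Groth.Agent.Unr55.AffineBC
import Mathlib.AlgebraicGeometry.PullbackCarrier
import Mathlib.AlgebraicGeometry.Morphisms.FormallyUnramified
import Mathlib.AlgebraicGeometry.Morphisms.Etale
import Mathlib.AlgebraicGeometry.Morphisms.ClosedImmersion
import Mathlib.AlgebraicGeometry.Morphisms.FlatMono

/-!
Affine charts of a fibre product and étale local immersions.
-/

universe u

open CategoryTheory Limits AlgebraicGeometry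
open scoped TensorProduct

namespace Groth.Agent.Unr55

set_option backward.isDefEq.respectTransparency.types false in
/-- An affine chart `Spec (R' ⊗ S)` of a fibre product. -/
theorem exists_chart {X Y Y' : Scheme.{u}} (f : X ⟶ Y) (g : Y' ⟶ Y) {V : Y.Opens}
    (hV : IsAffineOpen V) {U : X.Opens} (hU : IsAffineOpen U) (e : U ≤ f ⁻¹ᵁ V)
    (R' : Type u) [CommRing R'] [Algebra Γ(Y, V) R'] [Algebra Γ(Y, V) Γ(X, U)]
    (halg : CommRingCat.ofHom (algebraMap Γ(Y, V) Γ(X, U)) = f.appLE V U e)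
    (k : Spec (.of R') ⟶ Y') [IsOpenImmersion k]
    (hk : k ≫ g = Spec.map (CommRingCat.ofHom (algebraMap Γ(Y, V) R')) ≫ hV.fromSpec) :
    ∃ j : Spec (.of (R' ⊗[Γ(Y, V)] Γ(X, U))) ⟶ pullback f g, IsOpenImmersion j ∧
      j ≫ pullback.fst f g =
        Spec.map (CommRingCat.ofHom (Algebra.TensorProduct.includeRight (R := Γ(Y, V)) (A := R')
          (B := Γ(X, U))).toRingHom) ≫ hU.fromSpec ∧
      j ≫ pullback.snd f g =
        Spec.map (CommRingCat.ofHom (algebraMap R' (R' ⊗[Γ(Y, V)] Γ(X, U)))) ≫ k ∧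
      Set.range j = pullback.fst f g ⁻¹' (U : Set X) ∩ pullback.snd f g ⁻¹' Set.range k := by
  let φ := CommRingCat.ofHom (algebraMap Γ(Y, V) R')
  let ψ := CommRingCat.ofHom (algebraMap Γ(Y, V) Γ(X, U))
  have H := isPullback_SpecMap_of_isPushout φ ψ _ _
    (CommRingCat.isPushout_tensorProduct Γ(Y, V) R' Γ(X, U))
  have w1 : Spec.map ψ ≫ hV.fromSpec = hU.fromSpec ≫ f := by
    rw [show ψ = f.appLE V U e from halg, hV.SpecMap_appLE_fromSpec f hU]
  let m := pullback.map (Spec.map ψ) (Spec.map φ) f g hU.fromSpec k hV.fromSpec w1 hk.symm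
  refine ⟨H.flip.isoPullback.hom ≫ m, inferInstance, ?_, ?_, ?_⟩
  · simp only [Category.assoc, m, pullback.lift_fst]
    rw [IsPullback.isoPullback_hom_fst_assoc]
  · simp only [Category.assoc, m, pullback.lift_snd]
    rw [IsPullback.isoPullback_hom_snd_assoc]
  · rw [Scheme.Hom.comp_base, TopCat.coe_comp, Set.range_comp,
      Set.range_eq_univ.mpr (H.flip.isoPullback.hom.surjective), Set.image_univ]
    rw [Scheme.Pullback.range_map, IsAffineOpen.range_fromSpec]

set_option backward.isDefEq.respectTransparency.types false in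
/-- Étale locally on the base, an unramified morphism is a closed immersion near a point. -/
theorem exists_etale_closedImmersion {X Y : Scheme.{u}} (f : X ⟶ Y) [LocallyOfFiniteType f]
    [FormallyUnramified f] (x : X) :
    ∃ (Y' : Scheme.{u}) (g : Y' ⟶ Y) (U : (pullback f g).Opens),
      AlgebraicGeometry.Etale g ∧ x ∈ pullback.fst f g '' (U : Set ↥(pullback f g)) ∧
        IsClosedImmersion (U.ι ≫ pullback.snd f g) ∧
        (AlgebraicGeometry.Etale f → IsOpenImmersion (U.ι ≫ pullback.snd f g)) := by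
  obtain ⟨V, hV, hxV, -⟩ :=
    exists_isAffineOpen_mem_and_subset (U := (⊤ : Y.Opens)) (x := f x) trivial
  obtain ⟨U, hU, hxU, hUV⟩ :=
    exists_isAffineOpen_mem_and_subset (U := f ⁻¹ᵁ V) (x := x) hxV
  let e : U ≤ f ⁻¹ᵁ V := hUV
  let : Algebra Γ(Y, V) Γ(X, U) := (f.appLE V U e).hom.toAlgebra
  have : Algebra.FiniteType Γ(Y, V) Γ(X, U) := (HasRingHomProperty.appLE
    @LocallyOfFiniteType f inferInstance ⟨V, hV⟩ ⟨U, hU⟩ e :)
  have : Algebra.FormallyUnramified Γ(Y, V) Γ(X, U) := (HasRingHomProperty.appLE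
    @FormallyUnramified f inferInstance ⟨V, hV⟩ ⟨U, hU⟩ e :)
  let q := (hU.primeIdealOf ⟨x, hxU⟩).asIdeal
  have : Algebra.IsUnramifiedAt Γ(Y, V) q := Algebra.formallyUnramified_iff_forall.mp ‹_› ⟨q, inferInstance⟩
  have : q.LiesOver (q.under Γ(Y, V)) := ⟨rfl⟩
  obtain ⟨R', _, _, hR', p', _, _, ε, hε, h1, -, Q, hQ, -, hQS, hεQ⟩ :=
    exists_etale_idempotent q (q.under Γ(Y, V))
  let φ := CommRingCat.ofHom (algebraMap Γ(Y, V) R')
  have hg : AlgebraicGeometry.Etale (Spec.map φ ≫ hV.fromSpec) := by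
    have : AlgebraicGeometry.Etale (Spec.map φ) :=
      (HasRingHomProperty.Spec_iff (P := @AlgebraicGeometry.Etale)).mpr
        (RingHom.etale_algebraMap.mpr hR')
    infer_instance
  obtain ⟨j, _, hj1, hj2, -⟩ := exists_chart f (Spec.map φ ≫ hV.fromSpec) hV hU e R' rfl (𝟙 _)
    (Category.id_comp _)
  let T := R' ⊗[Γ(Y, V)] Γ(X, U)
  let L := Localization.Away ε
  let i : Spec (.of L) ⟶ Spec (.of T) := Spec.map (CommRingCat.ofHom (algebraMap T L))
  have hsur : Function.Surjective (algebraMap R' L) := fun z ↦ by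
    obtain ⟨t, ⟨_, m, rfl⟩, rfl⟩ := IsLocalization.exists_mk'_eq (Submonoid.powers ε) z
    obtain ⟨r, hr⟩ := h1 t
    refine ⟨r, ?_⟩
    have hu : algebraMap T L ε = 1 :=
      (IsLocalization.Away.algebraMap_isUnit ε).mul_left_cancel
        (by rw [← map_mul, hε.eq, mul_one])
    rw [IsLocalization.eq_mk'_iff_mul_eq, IsScalarTower.algebraMap_apply R' T L]
    have := congrArg (algebraMap T L) hr
    rw [map_mul, map_mul, hu, mul_one, mul_one] at this
    refine Eq.trans ?_ this.symm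
    have hm : algebraMap T L (ε ^ m) = 1 := by rw [map_pow, hu, one_pow]
    exact (congrArg _ hm).trans (mul_one _)
  have hcomp : i ≫ j ≫ pullback.snd f (Spec.map φ ≫ hV.fromSpec) =
      Spec.map (CommRingCat.ofHom (algebraMap R' L)) := by
    rw [hj2, Category.comp_id, ← Spec.map_comp]
    rfl
  have : IsOpenImmersion i := IsOpenImmersion.of_isLocalization ε
  have hci : IsClosedImmersion (Spec.map (CommRingCat.ofHom (algebraMap R' L))) :=
    IsClosedImmersion.spec_of_surjective _ hsur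
  have key : (i ≫ j).opensRange.ι ≫ pullback.snd f (Spec.map φ ≫ hV.fromSpec) =
      (i ≫ j).isoOpensRange.inv ≫ Spec.map (CommRingCat.ofHom (algebraMap R' L)) := by
    rw [Iso.eq_inv_comp, Scheme.Hom.isoOpensRange_hom_ι_assoc, Category.assoc, hcomp]
  refine ⟨_, _, (i ≫ j).opensRange, hg, ?_, ?_, fun _ ↦ ?_⟩
  · refine ⟨j ⟨Q, hQ⟩, ?_, ?_⟩
    · obtain ⟨w, hw⟩ : (⟨Q, hQ⟩ : PrimeSpectrum T) ∈ Set.range i := by
        have := (PrimeSpectrum.localization_away_comap_range L ε).symm.le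
          (show (⟨Q, hQ⟩ : PrimeSpectrum T) ∈ PrimeSpectrum.basicOpen ε from hεQ)
        exact this
      exact ⟨w, by rw [Scheme.Hom.comp_apply, hw]⟩
    · rw [← Scheme.Hom.comp_apply, hj1, Scheme.Hom.comp_apply]
      rw [show Spec.map (CommRingCat.ofHom (Algebra.TensorProduct.includeRight (R := Γ(Y, V))
        (A := R') (B := Γ(X, U))).toRingHom) ⟨Q, hQ⟩ = hU.primeIdealOf ⟨x, hxU⟩ from
          PrimeSpectrum.ext hQS]
      exact hU.fromSpec_primeIdealOf ⟨x, hxU⟩
  · rw [key]
    infer_instance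
  · rw [key]
    have : Algebra.Etale Γ(Y, V) Γ(X, U) := RingHom.etale_algebraMap.mp (HasRingHomProperty.appLE
      @AlgebraicGeometry.Etale f ‹_› ⟨V, hV⟩ ⟨U, hU⟩ e :)
    have : Algebra.Etale T L := Algebra.Etale.of_isLocalizationAway ε
    have : Algebra.Etale R' L := Algebra.Etale.comp R' T L
    have : AlgebraicGeometry.Etale (Spec.map (CommRingCat.ofHom (algebraMap R' L))) :=
      (HasRingHomProperty.Spec_iff (P := @AlgebraicGeometry.Etale)).mpr
        (RingHom.etale_algebraMap.mpr ‹_›)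
    have : IsOpenImmersion (Spec.map (CommRingCat.ofHom (algebraMap R' L))) :=
      IsOpenImmersion.of_flat_of_mono _
    infer_instance

set_option backward.isDefEq.respectTransparency.types false in
/-- The chart around a point of a fibre product at which a neighbourhood is formally unramified
over the base. -/
theorem exists_prime_of_open {X Y Y' : Scheme.{u}} (f : X ⟶ Y) (g : Y' ⟶ Y) {V : Y.Opens}
    (hV : IsAffineOpen V) {U : X.Opens} (hU : IsAffineOpen U) (e : U ≤ f ⁻¹ᵁ V)
    [Algebra Γ(Y, V) Γ(X, U)]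
    (halg : CommRingCat.ofHom (algebraMap Γ(Y, V) Γ(X, U)) = f.appLE V U e)
    (O : (pullback f g).Opens) (z : ↥(pullback f g)) (hzO : z ∈ O) (q : PrimeSpectrum Γ(X, U))
    (hzq : pullback.fst f g z = hU.fromSpec q) (hunr : FormallyUnramified (O.ι ≫ pullback.snd f g)) :
    ∃ (R' : Type u) (_ : CommRing R') (_ : Algebra Γ(Y, V) R')
      (Q : Ideal (R' ⊗[Γ(Y, V)] Γ(X, U))) (_ : Q.IsPrime),
      Algebra.IsUnramifiedAt R' Q ∧
        Q.comap Algebra.TensorProduct.includeRight.toRingHom = q.asIdeal ∧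
        (Flat g → Flat (O.ι ≫ pullback.snd f g) →
          Module.Flat Γ(Y, V) R' ∧ Module.Flat R' (Localization.AtPrime Q)) := by
  have hzU : pullback.fst f g z ∈ U := by
    rw [hzq]
    exact hU.range_fromSpec.le (Set.mem_range_self q)
  have hzV : g (pullback.snd f g z) ∈ V := by
    rw [← Scheme.Hom.comp_apply, ← pullback.condition, Scheme.Hom.comp_apply]
    exact e hzU
  obtain ⟨W, hW, hzW, hWV⟩ :=
    exists_isAffineOpen_mem_and_subset (U := g ⁻¹ᵁ V) (x := pullback.snd f g z) hzV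
  let e' : W ≤ g ⁻¹ᵁ V := hWV
  let : Algebra Γ(Y, V) Γ(Y', W) := (g.appLE V W e').hom.toAlgebra
  let R' : Type u := Γ(Y', W)
  obtain ⟨j, _, hj1, hj2, hjr⟩ := exists_chart f g hV hU e R' halg hW.fromSpec
    (hV.SpecMap_appLE_fromSpec g hW e').symm
  obtain ⟨Q, hQz⟩ : z ∈ Set.range j := by
    rw [hjr]
    exact ⟨hzU, hW.range_fromSpec.ge hzW⟩
  let T := R' ⊗[Γ(Y, V)] Γ(X, U)
  obtain ⟨_, ⟨h, rfl⟩, hQh, hhO⟩ := PrimeSpectrum.isTopologicalBasis_basic_opens.exists_subset_of_mem_open
    (show Q ∈ (j ⁻¹ᵁ O).1 by show j Q ∈ O; rwa [hQz]) (j ⁻¹ᵁ O).2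
  let L := Localization.Away h
  let i : Spec (.of L) ⟶ Spec (.of T) := Spec.map (CommRingCat.ofHom (algebraMap T L))
  have : IsOpenImmersion i := IsOpenImmersion.of_isLocalization h
  have hir : Set.range (i ≫ j) ⊆ Set.range O.ι := by
    rw [Scheme.Opens.range_ι]
    rintro _ ⟨w, rfl⟩
    rw [Scheme.Hom.comp_apply]
    exact hhO ((PrimeSpectrum.localization_away_comap_range L h).le ⟨w, rfl⟩)
  let l := IsOpenImmersion.lift O.ι (i ≫ j) hir
  have : IsOpenImmersion (l ≫ O.ι) := by rw [IsOpenImmersion.lift_fac]; infer_instance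
  have : IsOpenImmersion l := IsOpenImmersion.of_comp l O.ι
  have hcomp : Spec.map (CommRingCat.ofHom (algebraMap R' L)) ≫ hW.fromSpec =
      l ≫ O.ι ≫ pullback.snd f g := by
    rw [IsOpenImmersion.lift_fac_assoc, Category.assoc, hj2, ← Spec.map_comp_assoc]
    rfl
  refine ⟨R', inferInstance, inferInstance, Q.asIdeal, inferInstance, ?_, ?_, fun hg hfl ↦ ?_⟩
  · have : FormallyUnramified (Spec.map (CommRingCat.ofHom (algebraMap R' L)) ≫ hW.fromSpec) := by
      rw [hcomp]
      exact MorphismProperty.comp_mem _ _ _ (inferInstance : FormallyUnramified l) hunr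
    have h1 : FormallyUnramified (Spec.map (CommRingCat.ofHom (algebraMap R' L))) :=
      FormallyUnramified.of_comp _ hW.fromSpec
    have h2 : Algebra.FormallyUnramified R' L := RingHom.formallyUnramified_algebraMap.mp
      ((HasRingHomProperty.Spec_iff (P := @FormallyUnramified)).mp h1)
    exact Algebra.basicOpen_subset_unramifiedLocus_iff.mpr h2 hQh
  · have h1 : hU.fromSpec (Spec.map (CommRingCat.ofHom (Algebra.TensorProduct.includeRight
        (R := Γ(Y, V)) (A := R') (B := Γ(X, U))).toRingHom) Q) = hU.fromSpec q := by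
      rw [← Scheme.Hom.comp_apply, ← hj1, Scheme.Hom.comp_apply, hQz, hzq]
    exact congrArg PrimeSpectrum.asIdeal (hU.fromSpec.injective h1)
  · have : Flat (Spec.map (CommRingCat.ofHom (algebraMap R' L)) ≫ hW.fromSpec) := by
      rw [hcomp]; infer_instance
    have h1 : Flat (Spec.map (CommRingCat.ofHom (algebraMap R' L))) :=
      MorphismProperty.of_postcomp (W := @Flat) (W' := @IsOpenImmersion) _ hW.fromSpec inferInstance
        this
    have h2 : Module.Flat R' L := RingHom.flat_algebraMap_iff.mp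
      ((HasRingHomProperty.Spec_iff (P := @Flat)).mp h1)
    have h3 : Module.Flat Γ(Y, V) R' := (HasRingHomProperty.appLE @Flat g hg ⟨V, hV⟩ ⟨W, hW⟩ e' :)
    refine ⟨h3, ?_⟩
    let : Algebra L (Localization.AtPrime Q.asIdeal) :=
      (IsLocalization.Away.lift (g := algebraMap T (Localization.AtPrime Q.asIdeal)) h
        (IsLocalization.map_units (Localization.AtPrime Q.asIdeal)
          (⟨h, hQh⟩ : Q.asIdeal.primeCompl))).toAlgebra
    have : IsScalarTower T L (Localization.AtPrime Q.asIdeal) :=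
      .of_algebraMap_eq fun t ↦ (IsLocalization.Away.lift_eq h _ t).symm
    have : IsScalarTower R' L (Localization.AtPrime Q.asIdeal) := .to₁₃₄ R' T L _
    have : Module.Flat L (Localization.AtPrime Q.asIdeal) :=
      (Module.flat_iff_of_isLocalization L (Submonoid.powers h) _).mpr inferInstance
    exact .trans R' L _

/-- The converse: a morphism that is, flat locally on the base, a closed immersion is unramified. -/
theorem formallyUnramified_of_chart {X Y : Scheme.{u}} (f : X ⟶ Y) [LocallyOfFiniteType f]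
    (h : ∀ x : X, ∃ (Y' : Scheme.{u}) (g : Y' ⟶ Y) (O : (pullback f g).Opens),
      x ∈ pullback.fst f g '' (O : Set ↥(pullback f g)) ∧
        FormallyUnramified (O.ι ≫ pullback.snd f g)) :
    FormallyUnramified f := by
  rw [HasRingHomProperty.iff_appLE (P := @FormallyUnramified)]
  rintro ⟨V, hV⟩ ⟨U, hU⟩ e
  let : Algebra Γ(Y, V) Γ(X, U) := (f.appLE V U e).hom.toAlgebra
  have : Algebra.FiniteType Γ(Y, V) Γ(X, U) := (HasRingHomProperty.appLE
    @LocallyOfFiniteType f inferInstance ⟨V, hV⟩ ⟨U, hU⟩ e :)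
  refine Algebra.formallyUnramified_iff_forall.mpr fun q ↦ ?_
  obtain ⟨Y', g, O, ⟨z, hzO, hz⟩, hunr⟩ := h (hU.fromSpec q)
  obtain ⟨R', _, _, Q, _, hQ, hQq, -⟩ := exists_prime_of_open f g hV hU e rfl O z hzO q hz hunr
  have := isUnramifiedAt_of_baseChange Q hQ
  simp only [hQq] at this
  exact this

/-- The converse: a morphism that is, flat locally on the base, an open immersion is flat. -/
theorem flat_of_chart {X Y : Scheme.{u}} (f : X ⟶ Y)
    (h : ∀ x : X, ∃ (Y' : Scheme.{u}) (g : Y' ⟶ Y) (O : (pullback f g).Opens), Flat g ∧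
      x ∈ pullback.fst f g '' (O : Set ↥(pullback f g)) ∧
        IsOpenImmersion (O.ι ≫ pullback.snd f g)) :
    Flat f := by
  rw [HasRingHomProperty.iff_appLE (P := @Flat)]
  rintro ⟨V, hV⟩ ⟨U, hU⟩ e
  let : Algebra Γ(Y, V) Γ(X, U) := (f.appLE V U e).hom.toAlgebra
  refine flat_of_localization fun q _ ↦ ?_
  obtain ⟨Y', g, O, hg, ⟨z, hzO, hz⟩, ho⟩ := h (hU.fromSpec ⟨q, inferInstance⟩)
  obtain ⟨R', _, _, Q, _, -, hQq, hfl⟩ :=
    exists_prime_of_open f g hV hU e rfl O z hzO ⟨q, inferInstance⟩ hz inferInstance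
  obtain ⟨_, h2⟩ := hfl hg inferInstance
  obtain rfl : Q.comap Algebra.TensorProduct.includeRight.toRingHom = q := hQq
  exact flat_localization_of_baseChange Q h2

end Groth.Agent.Unr55
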