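import Groth.Agent.Unr55.EtStalk
import Groth.Agent.Unr55.UnrQF
import Groth.Agent.Unr55.TopInv
import Mathlib.AlgebraicGeometry.FunctionField
import Mathlib.AlgebraicGeometry.PullbackCarrier
import Mathlib.AlgebraicGeometry.Morphisms.Etale
import Mathlib.AlgebraicGeometry.Morphisms.QuasiFinite
import Mathlib.AlgebraicGeometry.Morphisms.UniversallyInjective
import Mathlib.AlgebraicGeometry.Morphisms.UniversallyOpen
import Mathlib.AlgebraicGeometry.Morphisms.Separated
import Mathlib.AlgebraicGeometry.Limits
import Mathlib.FieldTheory.IsSepClosed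

/-!
Etale schemes over an integral normal scheme with separably closed function field.
-/

set_option autoImplicit false
set_option backward.isDefEq.respectTransparency.types false
universe u

open CategoryTheory CategoryTheory.Limits AlgebraicGeometry

namespace Groth.Agent.Unr55.SepClosedCover

variable {U X : Scheme.{u}} [IsIntegral X] (g : U ⟶ X) [AlgebraicGeometry.Etale g]

omit [IsIntegral X] in
theorem eq_of_specializes {a b : U} (h : a ⤳ b) (he : g a = g b) : a = b := by
  have := locallyQuasiFinite_of_formallyUnramified g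
  obtain ⟨V, hV, hVb⟩ := isDiscrete_iff_forall_mem_exists_isOpen.1
    (g.isDiscrete_preimage_singleton (g b)) b rfl
  exact hVb.le ⟨h.mem_open hV (hVb.ge rfl).1, he⟩

theorem existsUnique_generic (hN : ∀ x : X, IsIntegrallyClosed (X.presheaf.stalk x)) (u : U) :
    ∃! ξ : U, ξ ⤳ u ∧ g ξ = genericPoint X := by
  obtain ⟨z, hz, hgz⟩ := Flat.generalizingMap g (genericPoint_specializes (g u))
  have : IsDomain (U.presheaf.stalk u) :=
    ((isNormalDomain_stalk_iff_of_etale g u).2 ⟨inferInstance, hN _⟩).1
  let P₀ : Spec (U.presheaf.stalk u) := (⟨⊥, Ideal.isPrime_bot⟩ : PrimeSpectrum _)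
  have h0 : ∀ ξ : U, ξ ⤳ u → U.fromSpecStalk u P₀ ⤳ ξ := by
    intro ξ hξ
    obtain ⟨P, rfl⟩ : ξ ∈ Set.range (U.fromSpecStalk u) := by
      rw [Scheme.range_fromSpecStalk]; exact hξ
    exact ((PrimeSpectrum.le_iff_specializes _ _).1 (bot_le : (⊥ : Ideal _) ≤ P.asIdeal)).map
      (U.fromSpecStalk u).continuous
  have hP0 : g (U.fromSpecStalk u P₀) = genericPoint X := by
    refine (Specializes.antisymm ?_ (genericPoint_specializes _)).eq
    have := (h0 z hz).map g.continuous
    rwa [hgz] at this
  refine ⟨U.fromSpecStalk u P₀, ⟨?_, hP0⟩, fun ξ ⟨hξ, hgξ⟩ => ?_⟩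
  · have := Scheme.range_fromSpecStalk (X := U) (x := u)
    exact this.le ⟨P₀, rfl⟩
  · exact (eq_of_specializes g (h0 ξ hξ) (hP0.trans hgξ.symm)).symm

theorem isOpen_closure (hN : ∀ x : X, IsIntegrallyClosed (X.presheaf.stalk x)) {ξ : U} (hξ : g ξ = genericPoint X) :
    IsOpen (closure ({ξ} : Set U)) := by
  have := locallyQuasiFinite_of_formallyUnramified g
  rw [isOpen_iff_forall_mem_open]
  intro u hu
  obtain ⟨V, hV, hgu, -⟩ := exists_isAffineOpen_mem_and_subset (X := X) (x := g u) (U := ⊤) trivial
  obtain ⟨W, hW, huW, hle⟩ := exists_isAffineOpen_mem_and_subset (X := U) (x := u) (U := g ⁻¹ᵁ V) hgu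
  have hfin : ((W : Set U) ∩ g ⁻¹' {genericPoint X}).Finite := by
    have : IsAffine W.toScheme := hW
    have : IsAffine V.toScheme := hV
    have hf := (g.resLE V W hle).finite_preimage_singleton
    by_cases hη : genericPoint X ∈ V
    · refine ((hf ⟨genericPoint X, hη⟩).image W.ι).subset ?_
      rintro a ⟨haW, ha⟩
      refine ⟨⟨a, haW⟩, V.ι.isOpenEmbedding.injective ?_, rfl⟩
      rw [← Scheme.Hom.comp_apply, Scheme.Hom.resLE_comp_ι]
      exact ha
    · refine Set.finite_empty.subset ?_
      rintro a ⟨haW, ha⟩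
      exact absurd (ha ▸ hle haW : genericPoint X ∈ V) hη
  let R : Set U := ⋃ z ∈ ((W : Set U) ∩ g ⁻¹' {genericPoint X}) \ {ξ}, closure {z}
  have hR : IsClosed R := (hfin.subset Set.sdiff_subset).isClosed_biUnion fun _ _ => isClosed_closure
  refine ⟨(W : Set U) \ R, fun v ⟨hvW, hvR⟩ => ?_, W.2.sdiff hR, huW, fun hR' => ?_⟩
  · obtain ⟨z, ⟨hz, hgz⟩, -⟩ := existsUnique_generic g hN v
    by_cases he : z = ξ
    · exact he ▸ specializes_iff_mem_closure.1 hz
    · have hzm : z ∈ ((W : Set U) ∩ g ⁻¹' {genericPoint X}) \ {ξ} := ⟨⟨hz.mem_open W.2 hvW, hgz⟩, he⟩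
      exact absurd (Set.mem_biUnion hzm (specializes_iff_mem_closure.1 hz)) hvR
  · obtain ⟨z, hz, hzu⟩ := Set.mem_iUnion₂.1 hR'
    exact hz.2 ((existsUnique_generic g hN u).unique ⟨specializes_iff_mem_closure.2 hzu, hz.1.2⟩
      ⟨specializes_iff_mem_closure.2 hu, hξ⟩)

theorem residueFieldMap_bijective [IsSepClosed X.functionField] {ξ : U} (hξ : g ξ = genericPoint X) :
    IsIso (g.residueFieldMap ξ) := by
  have : IsSepClosed (X.residueField (g ξ)) := by
    rw [hξ]
    have hb : Function.Bijective (X.residue (genericPoint X)).hom :=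
      ⟨RingHom.injective (R := (X.functionField : Type u)) (X.residue (genericPoint X)).hom, IsLocalRing.residue_surjective⟩
    refine IsSepClosed.of_exists_root _ fun p hp hirr hsep => ?_
    let e : (X.functionField : Type u) ≃+* X.residueField (genericPoint X) := RingEquiv.ofBijective _ hb
    obtain ⟨x, hx⟩ := IsSepClosed.exists_root (p.map (e.symm : _ →+* (X.functionField : Type u)))
      (by rw [Polynomial.degree_map]; exact (Polynomial.degree_pos_of_irreducible hirr).ne') hsep.map
    refine ⟨e x, ?_⟩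
    have h := congrArg e hx
    rw [map_zero, Polynomial.eval_map] at h
    have h' := Polynomial.hom_eval₂ p e.symm.toRingHom e.toRingHom x
    rw [RingEquiv.toRingHom_comp_symm_toRingHom] at h'
    rw [← Polynomial.eval₂_id]
    exact h'.symm.trans h
  rw [ConcreteCategory.isIso_iff_bijective]
  let : Algebra (X.residueField (g.base ξ)) (U.residueField ξ) := (g.residueFieldMap ξ).hom.toAlgebra
  exact ⟨(g.residueFieldMap ξ).hom.injective,
    IsSepClosed.algebraMap_surjective (X.residueField (g.base ξ)) (U.residueField ξ)⟩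

theorem exists_iso_sigma [IsSeparated g] [IsSepClosed X.functionField]
    (hN : ∀ x : X, IsIntegrallyClosed (X.presheaf.stalk x)) :
    ∃ (ι : Type u) (V : ι → X.Opens) (e : (∐ fun i => (V i : Scheme.{u})) ≅ U),
      ∀ i, Sigma.ι (fun i => (V i : Scheme.{u})) i ≫ e.hom ≫ g = (V i).ι := by
  let ι : Type u := {ξ : U // g ξ = genericPoint X}
  let W : ι → U.Opens := fun ξ => ⟨closure {ξ.1}, isOpen_closure g hN ξ.2⟩
  have hW : ∀ i, IsOpenImmersion ((W i).ι ≫ g) := by
    intro i
    let h := (W i).ι ≫ g
    have : IsSeparated h := inferInstance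
    have : AlgebraicGeometry.Etale h := inferInstance
    let ξ' : (W i).toScheme := ⟨i.1, subset_closure rfl⟩
    have huniq : ∀ w : (W i).toScheme, h w = genericPoint X → w = ξ' := fun w hw =>
      (W i).ι.isOpenEmbedding.injective
        ((eq_of_specializes g (specializes_iff_mem_closure.2 w.2) (i.2.trans hw.symm)).symm)
    have hiso := residueFieldMap_bijective h (ξ := ξ') i.2
    have : Surjective (pullback.diagonal h) := by
      refine ⟨fun p => ?_⟩
      obtain ⟨p₀, ⟨hp, hgp⟩, -⟩ := existsUnique_generic (pullback.fst h h ≫ h) hN p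
      have h1 : pullback.fst h h p₀ = ξ' := huniq _ hgp
      have h2 : pullback.snd h h p₀ = ξ' := huniq _ (by
        rw [← Scheme.Hom.comp_apply, ← pullback.condition]; exact hgp)
      have hd : pullback.diagonal h ξ' = p₀ := by
        apply (Scheme.Pullback.carrierEquiv (f := h) (g := h)).injective
        let T : Scheme.Pullback.Triplet h h := ⟨ξ', ξ', h ξ', rfl, rfl⟩
        have hsub : Subsingleton (Spec T.tensor) := by
          have : IsIso ((X.residueFieldCongr T.hx).inv ≫ h.residueFieldMap T.x) := by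
            have : IsIso (h.residueFieldMap T.x) := hiso
            infer_instance
          have : IsIso T.tensorInr :=
            (IsPushout.of_hasPushout _ _).isIso_inr_of_isIso this
          exact (Spec.map T.tensorInr).homeomorph.injective.subsingleton
        have key : ∀ q, Scheme.Pullback.Triplet.ofPoint (f := h) (g := h) q = T →
            ∀ z : Spec T.tensor, Scheme.Pullback.carrierEquiv q = ⟨T, z⟩ := by
          intro q hq z
          rw [Scheme.Pullback.carrierEquiv_eq_iff]
          exact ⟨hq, Subsingleton.elim _ _⟩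
        have hd1 : pullback.fst h h (pullback.diagonal h ξ') = ξ' := by
          rw [← Scheme.Hom.comp_apply, pullback.diagonal_fst]; rfl
        have hd2 : pullback.snd h h (pullback.diagonal h ξ') = ξ' := by
          rw [← Scheme.Hom.comp_apply, pullback.diagonal_snd]; rfl
        obtain ⟨z⟩ : Nonempty (Spec T.tensor) := inferInstanceAs (Nonempty (PrimeSpectrum T.tensor))
        rw [key _ (Scheme.Pullback.Triplet.ext hd1 hd2) z, key _ (Scheme.Pullback.Triplet.ext h1 h2) z]
      exact hp.mem_closed (pullback.diagonal h).isClosedEmbedding.isClosed_range ⟨ξ', hd⟩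
    have : UniversallyInjective h := (UniversallyInjective.iff_diagonal h).2 this
    have : Mono h := mono_of_universallyInjective h this
    exact IsOpenImmersion.of_flat_of_mono h
  let V : ι → X.Opens := fun i => ((W i).ι ≫ g).opensRange
  let f : ∀ i, (V i).toScheme ⟶ U := fun i => ((W i).ι ≫ g).isoOpensRange.inv ≫ (W i).ι
  have hr : ∀ i, (f i).opensRange = W i := fun i => by
    simp only [f, Scheme.Hom.opensRange_comp_of_isIso, Scheme.Opens.opensRange_ι]
  have hcov : ⨆ i, (f i).opensRange = ⊤ := eq_top_iff.2 fun u _ => by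
    obtain ⟨z, ⟨hz, hgz⟩, -⟩ := existsUnique_generic g hN u
    refine TopologicalSpace.Opens.mem_iSup.2 ⟨⟨z, hgz⟩, ?_⟩
    rw [hr]
    exact specializes_iff_mem_closure.1 hz
  have hdisj : Pairwise (Function.onFun Disjoint fun i => (f i).opensRange) := fun i j hij => by
    simp only [Function.onFun, hr]
    rw [disjoint_iff]
    ext1
    refine Set.eq_empty_iff_forall_notMem.2 fun u hu => hij (Subtype.ext ?_)
    exact (existsUnique_generic g hN u).unique ⟨specializes_iff_mem_closure.2 hu.1, i.2⟩
      ⟨specializes_iff_mem_closure.2 hu.2, j.2⟩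
  obtain ⟨hc⟩ := nonempty_isColimit_cofanMk_of f hcov hdisj
  refine ⟨ι, V, IsColimit.coconePointUniqueUpToIso (coproductIsCoproduct _) hc, fun i => ?_⟩
  rw [← Category.assoc]
  have := IsColimit.comp_coconePointUniqueUpToIso_hom (coproductIsCoproduct fun i => (V i).toScheme) hc ⟨i⟩
  erw [this]
  simp [f, V]

end Groth.Agent.Unr55.SepClosedCover
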