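import Mathlib.RingTheory.Henselian
import Mathlib.FieldTheory.IsSepClosed
import Mathlib.FieldTheory.Separable
import Mathlib.RingTheory.Polynomial.GaussLemma
import Mathlib.RingTheory.LocalRing.ResidueField.Basic

/-!
Normal local domains with separably closed fraction field are strictly henselian.
-/

set_option autoImplicit false
universe u

open Polynomial IsLocalRing

namespace Groth.Agent.Unr55.SepClosedNormal

variable {A K : Type u} [CommRing A] [IsDomain A] [IsIntegrallyClosed A] [Field K] [Algebra A K]
  [IsFractionRing A K] [IsSepClosed K]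

variable (K) in
include K in
omit [IsDomain A] in
theorem exists_factor {f : A[X]} (hf : f.Monic) (hd : f.natDegree ≠ 0) :
    ∃ g q : A[X], g.Monic ∧ q.Monic ∧ f = g * q ∧ g.natDegree ≠ 0 ∧
      (g.derivative ≠ 0 → g.natDegree = 1) := by
  have hfK := hf.map (algebraMap A K)
  obtain ⟨h, hh, hirr, hdvd⟩ := Polynomial.exists_monic_irreducible_factor (f.map (algebraMap A K))
    (fun hu => hd (by
      have := hfK.eq_one_of_isUnit hu
      rw [← hf.natDegree_map (algebraMap A K), this, natDegree_one]))
  obtain ⟨g, hg⟩ := IsIntegrallyClosed.eq_map_mul_C_of_dvd K hf hdvd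
  rw [hh.leadingCoeff, map_one, mul_one] at hg
  have hgm : g.Monic := monic_of_injective (IsFractionRing.injective A K) (hg ▸ hh)
  obtain ⟨q, hq⟩ := Polynomial.map_dvd_map (algebraMap A K) (IsFractionRing.injective A K) hgm |>.1 (hg ▸ hdvd)
  refine ⟨g, q, hgm, hgm.of_mul_monic_left (hq ▸ hf), hq, ?_, fun hder => ?_⟩
  · rw [← hgm.natDegree_map (algebraMap A K), hg]; exact hirr.natDegree_pos.ne'
  · rw [← hgm.natDegree_map (algebraMap A K), hg]
    have hsep : h.Separable := (separable_iff_derivative_ne_zero hirr).2 (by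
      rw [← hg, derivative_map]
      exact (Polynomial.map_ne_zero_iff (IsFractionRing.injective A K)).2 hder)
    exact natDegree_eq_of_degree_eq_some (IsSepClosed.degree_eq_one_of_irreducible K hirr hsep)

variable (A K) in
include K in
omit [IsDomain A] in
theorem henselianLocalRing [IsLocalRing A] : HenselianLocalRing A := by
  constructor
  suffices ∀ (n : ℕ) (f : A[X]), f.Monic → f.natDegree = n → ∀ a₀, f.eval a₀ ∈ maximalIdeal A →
      IsUnit (f.derivative.eval a₀) → ∃ a, f.IsRoot a ∧ a - a₀ ∈ maximalIdeal A from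
    fun f hf a₀ h1 h2 => this _ f hf rfl a₀ h1 h2
  intro n
  induction n using Nat.strong_induction_on with
  | _ n ih =>
    intro f hf hn a₀ h1 h2
    by_cases hd : f.natDegree = 0
    · rw [hf.natDegree_eq_zero.1 hd, eval_one] at h1
      exact absurd ((Ideal.eq_top_iff_one _).2 h1) Ideal.IsPrime.ne_top'
    obtain ⟨g, q, hg, hq, rfl, hg0, hg1⟩ := exists_factor K hf hd
    rw [derivative_mul, eval_add, eval_mul, eval_mul] at h2
    rw [eval_mul] at h1
    by_cases hqm : q.eval a₀ ∈ maximalIdeal A
    · have hu : IsUnit (q.derivative.eval a₀) := by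
        by_contra hc
        exact (mem_maximalIdeal _).1 ((maximalIdeal A).add_mem ((maximalIdeal A).mul_mem_left _ hqm)
          ((maximalIdeal A).mul_mem_left (g.eval a₀) ((mem_maximalIdeal _).2 hc))) h2
      obtain ⟨a, ha, ha'⟩ := ih q.natDegree (by
        rw [← hn, hg.natDegree_mul hq]; omega) q hq rfl a₀ hqm hu
      exact ⟨a, by rw [IsRoot, eval_mul, ha.eq_zero, mul_zero], ha'⟩
    · have hgm : g.eval a₀ ∈ maximalIdeal A := (Ideal.IsPrime.mem_or_mem' h1).resolve_right hqm
      have hder : g.derivative ≠ 0 := fun h0 => by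
        rw [h0, eval_zero, zero_mul, zero_add] at h2
        exact (mem_maximalIdeal _).1 ((maximalIdeal A).mul_mem_right _ hgm) h2
      have he := hg.eq_X_add_C (hg1 hder)
      refine ⟨-g.coeff 0, ?_, ?_⟩
      · rw [IsRoot, eval_mul]
        conv_lhs => arg 1; rw [he]
        simp
      · rw [he] at hgm
        simp only [eval_add, eval_X, eval_C] at hgm
        rw [← (maximalIdeal A).neg_mem_iff]
        convert hgm using 1; ring

variable (A K) in
include K in
theorem isSepClosed_residueField [IsLocalRing A] : IsSepClosed (ResidueField A) := by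
  refine IsSepClosed.of_exists_root _ fun p hp hirr hsep => ?_
  obtain ⟨f, hfp, -, hf⟩ := lifts_and_degree_eq_and_monic (f := residue A) (p := p) (by
    rw [lifts_iff_coeff_lifts]
    exact fun n => residue_surjective _) hp
  obtain ⟨g, q, hg, hq, rfl, hg0, hg1⟩ := exists_factor K hf fun h0 => by
    rw [← hf.natDegree_map (residue A), hfp] at h0
    exact hirr.natDegree_pos.ne' h0
  rw [Polynomial.map_mul] at hfp
  have hu : IsUnit (q.map (residue A)) := by
    rcases hirr.isUnit_or_isUnit hfp.symm with h | h
    · exact absurd ((hg.map _).eq_one_of_isUnit h) fun h1 => hg0 (by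
        rw [← hg.natDegree_map (residue A), h1, natDegree_one])
    · exact h
  rw [(hq.map _).eq_one_of_isUnit hu, mul_one] at hfp
  have hd : g.natDegree = 1 := hg1 fun h0 => by
    have h := (separable_iff_derivative_ne_zero hirr).1 hsep
    rw [← hfp, derivative_map, h0, Polynomial.map_zero] at h
    exact h rfl
  refine ⟨residue A (-g.coeff 0), ?_⟩
  rw [← hfp, hg.eq_X_add_C hd]
  simp

end Groth.Agent.Unr55.SepClosedNormal
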