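import Groth.Agent.Unr55.SepClosedCover
import Groth.Agent.Ind91.Lift
import Mathlib.AlgebraicGeometry.Morphisms.FlatMono
import Mathlib.AlgebraicGeometry.Morphisms.Immersion
import Mathlib.AlgebraicGeometry.Morphisms.Finite

/-!
Étale schemes over a closed subscheme of an affine normal scheme with separably closed function field.
-/

set_option autoImplicit false
set_option backward.isDefEq.respectTransparency.types false
universe u

open CategoryTheory CategoryTheory.Limits AlgebraicGeometry TopologicalSpace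

namespace Groth.Agent.Unr55.GabberEt

variable {X Z W : Scheme.{u}}

theorem exists_etale_lift_affine [IsAffine X] (i : Z ⟶ X) [IsClosedImmersion i] (p : W ⟶ Z)
    [AlgebraicGeometry.Etale p] [IsAffine W] :
    ∃ (U : Scheme.{u}) (g : U ⟶ X) (j : W ⟶ U),
      AlgebraicGeometry.Etale g ∧ IsSeparated g ∧ IsClosedImmersion j ∧ j ≫ g = p ≫ i := by
  obtain ⟨hZ, hi⟩ := IsClosedImmersion.isAffine_surjective_of_isAffine i
  let A := Γ(X, ⊤)
  let R := Γ(Z, ⊤)
  let S := Γ(W, ⊤)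
  let φ : A →+* R := i.appTop.hom
  let : Algebra R S := p.appTop.hom.toAlgebra
  have : Algebra.Etale R S := HasRingHomProperty.appTop @AlgebraicGeometry.Etale p inferInstance
  let e : (A ⧸ RingHom.ker φ) ≃+* R := RingHom.quotientKerEquivOfSurjective hi
  let : Algebra (A ⧸ RingHom.ker φ) R := e.toRingHom.toAlgebra
  have : Algebra.Etale (A ⧸ RingHom.ker φ) R :=
    Algebra.Etale.of_equiv (AlgEquiv.ofRingEquiv (f := e) (fun _ => rfl) :
      (A ⧸ RingHom.ker φ) ≃ₐ[A ⧸ RingHom.ker φ] R)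
  let : Algebra (A ⧸ RingHom.ker φ) S := (p.appTop.hom.comp e.toRingHom).toAlgebra
  have : IsScalarTower (A ⧸ RingHom.ker φ) R S := IsScalarTower.of_algebraMap_eq' rfl
  have : Algebra.Etale (A ⧸ RingHom.ker φ) S := Algebra.Etale.comp (A ⧸ RingHom.ker φ) R S
  let : Algebra A S := ((algebraMap (A ⧸ RingHom.ker φ) S).comp (Ideal.Quotient.mk _)).toAlgebra
  have : IsScalarTower A (A ⧸ RingHom.ker φ) S := IsScalarTower.of_algebraMap_eq' rfl
  obtain ⟨B, _, _, π, hB, hπ, -⟩ := Ind91.exists_etale_lift A (RingHom.ker φ) S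
  let g₀ : Spec (CommRingCat.of B) ⟶ Spec A := Spec.map (CommRingCat.ofHom (algebraMap A B))
  have : AlgebraicGeometry.Etale g₀ := (HasRingHomProperty.Spec_iff (P := @AlgebraicGeometry.Etale)).2 (by
    show (algebraMap A B).Etale
    exact (RingHom.etale_algebraMap).2 hB)
  let π' : CommRingCat.of B ⟶ S := CommRingCat.ofHom π.toRingHom
  have hcl : IsClosedImmersion (Spec.map π') := IsClosedImmersion.spec_of_surjective π' hπ
  refine ⟨Spec (CommRingCat.of B), g₀ ≫ X.isoSpec.inv, W.isoSpec.hom ≫ Spec.map π',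
    inferInstance, inferInstance, inferInstance, ?_⟩
  have h1 : Spec.map π' ≫ g₀ = Spec.map p.appTop ≫ Spec.map i.appTop := by
    rw [← Spec.map_comp, ← Spec.map_comp]
    congr 1
    ext a
    show π (algebraMap A B a) = p.appTop.hom (φ a)
    rw [π.commutes]
    rfl
  rw [Category.assoc, reassoc_of% h1, Scheme.isoSpec_inv_naturality, Scheme.isoSpec_inv_naturality_assoc,
    Iso.hom_inv_id_assoc]

/-- An étale affine scheme over the closed subscheme is covered by disjoint opens mapping isomorphically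
onto opens of it. -/
theorem exists_pieces [IsAffine X] [IsIntegral X] (hN : ∀ x : X, IsIntegrallyClosed (X.presheaf.stalk x))
    [IsSepClosed X.functionField] (i : Z ⟶ X) [IsClosedImmersion i] (p : W ⟶ Z)
    [AlgebraicGeometry.Etale p] [IsAffine W] :
    ∃ (ι : Type u) (Q : ι → W.Opens), (⨆ k, Q k = ⊤) ∧ Pairwise (Function.onFun Disjoint Q) ∧
      ∀ k, IsOpenImmersion ((Q k).ι ≫ p) := by
  obtain ⟨U, g, j, _, _, _, hsq⟩ := exists_etale_lift_affine i p
  obtain ⟨ι, V, e, he⟩ := SepClosedCover.exists_iso_sigma g hN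
  let f : ∀ k, (V k).toScheme ⟶ U := fun k => Sigma.ι (fun k => (V k).toScheme) k ≫ e.hom
  let O : ι → U.Opens := fun k => (f k).opensRange
  refine ⟨ι, fun k => j ⁻¹ᵁ O k, eq_top_iff.2 fun w _ => ?_, fun k l hkl => ?_, fun k => ?_⟩
  · obtain ⟨k, y, hy⟩ := Scheme.IsLocallyDirected.ι_jointly_surjective
      (Discrete.functor fun k => (V k).toScheme) (e.inv (j w))
    refine Opens.mem_iSup.2 ⟨k.as, ⟨y, ?_⟩⟩
    show (Sigma.ι (fun k => (V k).toScheme) k.as ≫ e.hom) y = j w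
    refine (Scheme.Hom.comp_apply _ _ y).trans ((congrArg e.hom hy).trans ?_)
    rw [← Scheme.Hom.comp_apply, e.inv_hom_id]
    rfl
  · rw [Function.onFun, disjoint_iff]
    ext1
    refine Set.eq_empty_iff_forall_notMem.2 fun w hw => hkl ?_
    obtain ⟨⟨a, ha⟩, ⟨b, hb⟩⟩ := hw
    have h : Sigma.ι (fun k => (V k).toScheme) k a = Sigma.ι (fun k => (V k).toScheme) l b :=
      e.hom.homeomorph.injective (ha.trans hb.symm)
    exact congrArg Sigma.fst ((sigmaι_eq_iff (g := fun k => (V k).toScheme) k l a b).1 h)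
  · let Qk := j ⁻¹ᵁ O k
    have hrange : Set.range (Qk.ι ≫ j) ⊆ Set.range (f k) := by
      rintro _ ⟨z, rfl⟩
      exact z.2
    let l : Qk.toScheme ⟶ (V k).toScheme := IsOpenImmersion.lift (f k) (Qk.ι ≫ j) hrange
    have hl : l ≫ f k = Qk.ι ≫ j := IsOpenImmersion.lift_fac _ _ _
    have hfg : f k ≫ g = (V k).ι := (Category.assoc _ _ _).trans (he k)
    have heq : (Qk.ι ≫ p) ≫ i = l ≫ (V k).ι := by
      rw [Category.assoc, ← hsq, ← Category.assoc, ← hl, Category.assoc, hfg]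
    have : Mono l := by
      have : Mono (l ≫ f k) := by rw [hl]; infer_instance
      exact mono_of_mono l (f k)
    have : Mono ((Qk.ι ≫ p) ≫ i) := by rw [heq]; infer_instance
    have : Mono (Qk.ι ≫ p) := mono_of_mono _ i
    exact IsOpenImmersion.of_flat_of_mono (Qk.ι ≫ p)

/-- A finite étale surjection to the closed subscheme has a section. -/
theorem exists_section [IsAffine X] [IsIntegral X] (hN : ∀ x : X, IsIntegrallyClosed (X.presheaf.stalk x))
    [IsSepClosed X.functionField] (i : Z ⟶ X) [IsClosedImmersion i] (p : W ⟶ Z)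
    [AlgebraicGeometry.Etale p] [IsFinite p] [Surjective p] : ∃ s : Z ⟶ W, s ≫ p = 𝟙 Z := by
  classical
  have := (IsClosedImmersion.isAffine_surjective_of_isAffine i).1
  have : IsAffine W := isAffine_of_isAffineHom p
  obtain ⟨ι, Q, hcov, hdisj, hQ⟩ := exists_pieces hN i p
  have hQcl : ∀ k, IsClosed ((Q k : W.Opens) : Set W) := fun k => by
    rw [← isOpen_compl_iff, isOpen_iff_forall_mem_open]
    intro w hw
    obtain ⟨l, hl⟩ := Opens.mem_iSup.1 (hcov.ge (trivial : w ∈ (⊤ : W.Opens)))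
    refine ⟨Q l, fun v hv hvk => ?_, (Q l).2, hl⟩
    have hlk : l ≠ k := fun h => hw (h ▸ hl)
    exact Set.disjoint_left.1 (by simpa [Function.onFun, disjoint_iff, ← Set.bot_eq_empty, SetLike.ext'_iff] using hdisj hlk) hv hvk
  let O : ι → Z.Opens := fun k => ((Q k).ι ≫ p).opensRange
  have hOcl : ∀ k, IsClosed ((O k : Z.Opens) : Set Z) := fun k => by
    have : ((O k : Z.Opens) : Set Z) = p '' (Q k : Set W) := by
      show Set.range ((Q k).ι ≫ p) = _
      rw [Scheme.Hom.comp_base]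
      exact (Set.range_comp p (Q k).ι).trans (congrArg _ (Q k).range_ι)
    rw [this]
    exact p.isClosedMap _ (hQcl k)
  have hOcov : (Set.univ : Set Z) ⊆ ⋃ k, (O k : Set Z) := fun z _ => by
    obtain ⟨w, rfl⟩ := p.surjective z
    obtain ⟨k, hk⟩ := Opens.mem_iSup.1 (hcov.ge (trivial : w ∈ (⊤ : W.Opens)))
    exact Set.mem_iUnion.2 ⟨k, ⟨w, hk⟩, rfl⟩
  obtain ⟨t, ht⟩ := isCompact_univ.elim_finite_subcover (fun k => (O k : Set Z)) (fun k => (O k).2) hOcov
  let c : Fin t.card → ι := fun a => (t.equivFin.symm a).1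
  have hc : ∀ z : Z, ∃ a, z ∈ O (c a) := fun z => by
    obtain ⟨k, hk, hz⟩ := Set.mem_iUnion₂.1 (ht (Set.mem_univ z))
    exact ⟨t.equivFin ⟨k, hk⟩, by simpa [c] using hz⟩
  let P : Fin t.card → Z.Opens := fun a =>
    ⟨(O (c a) : Set Z) \ ⋃ b : {b // b < a}, (O (c b.1) : Set Z),
      (O (c a)).2.sdiff (isClosed_iUnion_of_finite fun b => hOcl _)⟩
  have hP : ⨆ a, (P a).ι.opensRange = ⊤ := eq_top_iff.2 fun z _ => by
    obtain ⟨a, ha, hmin⟩ := (Finset.univ.filter fun a => z ∈ O (c a)).exists_minimal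
      ⟨(hc z).choose, by simpa using (hc z).choose_spec⟩
    refine Opens.mem_iSup.2 ⟨a, ?_⟩
    rw [Scheme.Opens.opensRange_ι]
    refine ⟨by simpa using ha, fun h => ?_⟩
    obtain ⟨b, hb⟩ := Set.mem_iUnion.1 h
    exact absurd (hmin (by simpa using hb) b.2.le) (not_le.2 b.2)
  have hPd : Pairwise (Function.onFun Disjoint fun a => (P a).ι.opensRange) := fun a b hab => by
    simp only [Function.onFun, Scheme.Opens.opensRange_ι]
    rw [disjoint_iff]
    ext1
    refine Set.eq_empty_iff_forall_notMem.2 fun z ⟨hza, hzb⟩ => ?_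
    rcases lt_or_gt_of_ne hab with h | h
    · exact hzb.2 (Set.mem_iUnion.2 ⟨⟨a, h⟩, hza.1⟩)
    · exact hza.2 (Set.mem_iUnion.2 ⟨⟨b, h⟩, hzb.1⟩)
  obtain ⟨hcolim⟩ := nonempty_isColimit_cofanMk_of (fun a => (P a).ι) hP hPd
  have := hQ
  have hsub : ∀ a, Set.range (P a).ι ⊆ Set.range ((Q (c a)).ι ≫ p) := fun a => by
    rw [Scheme.Opens.range_ι]
    exact fun z hz => hz.1
  let d : ∀ a, (P a).toScheme ⟶ W := fun a =>
    IsOpenImmersion.lift ((Q (c a)).ι ≫ p) (P a).ι (hsub a) ≫ (Q (c a)).ι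
  refine ⟨Cofan.IsColimit.desc hcolim d, Cofan.IsColimit.hom_ext hcolim _ _ fun a => ?_⟩
  rw [← Category.assoc, Cofan.IsColimit.fac, Category.assoc, IsOpenImmersion.lift_fac]
  exact (Category.comp_id _).symm

/-- étale neighbourhoods have Zariski local sections -/
theorem exists_local_section [IsAffine X] [IsIntegral X] (hN : ∀ x : X, IsIntegrallyClosed (X.presheaf.stalk x))
    [IsSepClosed X.functionField] (i : Z ⟶ X) [IsClosedImmersion i] (p : W ⟶ Z)
    [AlgebraicGeometry.Etale p] (v : W) :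
    ∃ (O : Z.Opens) (s : O.toScheme ⟶ W), p v ∈ O ∧ s ≫ p = O.ι := by
  obtain ⟨V, hV, hvV, -⟩ := exists_isAffineOpen_mem_and_subset (X := W) (x := v) (U := ⊤) trivial
  have : IsAffine V.toScheme := hV
  obtain ⟨ι, Q, hcov, -, hQ⟩ := exists_pieces hN i (V.ι ≫ p)
  obtain ⟨k, hk⟩ := Opens.mem_iSup.1 (hcov.ge (trivial : (⟨v, hvV⟩ : V.toScheme) ∈ (⊤ : V.toScheme.Opens)))
  have := hQ k
  refine ⟨((Q k).ι ≫ V.ι ≫ p).opensRange, ((Q k).ι ≫ V.ι ≫ p).isoOpensRange.inv ≫ (Q k).ι ≫ V.ι,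
    ⟨⟨⟨v, hvV⟩, hk⟩, rfl⟩, ?_⟩
  simp only [Category.assoc, Scheme.Hom.isoOpensRange_inv_comp]

end Groth.Agent.Unr55.GabberEt
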