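import Groth.Agent.Unr55.Et.MilnorEtale
import Groth.Agent.Unr55.GabberPieces
import Mathlib.RingTheory.Etale.Pi
import Mathlib.RingTheory.Idempotents
import Mathlib.RingTheory.Finiteness.ModuleFinitePresentation
import Mathlib.LinearAlgebra.TensorProduct.Pi
import Mathlib.Data.ZMod.Basic
import Mathlib.Topology.LocallyConstant.Algebra

/-!
Cyclic covers glued from two closed pieces, and the splitting of clopen subsets they give.
-/

set_option autoImplicit false
universe u

open TensorProduct CategoryTheory AlgebraicGeometry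

namespace Groth.Agent.Unr55.GabberEt

section Ring

variable {R R₁ R₂ R₁₂ : Type u} [CommRing R] [CommRing R₁] [CommRing R₂] [CommRing R₁₂]
  [Algebra R R₁] [Algebra R R₂] [Algebra R₁ R₁₂] [Algebra R₂ R₁₂] [Algebra R R₁₂]
  [IsScalarTower R R₁ R₁₂] [IsScalarTower R R₂ R₁₂]

/-- the twist by an idempotent -/
noncomputable def twist {e : R₁₂} (he : IsIdempotentElem e) (n : ℕ) :
    (ZMod n → R₁₂) ≃ₐ[R₁₂] (ZMod n → R₁₂) where
  toFun v k := (1 - e) * v k + e * v (k + 1)
  invFun v k := (1 - e) * v k + e * v (k - 1)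
  left_inv v := funext fun k => by
    simp only [sub_add_cancel, add_sub_cancel_right]
    linear_combination (v k * 2 - v (k + 1) - v (k - 1)) * he.eq
  right_inv v := funext fun k => by
    simp only [sub_add_cancel, add_sub_cancel_right]
    linear_combination (v k * 2 - v (k + 1) - v (k - 1)) * he.eq
  map_mul' v w := funext fun k => by
    simp only [Pi.mul_apply]
    linear_combination
      (v k * w (k + 1) + v (k + 1) * w k - v k * w k - v (k + 1) * w (k + 1)) * he.eq
  map_add' v w := funext fun k => by simp only [Pi.add_apply]; ring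
  commutes' c := funext fun k => by
    show (1 - e) * c + e * c = c
    ring

theorem subsingleton_of_two (h : EtMil.IsFibreSquare R R₁ R₂ R₁₂) (hs₁ : Function.Surjective (algebraMap R R₁))
    (hs₂ : Function.Surjective (algebraMap R R₂)) (M : Type u) [AddCommGroup M] [Module R M]
    [Subsingleton (R₁ ⊗[R] M)] [Subsingleton (R₂ ⊗[R] M)] : Subsingleton M := by
  refine subsingleton_of_forall_eq 0 fun m => ?_
  have key : ∀ (T : Type u) [CommRing T] [Algebra R T], Function.Surjective (algebraMap R T) →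
      Subsingleton (T ⊗[R] M) → ∀ m : M, m ∈ RingHom.ker (algebraMap R T) • (⊤ : Submodule R M) := by
    intro T _ _ hs _ m
    refine (FlatCrit65.one_tmul_eq_zero_iff (RingHom.ker (algebraMap R T)) m).1 ?_
    let e : (R ⧸ RingHom.ker (algebraMap R T)) ≃ₐ[R] T :=
      Ideal.quotientKerAlgEquivOfSurjective (f := Algebra.ofId R T) hs
    exact ((LinearEquiv.rTensor M e.toLinearEquiv).toEquiv.subsingleton).elim _ _
  have h1 : m ∈ (RingHom.ker (algebraMap R R₁) * RingHom.ker (algebraMap R R₂)) • (⊤ : Submodule R M) := by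
    rw [← smul_eq_mul, Submodule.smul_assoc]
    refine Submodule.smul_induction_on (key R₁ hs₁ inferInstance m) (fun r hr x _ => ?_)
      fun a b => Submodule.add_mem _
    exact Submodule.smul_mem_smul hr (key R₂ hs₂ inferInstance x)
  have h0 : RingHom.ker (algebraMap R R₁) * RingHom.ker (algebraMap R R₂) = ⊥ := by
    refine le_bot_iff.1 (Ideal.mul_le_inf.trans fun r hr => Ideal.mem_bot.2 ?_)
    exact EtAlg23.eq_of_map_eq h (by rw [hr.1, map_zero]) (by rw [hr.2, map_zero])
  rw [h0, Submodule.bot_smul] at h1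
  exact h1

set_option maxHeartbeats 1600000 in
/-- A retraction of the glued cyclic cover gives shifted systems of idempotents. -/
theorem exists_shifted_idempotents (h : EtMil.IsFibreSquare R R₁ R₂ R₁₂)
    (hs₁ : Function.Surjective (algebraMap R R₁)) (hs₂ : Function.Surjective (algebraMap R R₂))
    (hret : ∀ (S : Type u) [CommRing S] [Algebra R S] [Module.Finite R S] [Algebra.Etale R S],
      Function.Surjective (PrimeSpectrum.comap (algebraMap R S)) → Nonempty (S →ₐ[R] R))
    {e : R₁₂} (he : IsIdempotentElem e) (n : ℕ) [NeZero n] :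
    ∃ (a : ZMod n → R₁) (b : ZMod n → R₂), CompleteOrthogonalIdempotents a ∧
      CompleteOrthogonalIdempotents b ∧ ∀ k, algebraMap R₁ R₁₂ (a k) =
        (1 - e) * algebraMap R₂ R₁₂ (b k) + e * algebraMap R₂ R₁₂ (b (k - 1)) := by
  classical
  have hw := EtAlg23.isWeakSquare_of_isFibreSquare h
  let T := twist he n
  let p₁ := TensorProduct.piScalarRight R₁ R₁₂ R₁₂ (ZMod n)
  let p₂ := TensorProduct.piScalarRight R₂ R₁₂ R₁₂ (ZMod n)
  let φ : R₁₂ ⊗[R₁] (ZMod n → R₁) ≃ₗ[R₁₂] R₁₂ ⊗[R₂] (ZMod n → R₂) :=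
    (p₁.trans T.toLinearEquiv).trans p₂.symm
  have hp₁ : ∀ v, p₁ ((1 : R₁₂) ⊗ₜ v) = fun k => algebraMap R₁ R₁₂ (v k) := fun v => funext fun k => by
    simp [p₁, TensorProduct.piScalarRight_apply, Algebra.smul_def]
  have hp₂ : ∀ v, p₂ ((1 : R₁₂) ⊗ₜ v) = fun k => algebraMap R₂ R₁₂ (v k) := fun v => funext fun k => by
    simp [p₂, TensorProduct.piScalarRight_apply, Algebra.smul_def]
  let G := EtMil.glue R φ
  have hmem : ∀ x : (ZMod n → R₁) × (ZMod n → R₂),
      x ∈ G ↔ T (fun k => algebraMap R₁ R₁₂ (x.1 k)) = fun k => algebraMap R₂ R₁₂ (x.2 k) := fun x => by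
    rw [← hp₁, ← hp₂]
    show φ _ = _ ↔ _
    rw [LinearEquiv.trans_apply, LinearEquiv.symm_apply_eq]
    exact Iff.rfl
  let S : Subalgebra R ((ZMod n → R₁) × (ZMod n → R₂)) := G.toSubalgebra
    ((hmem 1).2 (by
      simp only [Prod.fst_one, Prod.snd_one, Pi.one_apply, map_one]
      exact map_one T))
    (fun x y hx hy => (hmem (x * y)).2 (by
      simp only [Prod.fst_mul, Prod.snd_mul, Pi.mul_apply, map_mul]
      show T ((fun k => algebraMap R₁ R₁₂ (x.1 k)) * fun k => algebraMap R₁ R₁₂ (y.1 k)) = _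
      rw [map_mul, (hmem x).1 hx, (hmem y).1 hy]
      rfl))
  let eS : G ≃ₗ[R] S :=
    { toFun := fun x => ⟨x.1, x.2⟩
      invFun := fun x => ⟨x.1, x.2⟩
      map_add' := fun _ _ => rfl
      map_smul' := fun _ _ => rfl
      left_inv := fun _ => rfl
      right_inv := fun _ => rfl }
  have hproj : Module.Projective R S := by
    have : Module.Projective R G := EtAlg23.projective_glue h
    exact Module.Projective.of_equiv eS
  have : Module.Finite R S := by
    have : Module.Finite R G := EtAlg23.finite_glue hw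
    exact Module.Finite.equiv eS
  let q₁ : S →ₐ[R] (ZMod n → R₁) := (AlgHom.fst R _ _).comp S.val
  let q₂ : S →ₐ[R] (ZMod n → R₂) := (AlgHom.snd R _ _).comp S.val
  let f₁ : R₁ ⊗[R] S →ₐ[R₁] (ZMod n → R₁) := Algebra.TensorProduct.lift (Algebra.ofId _ _) q₁
    fun _ _ => Commute.all _ _
  let f₂ : R₂ ⊗[R] S →ₐ[R₂] (ZMod n → R₂) := Algebra.TensorProduct.lift (Algebra.ofId _ _) q₂
    fun _ _ => Commute.all _ _
  have hf₁ : Function.Bijective f₁ := by
    have e₁ : ∀ z, f₁ z = LinearMap.liftBaseChange R₁ (EtMil.glueFst R φ)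
        (eS.symm.toLinearMap.lTensor R₁ z) := by
      intro z
      induction z using TensorProduct.induction_on with
      | zero => simp
      | tmul a s =>
        rw [Algebra.TensorProduct.lift_tmul, LinearMap.lTensor_tmul, LinearMap.liftBaseChange_tmul, Algebra.smul_def]
        rfl
      | add a b ha hb => simp only [map_add, ha, hb]
    rw [show (f₁ : _ → _) = LinearMap.liftBaseChange R₁ (EtMil.glueFst R φ) ∘
        (LinearEquiv.lTensor R₁ eS.symm) from funext e₁]
    exact (EtAlg23.liftFst_bijective hw).comp (LinearEquiv.bijective _)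
  have hf₂ : Function.Bijective f₂ := by
    have e₂ : ∀ z, f₂ z = LinearMap.liftBaseChange R₂ (EtMil.glueSnd R φ)
        (eS.symm.toLinearMap.lTensor R₂ z) := by
      intro z
      induction z using TensorProduct.induction_on with
      | zero => simp
      | tmul a s =>
        rw [Algebra.TensorProduct.lift_tmul, LinearMap.lTensor_tmul, LinearMap.liftBaseChange_tmul, Algebra.smul_def]
        rfl
      | add a b ha hb => simp only [map_add, ha, hb]
    rw [show (f₂ : _ → _) = LinearMap.liftBaseChange R₂ (EtMil.glueSnd R φ) ∘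
        (LinearEquiv.lTensor R₂ eS.symm) from funext e₂]
    exact (EtAlg23.liftSnd_bijective hw).comp (LinearEquiv.bijective _)
  let E₁ := AlgEquiv.ofBijective f₁ hf₁
  let E₂ := AlgEquiv.ofBijective f₂ hf₂
  have : Algebra.Etale R S := by
    have : Module.FinitePresentation R S := Module.finitePresentation_of_projective R S
    have : Algebra.FinitePresentation R S := Algebra.FinitePresentation.of_finitePresentation R S
    have := MilnorEt.formallyUnramified_tensor_of_algEquiv (ZMod n → R₁) E₁
    have := MilnorEt.formallyUnramified_tensor_of_algEquiv (ZMod n → R₂) E₂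
    have : Algebra.FormallyUnramified R S := ⟨subsingleton_of_two h hs₁ hs₂ _⟩
    exact Algebra.Etale.of_formallyUnramified_of_flat
  have hsurj : Function.Surjective (PrimeSpectrum.comap (algebraMap R S)) := by
    intro P
    have key : ∀ (U : Type u) [CommRing U] [Algebra R U], Function.Surjective (algebraMap R U) →
        RingHom.ker (algebraMap R U) ≤ P.asIdeal → ∀ (q : S →ₐ[R] U),
        ∃ Q, PrimeSpectrum.comap (algebraMap R S) Q = P := by
      intro U _ _ hs hle q
      obtain ⟨Q, hQ⟩ : P ∈ Set.range (PrimeSpectrum.comap (algebraMap R U)) := by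
        rw [range_comap_of_surjective _ _ hs]
        exact hle
      refine ⟨PrimeSpectrum.comap q.toRingHom Q, ?_⟩
      rw [← PrimeSpectrum.comap_comp_apply, q.toRingHom_eq_coe, q.comp_algebraMap, hQ]
    have h0 : RingHom.ker (algebraMap R R₁) * RingHom.ker (algebraMap R R₂) ≤ P.asIdeal :=
      Ideal.mul_le_inf.trans fun r hr => by
        rw [show r = 0 from EtAlg23.eq_of_map_eq h (by rw [hr.1, map_zero]) (by rw [hr.2, map_zero])]
        exact P.asIdeal.zero_mem
    rcases P.isPrime.mul_le.1 h0 with hle | hle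
    · exact key R₁ hs₁ hle ((Pi.evalAlgHom R (fun _ => R₁) 0).comp q₁)
    · exact key R₂ hs₂ hle ((Pi.evalAlgHom R (fun _ => R₂) 0).comp q₂)
  obtain ⟨σ⟩ := hret S hsurj
  let χ₁ : (ZMod n → R₁) →ₐ[R₁] R₁ := (Algebra.TensorProduct.lift (AlgHom.id R₁ R₁)
    ((Algebra.ofId R R₁).comp σ) fun _ _ => Commute.all _ _).comp E₁.symm.toAlgHom
  let χ₂ : (ZMod n → R₂) →ₐ[R₂] R₂ := (Algebra.TensorProduct.lift (AlgHom.id R₂ R₂)
    ((Algebra.ofId R R₂).comp σ) fun _ _ => Commute.all _ _).comp E₂.symm.toAlgHom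
  have hχ₁ : ∀ s, χ₁ (q₁ s) = algebraMap R R₁ (σ s) := fun s => by
    have : E₁.symm (q₁ s) = (1 : R₁) ⊗ₜ s := by
      rw [AlgEquiv.symm_apply_eq]
      show q₁ s = f₁ (1 ⊗ₜ s)
      rw [Algebra.TensorProduct.lift_tmul, map_one, one_mul]
    refine (congrArg (Algebra.TensorProduct.lift (AlgHom.id R₁ R₁) ((Algebra.ofId R R₁).comp σ)
      fun _ _ => Commute.all _ _) this).trans ?_
    rw [Algebra.TensorProduct.lift_tmul, map_one, one_mul]
    rfl
  have hχ₂ : ∀ s, χ₂ (q₂ s) = algebraMap R R₂ (σ s) := fun s => by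
    have : E₂.symm (q₂ s) = (1 : R₂) ⊗ₜ s := by
      rw [AlgEquiv.symm_apply_eq]
      show q₂ s = f₂ (1 ⊗ₜ s)
      rw [Algebra.TensorProduct.lift_tmul, map_one, one_mul]
    refine (congrArg (Algebra.TensorProduct.lift (AlgHom.id R₂ R₂) ((Algebra.ofId R R₂).comp σ)
      fun _ _ => Commute.all _ _) this).trans ?_
    rw [Algebra.TensorProduct.lift_tmul, map_one, one_mul]
    rfl
  refine ⟨fun k => χ₁ (Pi.single k 1), fun k => χ₂ (Pi.single k 1),
    (CompleteOrthogonalIdempotents.single fun _ : ZMod n => R₁).map χ₁.toRingHom,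
    (CompleteOrthogonalIdempotents.single fun _ : ZMod n => R₂).map χ₂.toRingHom, fun k => ?_⟩
  let u : ZMod n → R₁₂ := T fun j => algebraMap R₁ R₁₂ ((Pi.single k (1 : R₁) : ZMod n → R₁) j)
  choose w hw' using fun j => h.1 (u j)
  let s : S := ⟨(Pi.single k 1, w), (hmem (Pi.single k 1, w)).2 (funext hw').symm⟩
  have e₁ : χ₁ (Pi.single k 1) = algebraMap R R₁ (σ s) := hχ₁ s
  have e₂ : χ₂ w = algebraMap R R₂ (σ s) := hχ₂ s
  have hsum : χ₂ w = ∑ j, w j * χ₂ (Pi.single j 1) := by
    conv_lhs => rw [pi_eq_sum_univ' w]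
    rw [map_sum]
    exact Finset.sum_congr rfl fun j _ => by rw [map_smul, smul_eq_mul]
  beta_reduce
  rw [e₁, ← IsScalarTower.algebraMap_apply, IsScalarTower.algebraMap_apply R R₂ R₁₂, ← e₂, hsum, map_sum]
  have hu : ∀ j, u j = (1 - e) * (if j = k then 1 else 0) + e * (if j = k - 1 then 1 else 0) := fun j => by
    show (1 - e) * algebraMap R₁ R₁₂ _ + e * algebraMap R₁ R₁₂ _ = _
    simp only [Pi.single_apply, apply_ite (algebraMap R₁ R₁₂), map_one, map_zero, eq_sub_iff_add_eq]
  simp only [map_mul, hw', hu, add_mul, Finset.sum_add_distrib, mul_assoc, ← Finset.mul_sum, ite_mul,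
    one_mul, zero_mul, Finset.sum_ite_eq', Finset.mem_univ, if_true]

end Ring

section Spec

variable {R : Type u} [CommRing R] {ι : Type*} [Fintype ι]

theorem exists_index_notMem {a : ι → R} (ha : CompleteOrthogonalIdempotents a) (P : PrimeSpectrum R) :
    ∃ k, a k ∉ P.asIdeal := by
  by_contra! hall
  exact P.isPrime.ne_top ((Ideal.eq_top_iff_one _).2 (ha.complete ▸ Ideal.sum_mem _ fun k _ => hall k))

theorem index_unique {a : ι → R} (ha : CompleteOrthogonalIdempotents a) (P : PrimeSpectrum R) {k l : ι}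
    (hk : a k ∉ P.asIdeal) (hl : a l ∉ P.asIdeal) : k = l := by
  by_contra hne
  have h0 : a k * a l = 0 := ha.ortho hne
  exact (P.isPrime.mem_or_mem (h0 ▸ P.asIdeal.zero_mem)).elim hk hl

/-- the locally constant function of a complete system of orthogonal idempotents -/
noncomputable def indexFun {a : ι → R} (ha : CompleteOrthogonalIdempotents a) :
    LocallyConstant (PrimeSpectrum R) ι where
  toFun P := (exists_index_notMem ha P).choose
  isLocallyConstant := by
    rw [IsLocallyConstant.iff_exists_open]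
    intro P
    exact ⟨PrimeSpectrum.basicOpen (a (exists_index_notMem ha P).choose), PrimeSpectrum.isOpen_basicOpen,
      (exists_index_notMem ha P).choose_spec,
      fun Q hQ => index_unique ha Q (exists_index_notMem ha Q).choose_spec hQ⟩

theorem notMem_indexFun {a : ι → R} (ha : CompleteOrthogonalIdempotents a) (P : PrimeSpectrum R) :
    a (indexFun ha P) ∉ P.asIdeal :=
  (exists_index_notMem ha P).choose_spec

end Spec

end Groth.Agent.Unr55.GabberEt
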