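import Groth.Agent.Unr55.GabberTop
import Groth.Agent.Unr55.GabberSplit
import Groth.Agent.Unr55.Et.GaZariski
import Groth.Agent.Unr55.Et.LocConstSheaf
import Groth.Agent.TopCoh49.Top

/-!
Gabber: no higher cohomology with finite constant coefficients on closed subschemes of affine normal
schemes with separably closed function field.
-/

set_option autoImplicit false
set_option backward.isDefEq.respectTransparency.types false
universe u

open CategoryTheory CategoryTheory.Limits AlgebraicGeometry Opposite TopologicalSpace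

namespace Groth.Agent.Unr55.GabberEt

/-- retractions of finite étale surjective algebras -/
theorem exists_retraction {X : Scheme.{u}} [IsAffine X] [IsIntegral X]
    (hN : ∀ x : X, IsIntegrallyClosed (X.presheaf.stalk x)) [IsSepClosed X.functionField]
    (I : Ideal Γ(X, ⊤)) (S : Type u) [CommRing S] [Algebra (Γ(X, ⊤) ⧸ I) S] [Module.Finite (Γ(X, ⊤) ⧸ I) S]
    [Algebra.Etale (Γ(X, ⊤) ⧸ I) S]
    (hs : Function.Surjective (PrimeSpectrum.comap (algebraMap (Γ(X, ⊤) ⧸ I) S))) :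
    Nonempty (S →ₐ[Γ(X, ⊤) ⧸ I] Γ(X, ⊤) ⧸ I) := by
  let R := Γ(X, ⊤) ⧸ I
  let i : Spec (CommRingCat.of R) ⟶ X :=
    Spec.map (CommRingCat.ofHom (Ideal.Quotient.mk I)) ≫ X.isoSpec.inv
  have : IsClosedImmersion (Spec.map (CommRingCat.ofHom (Ideal.Quotient.mk I))) :=
    IsClosedImmersion.spec_of_surjective _ Ideal.Quotient.mk_surjective
  let p : Spec (CommRingCat.of S) ⟶ Spec (CommRingCat.of R) :=
    Spec.map (CommRingCat.ofHom (algebraMap R S))
  have : AlgebraicGeometry.Etale p := (HasRingHomProperty.Spec_iff (P := @AlgebraicGeometry.Etale)).2 (by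
    show (algebraMap R S).Etale
    exact (RingHom.etale_algebraMap).2 inferInstance)
  have : IsFinite p := (IsFinite.SpecMap_iff _).2 (by
    show (algebraMap R S).Finite
    exact RingHom.finite_algebraMap.2 inferInstance)
  have : Surjective p := ⟨hs⟩
  obtain ⟨s, hs'⟩ := exists_section hN i p
  obtain ⟨σ, rfl⟩ := Spec.map_surjective s
  have h : CommRingCat.ofHom (algebraMap R S) ≫ σ = 𝟙 _ :=
    Spec.map_injective (by rw [Spec.map_comp, Spec.map_id]; exact hs')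
  exact ⟨{ σ.hom with commutes' := fun r => ConcreteCategory.congr_hom h r }⟩

theorem exists_quotHomeo {A : Type u} [CommRing A] (I : Ideal A) {W : Set (PrimeSpectrum A)}
    (h : PrimeSpectrum.zeroLocus (I : Set A) = W) :
    ∃ η : W ≃ₜ PrimeSpectrum (A ⧸ I), ∀ x, PrimeSpectrum.comap (Ideal.Quotient.mk I) (η x) = x.1 := by
  have hs : Function.Surjective (Ideal.Quotient.mk I) := Ideal.Quotient.mk_surjective
  have he := PrimeSpectrum.isClosedEmbedding_comap_of_surjective (A ⧸ I) (Ideal.Quotient.mk I) hs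
  have hr : Set.range (PrimeSpectrum.comap (Ideal.Quotient.mk I)) = W := by
    rw [range_comap_of_surjective _ _ hs, Ideal.mk_ker, h]
  let e := he.isEmbedding.toHomeomorph.trans (Homeomorph.setCongr hr)
  refine ⟨e.symm, fun x => ?_⟩
  exact congrArg Subtype.val (e.apply_symm_apply x)

set_option maxHeartbeats 1600000 in
/-- splitting of clopen subsets of intersections -/
theorem exists_split {A : Type u} [CommRing A]
    (hret : ∀ (I : Ideal A) (S : Type u) [CommRing S] [Algebra (A ⧸ I) S] [Module.Finite (A ⧸ I) S]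
      [Algebra.Etale (A ⧸ I) S], Function.Surjective (PrimeSpectrum.comap (algebraMap (A ⧸ I) S)) →
      Nonempty (S →ₐ[A ⧸ I] A ⧸ I))
    (n : ℕ) [NeZero n] (W₁ W₂ : Set (PrimeSpectrum A)) (hW₁ : IsClosed W₁) (hW₂ : IsClosed W₂)
    (C : Set ↥(W₁ ∩ W₂)) (hC : IsClopen C) :
    ∃ (k₁ : LocallyConstant ↥W₁ (ZMod n)) (k₂ : LocallyConstant ↥W₂ (ZMod n)),
      ∀ (x : PrimeSpectrum A) (hx : x ∈ W₁ ∩ W₂), (⟨x, hx⟩ ∈ C → k₁ ⟨x, hx.1⟩ - k₂ ⟨x, hx.2⟩ = 1) ∧
        (⟨x, hx⟩ ∉ C → k₁ ⟨x, hx.1⟩ - k₂ ⟨x, hx.2⟩ = 0) := by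
  let I₁ := PrimeSpectrum.vanishingIdeal W₁
  let I₂ := PrimeSpectrum.vanishingIdeal W₂
  have hz₁ : PrimeSpectrum.zeroLocus (I₁ : Set A) = W₁ := by
    rw [PrimeSpectrum.zeroLocus_vanishingIdeal_eq_closure, hW₁.closure_eq]
  have hz₂ : PrimeSpectrum.zeroLocus (I₂ : Set A) = W₂ := by
    rw [PrimeSpectrum.zeroLocus_vanishingIdeal_eq_closure, hW₂.closure_eq]
  have hz₁₂ : PrimeSpectrum.zeroLocus ((I₁ ⊔ I₂ : Ideal A) : Set A) = W₁ ∩ W₂ := by
    rw [PrimeSpectrum.zeroLocus_sup, hz₁, hz₂]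
  let R := A ⧸ (I₁ ⊓ I₂)
  let R₁₂ := A ⧸ (I₁ ⊔ I₂)
  let : Algebra R (A ⧸ I₁) := (Ideal.Quotient.factor (inf_le_left : I₁ ⊓ I₂ ≤ I₁)).toAlgebra
  let : Algebra R (A ⧸ I₂) := (Ideal.Quotient.factor (inf_le_right : I₁ ⊓ I₂ ≤ I₂)).toAlgebra
  let : Algebra (A ⧸ I₁) R₁₂ := (Ideal.Quotient.factor (le_sup_left : I₁ ≤ I₁ ⊔ I₂)).toAlgebra
  let : Algebra (A ⧸ I₂) R₁₂ := (Ideal.Quotient.factor (le_sup_right : I₂ ≤ I₁ ⊔ I₂)).toAlgebra
  let : Algebra R R₁₂ := (Ideal.Quotient.factor (inf_le_left.trans le_sup_left : I₁ ⊓ I₂ ≤ I₁ ⊔ I₂)).toAlgebra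
  have : IsScalarTower R (A ⧸ I₁) R₁₂ := IsScalarTower.of_algebraMap_eq fun r => by
    obtain ⟨a, rfl⟩ := Ideal.Quotient.mk_surjective r; rfl
  have : IsScalarTower R (A ⧸ I₂) R₁₂ := IsScalarTower.of_algebraMap_eq fun r => by
    obtain ⟨a, rfl⟩ := Ideal.Quotient.mk_surjective r; rfl
  have hsq : EtMil.IsFibreSquare R (A ⧸ I₁) (A ⧸ I₂) R₁₂ := by
    refine ⟨Ideal.Quotient.factor_surjective _, fun b c hbc => ?_⟩
    obtain ⟨x, rfl⟩ := Ideal.Quotient.mk_surjective b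
    obtain ⟨y, rfl⟩ := Ideal.Quotient.mk_surjective c
    obtain ⟨i₁, hi₁, i₂, hi₂, hxy⟩ := Submodule.mem_sup.1 (Ideal.Quotient.eq.1 hbc)
    refine ⟨Ideal.Quotient.mk _ (x - i₁), ⟨?_, ?_⟩, ?_⟩
    · show Ideal.Quotient.mk I₁ (x - i₁) = Ideal.Quotient.mk I₁ x
      rw [map_sub, Ideal.Quotient.eq_zero_iff_mem.2 hi₁, sub_zero]
    · show Ideal.Quotient.mk I₂ (x - i₁) = Ideal.Quotient.mk I₂ y
      rw [Ideal.Quotient.eq, show x - i₁ - y = i₂ by linear_combination hxy.symm]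
      exact hi₂
    · intro z hz
      obtain ⟨z, rfl⟩ := Ideal.Quotient.mk_surjective z
      have h1 : z - x ∈ I₁ := Ideal.Quotient.eq.1 hz.1
      have h2 : z - y ∈ I₂ := Ideal.Quotient.eq.1 hz.2
      refine Ideal.Quotient.eq.2 ⟨?_, ?_⟩
      · rw [show z - (x - i₁) = z - x + i₁ by ring]
        exact I₁.add_mem h1 hi₁
      · rw [show z - (x - i₁) = z - y - i₂ by linear_combination hxy]
        exact I₂.sub_mem h2 hi₂
  obtain ⟨η₁, hη₁⟩ := exists_quotHomeo I₁ hz₁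
  obtain ⟨η₂, hη₂⟩ := exists_quotHomeo I₂ hz₂
  obtain ⟨η, hη⟩ := exists_quotHomeo (I₁ ⊔ I₂) hz₁₂
  obtain ⟨e, he, hCe⟩ := PrimeSpectrum.isClopen_iff.1 (hC.preimage η.symm.continuous)
  obtain ⟨a, b, ha, hb, hab⟩ := exists_shifted_idempotents (R₁₂ := R₁₂) hsq
    (Ideal.Quotient.factor_surjective _) (Ideal.Quotient.factor_surjective _)
    (fun S _ _ _ _ h => hret _ S h) he n
  refine ⟨(indexFun ha).comap ⟨η₁, η₁.continuous⟩, (indexFun hb).comap ⟨η₂, η₂.continuous⟩, fun x hx => ?_⟩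
  let P := η ⟨x, hx⟩
  have hP₁ : PrimeSpectrum.comap (algebraMap (A ⧸ I₁) R₁₂) P = η₁ ⟨x, hx.1⟩ := by
    refine PrimeSpectrum.comap_injective_of_surjective _ Ideal.Quotient.mk_surjective ?_
    rw [hη₁, ← PrimeSpectrum.comap_comp_apply]
    exact hη ⟨x, hx⟩
  have hP₂ : PrimeSpectrum.comap (algebraMap (A ⧸ I₂) R₁₂) P = η₂ ⟨x, hx.2⟩ := by
    refine PrimeSpectrum.comap_injective_of_surjective _ Ideal.Quotient.mk_surjective ?_
    rw [hη₂, ← PrimeSpectrum.comap_comp_apply]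
    exact hη ⟨x, hx⟩
  set k := indexFun ha (η₁ ⟨x, hx.1⟩) with hk
  set l := indexFun hb (η₂ ⟨x, hx.2⟩) with hl
  have hak : algebraMap _ R₁₂ (a k) ∉ P.asIdeal := by
    have := notMem_indexFun ha (η₁ ⟨x, hx.1⟩)
    rwa [← hk, ← hP₁] at this
  have hbl : ∀ j, algebraMap _ R₁₂ (b j) ∉ P.asIdeal → l = j := fun j hj =>
    index_unique hb (η₂ ⟨x, hx.2⟩) (notMem_indexFun hb _) (by rw [← hP₂]; exact hj)
  have heC : e ∉ P.asIdeal ↔ ⟨x, hx⟩ ∈ C := by
    have := (Set.ext_iff.1 hCe P)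
    rw [Set.mem_preimage, η.symm_apply_apply] at this
    exact this.symm
  have hmul : e * (1 - e) ∈ P.asIdeal := by
    rw [mul_sub, mul_one, he.eq, sub_self]; exact P.asIdeal.zero_mem
  show (_ → k - l = 1) ∧ (_ → k - l = 0)
  refine ⟨fun h => ?_, fun h => ?_⟩
  · have h1 : 1 - e ∈ P.asIdeal := (P.isPrime.mem_or_mem hmul).resolve_left (heC.2 h)
    have : l = k - 1 := hbl _ fun hm => hak (by
      rw [hab k]; exact add_mem (P.asIdeal.mul_mem_right _ h1) (P.asIdeal.mul_mem_left _ hm))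
    rw [this, sub_sub_cancel]
  · have h1 : e ∈ P.asIdeal := not_not.1 (mt heC.1 h)
    have : l = k := hbl _ fun hm => hak (by
      rw [hab k]; exact add_mem (P.asIdeal.mul_mem_left _ hm) (P.asIdeal.mul_mem_right _ h1))
    rw [this, sub_self]

theorem splitLC_closed {X Z : Scheme.{u}} [IsAffine X] [IsIntegral X]
    (hN : ∀ x : X, IsIntegrallyClosed (X.presheaf.stalk x)) [IsSepClosed X.functionField]
    (i : Z ⟶ X) [IsClosedImmersion i] (M : Type u) [AddCommGroup M] [Finite M] :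
    GabberTop.SplitLC M Z.toTopCat := by
  have : IsAffine Z := (IsClosedImmersion.isAffine_surjective_of_isAffine i).1
  have : CompactSpace Z.toTopCat := inferInstanceAs (CompactSpace Z)
  refine GabberTop.splitLC_of_clopen fun n hn W₁ W₂ hW₁ hW₂ C hC => ?_
  have : NeZero n := ⟨hn.ne'⟩
  let j : Z → PrimeSpectrum Γ(X, ⊤) := fun z => X.isoSpec.hom (i z)
  have hj : Topology.IsClosedEmbedding j :=
    X.isoSpec.hom.homeomorph.isClosedEmbedding.comp i.isClosedEmbedding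
  let ρ : ↥(W₁ ∩ W₂) → ↥(j '' W₁ ∩ j '' W₂) := fun x => ⟨j x.1, ⟨x.1, x.2.1, rfl⟩, ⟨x.1, x.2.2, rfl⟩⟩
  have hρb : Function.Bijective ρ := by
    refine ⟨fun a b h => Subtype.ext (hj.injective (congrArg Subtype.val h)), fun ⟨y, hy₁, hy₂⟩ => ?_⟩
    obtain ⟨x, hx, rfl⟩ := hy₁
    obtain ⟨x', hx', hxx'⟩ := hy₂
    exact ⟨⟨x, hx, hj.injective hxx' ▸ hx'⟩, rfl⟩
  have hρc : IsClosedMap ρ := fun K hK => by
    refine ⟨(j '' (Subtype.val '' K))ᶜ,
      (hj.isClosedMap _ ((hW₁.inter hW₂).isClosedEmbedding_subtypeVal.isClosedMap _ hK)).isOpen_compl, ?_⟩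
    ext y
    simp only [Set.mem_preimage, Set.mem_compl_iff, not_iff_not]
    refine ⟨fun ⟨_, ⟨x, hx, rfl⟩, h⟩ => ⟨x, hx, Subtype.ext h⟩, fun ⟨x, hx, h⟩ => ⟨x.1, ⟨x, hx, rfl⟩, congrArg Subtype.val h⟩⟩
  have hC' : IsClopen (ρ '' C) :=
    ⟨hρc _ hC.1, by
      rw [← isClosed_compl_iff, ← Set.image_compl_eq hρb]
      exact hρc _ hC.compl.1⟩
  obtain ⟨k₁, k₂, hk⟩ := exists_split (fun I S _ _ _ _ h => exists_retraction hN I S h) n
    (j '' W₁) (j '' W₂) (hj.isClosedMap _ hW₁) (hj.isClosedMap _ hW₂) (ρ '' C) hC'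
  let m₁ : C(↥W₁, ↥(j '' W₁)) :=
    ⟨fun x => ⟨j x.1, x.1, x.2, rfl⟩, (hj.continuous.comp continuous_subtype_val).subtype_mk _⟩
  let m₂ : C(↥W₂, ↥(j '' W₂)) :=
    ⟨fun x => ⟨j x.1, x.1, x.2, rfl⟩, (hj.continuous.comp continuous_subtype_val).subtype_mk _⟩
  refine ⟨k₁.comap m₁, k₂.comap m₂, fun x hx => ?_⟩
  obtain ⟨hk1, hk2⟩ := hk (j x) ⟨⟨x, hx.1, rfl⟩, ⟨x, hx.2, rfl⟩⟩
  rw [LocallyConstant.coe_comap, LocallyConstant.coe_comap, Function.comp_apply, Function.comp_apply]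
  refine ⟨fun h => hk1 ⟨⟨x, hx⟩, h, rfl⟩, fun h => hk2 ?_⟩
  rintro ⟨y, hy, e⟩
  have : y = ⟨x, hx⟩ := hρb.1 e
  exact h (this ▸ hy)

section Compare

variable {X Z : Scheme.{u}} [IsAffine X] [IsIntegral X]

theorem shortExact_resZar (hN : ∀ x : X, IsIntegrallyClosed (X.presheaf.stalk x))
    [IsSepClosed X.functionField] (i : Z ⟶ X) [IsClosedImmersion i]
    (S : ShortComplex (EtCoh.Ab Z)) (hS : S.ShortExact) : (S.map (EtZar.resZar Z)).ShortExact := by
  have : Epi S.g := hS.epi_g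
  have hls : Sheaf.IsLocallySurjective S.g :=
    (Sheaf.isLocallySurjective_iff_epi' AddCommGrpCat.{u + 1} S.g).2 ‹_›
  have : Sheaf.IsLocallySurjective (S.map (EtZar.resZar Z)).g := by
    constructor
    intro (U : Z.Opens) s x hx
    obtain ⟨Y, f, y, ⟨t, ht⟩, -, hy⟩ := (EtCore45.mem_et _).1
      (Presheaf.imageSieve_mem Z.smallEtaleTopology S.g.hom (U := op ((EtZar.zarToEt Z).obj U)) s) ⟨x, hx⟩
    have hfw : f.left ≫ U.ι = Y.hom := MorphismProperty.Over.w f
    have : AlgebraicGeometry.Etale Y.hom := Y.prop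
    obtain ⟨O, σ, hO, hσ⟩ := exists_local_section hN i Y.hom y
    have hxO : x ∈ O := by
      have : Y.hom y = x := by
        rw [← hfw, Scheme.Hom.comp_apply, hy]
        rfl
      exact this ▸ hO
    have hOU : O ≤ U := fun z hz => by
      have h1 : (σ ≫ f.left ≫ U.ι) ⟨z, hz⟩ = z := by
        rw [hfw, hσ]; rfl
      rw [← h1, Scheme.Hom.comp_apply, Scheme.Hom.comp_apply]
      exact (f.left (σ ⟨z, hz⟩)).2
    let a : (EtZar.zarToEt Z).obj O ⟶ Y := MorphismProperty.Over.homMk σ hσ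
    have ha : a ≫ f = (EtZar.zarToEt Z).map (homOfLE hOU) := MorphismProperty.Over.Hom.ext
      ((cancel_mono U.ι).1 (by
        show (σ ≫ f.left) ≫ U.ι = Z.homOfLE hOU ≫ U.ι
        rw [Category.assoc, hfw, hσ, Scheme.homOfLE_ι]))
    refine ⟨O, homOfLE hOU, ⟨S.X₂.obj.map a.op t, ?_⟩, hxO⟩
    refine (NatTrans.naturality_apply S.g.hom a.op t).trans ?_
    rw [ht, ← Functor.map_comp_apply, ← op_comp, ha]
    rfl
  exact ZarCmp.shortExact_of_sections _
    (fun V => (CechFl.exists_sections_preimage S hS ((EtZar.zarToEt Z).obj V) 0 (map_zero _)).1)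
    (fun V y hy => (CechFl.exists_sections_preimage S hS ((EtZar.zarToEt Z).obj V) y hy).2)

theorem H_equiv_resZar (hN : ∀ x : X, IsIntegrallyClosed (X.presheaf.stalk x))
    [IsSepClosed X.functionField] (i : Z ⟶ X) [IsClosedImmersion i] (F : EtCoh.Ab Z) (p : ℕ) :
    Nonempty (EtCoh.H Z F p ≃+ EtZar.H ((EtZar.resZar Z).obj F) p) :=
  ExtCmp.compare (EtZar.resZar Z) _ _ (fun _ => True) (fun S hS _ _ => shortExact_resZar hN i S hS)
    (fun _ _ _ _ => trivial)
    (fun I hI n => ZarCmp.subsingleton_H_of_flasque Z _ (@GaZar.isFlasque_resZar Z I hI) n)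
    (fun G => (ExtCmp.homTop (GaZar.zarTopTerminal Z) G).trans
      (ExtCmp.homTop (ZarCmp.topTerminal Z) ((EtZar.resZar Z).obj G)).symm)
    (fun {G G'} g c => (ExtCmp.homTop (ZarCmp.topTerminal Z) ((EtZar.resZar Z).obj G')).injective (by
      refine ((ExtCmp.homTop (ZarCmp.topTerminal Z) ((EtZar.resZar Z).obj G')).apply_symm_apply _).trans ?_
      refine Eq.trans ?_ (ExtCmp.homTop_comp (ZarCmp.topTerminal Z) ((EtZar.resZar Z).map g) _).symm
      refine Eq.trans ?_ (congrArg (((EtZar.resZar Z).map g).hom.app (op ⊤))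
        ((ExtCmp.homTop (ZarCmp.topTerminal Z) ((EtZar.resZar Z).obj G)).apply_symm_apply _)).symm
      rfl))
    p F trivial

end Compare

section Const

variable {Z : Scheme.{u}} (M : AddCommGrpCat.{u + 1})

/-- constant functions -/
noncomputable def constToLC : (Functor.const Z.Etaleᵒᵖ).obj M ⟶ (LC.lc (X := Z) M).obj where
  app W := AddCommGrpCat.ofHom
    (show M →+ LocallyConstant W.unop.left M from LocallyConstant.constAddMonoidHom)
  naturality _ _ _ := rfl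

instance : Presheaf.IsLocallyInjective Z.smallEtaleTopology (constToLC (Z := Z) M) where
  equalizerSieve_mem := by
    intro W m n h
    refine EtSh.mem_topology fun x => ⟨W.unop, 𝟙 _, x, ?_, rfl⟩
    exact congrArg (fun s : LocallyConstant W.unop.left M => s x) h

instance : Presheaf.IsLocallySurjective Z.smallEtaleTopology (constToLC (Z := Z) M) where
  imageSieve_mem := by
    intro W t
    refine EtSh.mem_topology fun x => ?_
    let t' : LocallyConstant W.left M := t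
    let O : W.left.Opens := ⟨t' ⁻¹' {t' x}, t'.isLocallyConstant.isOpen_fiber _⟩
    exact ⟨EtCore45.objOf W O.ι, EtCore45.objOfHom W O.ι, (⟨x, rfl⟩ : O),
      ⟨t' x, LocallyConstant.ext fun (z : O) => z.2.symm⟩, rfl⟩

/-- the constant sheaf is the sheaf of locally constant functions -/
noncomputable def constLCIso :
    (constantSheaf Z.smallEtaleTopology AddCommGrpCat.{u + 1}).obj M ≅ LC.lc (X := Z) M :=
  @asIso _ _ _ _ ((presheafToSheaf Z.smallEtaleTopology AddCommGrpCat.{u + 1}).map (constToLC M))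
      ((Z.smallEtaleTopology.W_iff _).1
        (Z.smallEtaleTopology.W_of_isLocallyBijective (constToLC M))) ≪≫
    (sheafificationIso (LC.lc (X := Z) M)).symm

end Const

/-- the comparison of sections -/
noncomputable def sectionEquiv {Z : Scheme.{u}} (M : Type) [AddCommGroup M] (U : Z.Opens) :
    LocallyConstant U.toScheme (ULift.{u + 1} M) ≃+
      ULift.{u + 1} (LocallyConstant ↥((U : Set Z) ∩ Set.univ) (ULift.{u} M)) where
  toFun s := ULift.up ((s.comap ⟨fun x => (⟨x.1, x.2.1⟩ : U.toScheme),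
    continuous_subtype_val.subtype_mk _⟩).map fun m => ULift.up m.down)
  invFun t := (t.down.comap ⟨fun x => ⟨x.1, x.2, trivial⟩,
    continuous_subtype_val.subtype_mk _⟩).map fun m => ULift.up m.down
  left_inv _ := rfl
  right_inv _ := rfl
  map_add' _ _ := rfl

/-- constant coefficients restricted to the Zariski site -/
noncomputable def resConstIso (Z : Scheme.{u}) (M : Type) [AddCommGroup M] :
    (EtZar.resZar Z).obj (LC.lc (X := Z) (AddCommGrpCat.of (ULift.{u + 1} M))) ≅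
      (GaZar.liftU Z).obj (GabberTop.lc (ULift.{u} M) (Set.univ : Set Z.toTopCat)) :=
  (fullyFaithfulSheafToPresheaf _ _).preimageIso
    (NatIso.ofComponents (fun U => (sectionEquiv M U.unop).toAddCommGrpIso) fun {V W} g => by
      ext s
      apply ULift.ext
      refine LocallyConstant.ext fun w => ?_
      let s' : LocallyConstant (Scheme.Opens.toScheme V.unop) (ULift.{u + 1} M) := s
      have hle : W.unop ≤ V.unop := leOfHom g.unop
      show ULift.up (s' (Z.homOfLE hle ⟨w.1, w.2.1⟩)).down = ULift.up (s' ⟨w.1, hle w.2.1⟩).down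
      exact congrArg (fun z => ULift.up (s' z).down) (Subtype.ext (Scheme.homOfLE_apply _ _)))

/-- Gabber's vanishing theorem -/
theorem subsingleton_H {X Z : Scheme.{u}} [IsAffine X] [IsIntegral X]
    (hN : ∀ x : X, IsIntegrallyClosed (X.presheaf.stalk x)) [IsSepClosed X.functionField]
    (i : Z ⟶ X) [IsClosedImmersion i] (M : Type) [AddCommGroup M] [Finite M] (q : ℕ) :
    Subsingleton (EtCoh.H Z (EtCoh.const Z M) (q + 1)) := by
  have : IsAffine Z := (IsClosedImmersion.isAffine_surjective_of_isAffine i).1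
  have : CompactSpace Z.toTopCat := inferInstanceAs (CompactSpace Z)
  have : PrespectralSpace Z.toTopCat := inferInstanceAs (PrespectralSpace Z)
  have : QuasiSeparatedSpace Z.toTopCat := inferInstanceAs (QuasiSeparatedSpace Z)
  let L := GabberTop.lc (ULift.{u} M) (Set.univ : Set Z.toTopCat)
  have h1 := GabberTop.subsingleton_E_lc (splitLC_closed hN i (ULift.{u} M)) q Set.univ isClosed_univ
  have h2 : Subsingleton (CohTop.H L (q + 1)) := (TopCoh49.HEquivTop L (q + 1)).toEquiv.subsingleton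
  obtain ⟨e₁⟩ := GaZar.H_equiv_liftU Z L (q + 1)
  obtain ⟨e₂⟩ := H_equiv_resZar hN i (EtCoh.const Z M) (q + 1)
  let ι := (EtZar.resZar Z).mapIso (constLCIso (AddCommGrpCat.of (ULift.{u + 1} M))) ≪≫ resConstIso Z M
  have h3 : Subsingleton (EtZar.H ((GaZar.liftU Z).obj L) (q + 1)) :=
    @Equiv.subsingleton _ _ e₁.symm.toEquiv h2
  have h4 : Subsingleton (EtZar.H ((EtZar.resZar Z).obj (EtCoh.const Z M)) (q + 1)) :=
    @Equiv.subsingleton _ _ (((Abelian.extFunctorObj _ (q + 1)).mapIso ι).addCommGroupIsoToAddEquiv).toEquiv h3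
  exact e₂.toEquiv.subsingleton

end Groth.Agent.Unr55.GabberEt
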