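import Groth.Agent.Unr55.EtLocalSplit
import Mathlib.RingTheory.Ideal.GoingUp
import Mathlib.RingTheory.Etale.Basic

/-!
Finite unramified algebras split completely étale locally.
-/

universe u

open TensorProduct

namespace Groth.Agent.Unr55

theorem exists_etale_completeSplitting {R S : Type u} [CommRing R] [CommRing S] [Algebra R S]
    [Algebra.Unramified R S] [Module.Finite R S] (p : Ideal R) [p.IsPrime] :
    ∃ (R' : Type u) (_ : CommRing R') (_ : Algebra R R') (_ : Algebra.Etale R R') (p' : Ideal R')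
      (_ : p'.IsPrime) (_ : p'.LiesOver p) (n : ℕ) (e : Fin n → R' ⊗[R] S),
      CompleteOrthogonalIdempotents e ∧
      ∀ i, Function.Surjective (algebraMap R' ((R' ⊗[R] S) ⧸ Ideal.span {1 - e i})) := by
  obtain ⟨R₁, _, _, _, p₁, _, _, n, e, he, h1, -, h3⟩ := exists_etale_hasSplitting (R := R) (S := S) p
  let T := R₁ ⊗[R] S
  let c : T := 1 - ∑ i, e i
  have hc : IsIdempotentElem c := he.isIdempotentElem_sum.one_sub
  let C := T ⧸ Ideal.span {1 - c}
  have : Module.Finite R₁ C :=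
    Module.Finite.of_surjective (Ideal.Quotient.mkₐ R₁ (Ideal.span {1 - c})).toLinearMap
      Ideal.Quotient.mk_surjective
  obtain ⟨g, hg, hgp⟩ : ∃ g, algebraMap R₁ C g = 0 ∧ g ∉ p₁ := by
    suffices ¬RingHom.ker (algebraMap R₁ C) ≤ p₁ by
      obtain ⟨g, hg, hgp⟩ := SetLike.not_le_iff_exists.mp this
      exact ⟨g, hg, hgp⟩
    intro hle
    obtain ⟨Q, -, hQ, hQc⟩ :=
      Ideal.exists_ideal_over_prime_of_isIntegral p₁ (⊥ : Ideal C) hle
    obtain ⟨i, hi⟩ := h3 (Q.comap (Ideal.Quotient.mk _)) inferInstance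
      (by rw [Ideal.comap_comap]; exact hQc)
    refine hi ?_
    have : Ideal.Quotient.mk (Ideal.span {1 - c}) (e i) = 0 := by
      rw [← map_zero (Ideal.Quotient.mk _)]
      refine mk_eq_of_mul_eq ?_
      rw [zero_mul, mul_sub, mul_one, he.mul_sum_of_mem (Finset.mem_univ i), sub_self]
    rw [Ideal.mem_comap, this]
    exact Q.zero_mem
  have hgc : algebraMap R₁ T g * c = 0 := mul_eq_zero_of_mk_eq_zero hc hg
  let R₂ := Localization.Away g
  have : Algebra.Etale R₁ R₂ := Algebra.Etale.of_isLocalizationAway g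
  have : Algebra.Etale R R₂ := Algebra.Etale.comp R R₁ R₂
  have : (p₁.map (algebraMap R₁ R₂)).IsPrime :=
    IsLocalization.isPrime_of_isPrime_disjoint (.powers g) _ _ ‹_›
      ((Ideal.disjoint_powers_iff_notMem_of_isPrime _).mpr hgp)
  have : (p₁.map (algebraMap R₁ R₂)).LiesOver p₁ :=
    ⟨(IsLocalization.under_map_of_isPrime_disjoint (.powers g) _ ‹_›
      ((Ideal.disjoint_powers_iff_notMem_of_isPrime _).mpr hgp)).symm⟩
  let π : T →ₐ[R] R₂ ⊗[R] S :=
    Algebra.TensorProduct.map (IsScalarTower.toAlgHom R R₁ R₂) (AlgHom.id R S)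
  have hπ : ∀ r, π (algebraMap R₁ T r) = algebraMap R₂ _ (algebraMap R₁ R₂ r) := fun r ↦ by
    simp [π, T, Algebra.TensorProduct.algebraMap_apply]
  have hu : IsUnit (π (algebraMap R₁ T g)) := by
    rw [hπ]
    exact (IsLocalization.Away.algebraMap_isUnit g).map _
  have hπc : π c = 0 := by
    have := congrArg π hgc
    rw [map_mul, map_zero] at this
    exact hu.mul_right_eq_zero.mp this
  have hE : CompleteOrthogonalIdempotents fun i ↦ π (e i) :=
    ⟨he.map π.toRingHom, by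
      rw [← map_sum, ← map_one π, ← sub_eq_zero, ← map_sub, ← neg_sub, map_neg, neg_eq_zero]
      exact hπc⟩
  refine ⟨R₂, inferInstance, inferInstance, inferInstance, p₁.map (algebraMap R₁ R₂), inferInstance,
    Ideal.LiesOver.trans _ p₁ p, n, fun i ↦ π (e i), hE, fun i a ↦ ?_⟩
  obtain ⟨t, rfl⟩ := Ideal.Quotient.mk_surjective a
  induction t with
  | zero => exact ⟨0, by simp⟩
  | add x y hx hy =>
    obtain ⟨a, ha⟩ := hx
    obtain ⟨b, hb⟩ := hy
    exact ⟨a + b, by rw [map_add, map_add, ha, hb]⟩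
  | tmul r s =>
    obtain ⟨r₁, hr₁⟩ := h1 i (1 ⊗ₜ s)
    refine ⟨r * algebraMap R₁ R₂ r₁, (mk_eq_of_mul_eq ?_).symm⟩
    have h := congrArg π hr₁
    rw [map_mul, map_mul, hπ, show π (1 ⊗ₜ s) = 1 ⊗ₜ s from (Algebra.TensorProduct.map_tmul _ _ _ _).trans (by simp)] at h
    have hrs : (r ⊗ₜ s : R₂ ⊗[R] S) = algebraMap R₂ _ r * (1 ⊗ₜ s) := by
      simp [Algebra.TensorProduct.algebraMap_apply]
    rw [hrs, mul_assoc, h, ← mul_assoc, ← map_mul]

end Groth.Agent.Unr55
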