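import Mathlib.AlgebraicGeometry.Morphisms.Finite
import Mathlib.AlgebraicGeometry.Morphisms.ClosedImmersion
import Mathlib.AlgebraicGeometry.Morphisms.FormallyUnramified
import Mathlib.AlgebraicGeometry.ResidueField
import Mathlib.RingTheory.Unramified.LocalRing
import Mathlib.RingTheory.Unramified.Locus

/-!
Finite unramified morphisms with a single point in a fibre.
-/

universe u

open CategoryTheory Limits AlgebraicGeometry

namespace Groth.Agent.Unr55

theorem exists_pow_mul_mem_range {A B : Type u} [CommRing A] [CommRing B] [Algebra A B]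
    [Module.Finite A B] (p : Ideal A) [p.IsPrime] (q : Ideal B) [q.IsPrime] [q.LiesOver p]
    (hq : p.primesOver B = {q}) [Algebra.IsUnramifiedAt A q]
    (hres : ∀ b : B, ∃ a : A, ∃ s ∉ p, b * algebraMap A B s - algebraMap A B a ∈ q) :
    ∃ r ∉ p, ∀ b : B, ∃ (n : ℕ) (a : A), algebraMap A B r ^ n * b = algebraMap A B a := by
  classical
  let := Localization.AtPrime.algebraOfLiesOver p q
  have H : Function.Surjective (algebraMap p.ResidueField q.ResidueField) := by
    have hb : ∀ b : B, algebraMap B q.ResidueField b ∈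
        (algebraMap p.ResidueField q.ResidueField).fieldRange := fun b ↦ by
      obtain ⟨a, s, hs, has⟩ := hres b
      refine ⟨algebraMap A p.ResidueField a / algebraMap A p.ResidueField s, ?_⟩
      have hs' : algebraMap A q.ResidueField s ≠ 0 := by
        rw [IsScalarTower.algebraMap_apply A B q.ResidueField, ne_eq, ← RingHom.mem_ker,
          Ideal.ker_algebraMap_residueField]
        rwa [← Ideal.mem_comap, ← Ideal.under_def, ← Ideal.over_def q p]
      rw [map_div₀, ← IsScalarTower.algebraMap_apply, ← IsScalarTower.algebraMap_apply,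
        div_eq_iff hs', eq_comm, IsScalarTower.algebraMap_apply A B q.ResidueField a,
        IsScalarTower.algebraMap_apply A B q.ResidueField s, ← map_mul, ← sub_eq_zero, ← map_sub,
        ← RingHom.mem_ker, Ideal.ker_algebraMap_residueField]
      exact has
    intro x
    obtain ⟨b, c, -, rfl⟩ := IsFractionRing.div_surjective (B ⧸ q) x
    obtain ⟨b, rfl⟩ := Ideal.Quotient.mk_surjective b
    obtain ⟨c, rfl⟩ := Ideal.Quotient.mk_surjective c
    exact div_mem (hb b) (hb c)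
  have hsurj := Localization.localRingHom_surjective_of_primesOver_eq_singleton hq H
  have key : ∀ b : B, ∃ d ∉ p, ∃ a : A, algebraMap A B d * b = algebraMap A B a := fun b ↦ by
    obtain ⟨z, hz⟩ := hsurj (algebraMap B (Localization.AtPrime q) b)
    obtain ⟨a, ⟨s, hs⟩, rfl⟩ := IsLocalization.exists_mk'_eq p.primeCompl z
    rw [Localization.localRingHom_mk', IsLocalization.mk'_eq_iff_eq_mul, ← map_mul,
      IsLocalization.eq_iff_exists q.primeCompl] at hz
    obtain ⟨⟨c, hc⟩, hc'⟩ := hz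
    obtain ⟨d, hd, t, ht⟩ := Ideal.exists_notMem_dvd_algebraMap_of_primesOver_eq_singleton hq _ hc
    refine ⟨d * s, ‹p.IsPrime›.mul_notMem hd hs, d * a, ?_⟩
    dsimp only at hc'
    rw [map_mul, map_mul, ht, mul_assoc c, mul_assoc c]
    linear_combination (-t) * hc'
  choose d hd a ha using key
  obtain ⟨G, hG⟩ := Module.Finite.fg_top (R := A) (M := B)
  refine ⟨∏ g ∈ G, d g, Submonoid.prod_mem p.primeCompl fun g _ ↦ hd g, fun b ↦ ⟨1, ?_⟩⟩
  have hb : b ∈ Submodule.span A (G : Set B) := hG ▸ Submodule.mem_top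
  induction hb using Submodule.span_induction with
  | mem g hg =>
    refine ⟨(∏ i ∈ G.erase g, d i) * a g, ?_⟩
    rw [pow_one, map_mul, ← ha g, ← Finset.prod_erase_mul G d hg, map_mul, mul_assoc]
  | zero => exact ⟨0, by simp⟩
  | add x y _ _ hx hy =>
    obtain ⟨e, he⟩ := hx
    obtain ⟨e', he'⟩ := hy
    exact ⟨e + e', by rw [mul_add, he, he', map_add]⟩
  | smul c x _ hx =>
    obtain ⟨e, he⟩ := hx
    exact ⟨c * e, by rw [Algebra.smul_def, mul_left_comm, he, map_mul]⟩

set_option backward.isDefEq.respectTransparency.types false in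
theorem exists_isClosedImmersion_morphismRestrict {X S : Scheme.{u}} (f : X ⟶ S) [IsFinite f]
    [FormallyUnramified f] (s : S) (x : X)
    (hx : f.base ⁻¹' {s} = {x}) (hκ : Function.Surjective (f.residueFieldMap x)) :
    ∃ U : S.Opens, s ∈ U ∧ IsClosedImmersion (f ∣_ U) := by
  have hfx : f x = s := (Set.ext_iff.mp hx x).mpr rfl
  obtain ⟨U, hU, hsU, -⟩ := exists_isAffineOpen_mem_and_subset (TopologicalSpace.Opens.mem_top s)
  have hV : IsAffineOpen (f ⁻¹ᵁ U) := hU.preimage f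
  have hxV : x ∈ f ⁻¹ᵁ U := show f x ∈ U from hfx ▸ hsU
  let : Algebra Γ(S, U) Γ(X, f ⁻¹ᵁ U) := (f.app U).hom.toAlgebra
  have : Module.Finite Γ(S, U) Γ(X, f ⁻¹ᵁ U) := IsFinite.finite_app f U hU
  have h1 : (f.app U).hom.FormallyUnramified := by
    rw [Scheme.Hom.app_eq_appLE]
    exact HasRingHomProperty.appLE (P := @FormallyUnramified) f ‹_› ⟨U, hU⟩ ⟨_, hV⟩ le_rfl
  have : Algebra.FormallyUnramified Γ(S, U) Γ(X, f ⁻¹ᵁ U) := h1
  let p := (hU.primeIdealOf ⟨f x, hxV⟩).asIdeal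
  let q := (hV.primeIdealOf ⟨x, hxV⟩).asIdeal
  have hpq : q.comap (f.app U).hom = p := by
    rw [Scheme.Hom.app_eq_appLE]
    exact congrArg PrimeSpectrum.asIdeal
      (IsAffineOpen.comap_primeIdealOf_appLE U hU _ hV le_rfl hxV)
  have : q.LiesOver p := ⟨hpq.symm⟩
  have hq : p.primesOver Γ(X, f ⁻¹ᵁ U) = {q} := by
    ext q'
    refine ⟨fun ⟨hq', hq''⟩ ↦ ?_, fun h ↦ h ▸ ⟨inferInstance, inferInstance⟩⟩
    let z : PrimeSpectrum Γ(X, f ⁻¹ᵁ U) := ⟨q', hq'⟩
    have hz : Spec.map (f.app U) z = hU.primeIdealOf ⟨f x, hxV⟩ :=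
      PrimeSpectrum.ext hq''.over.symm
    have h2 : f (hV.fromSpec z) = f x := by
      rw [← Scheme.Hom.comp_apply, ← hU.SpecMap_appLE_fromSpec f hV le_rfl,
        ← Scheme.Hom.app_eq_appLE, Scheme.Hom.comp_apply, hz, hU.fromSpec_primeIdealOf]
    have h3 : hV.fromSpec z = x := (Set.ext_iff.mp hx _).mp (h2.trans hfx)
    have h4 : z = hV.primeIdealOf ⟨x, hxV⟩ :=
      hV.fromSpec.isOpenEmbedding.injective (h3.trans (hV.fromSpec_primeIdealOf ⟨x, hxV⟩).symm)
    exact congrArg PrimeSpectrum.asIdeal h4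
  let := S.presheaf.algebra_section_stalk ⟨f x, hxV⟩
  have := hU.isLocalization_stalk ⟨f x, hxV⟩
  let := X.presheaf.algebra_section_stalk ⟨x, hxV⟩
  have := hV.isLocalization_stalk ⟨x, hxV⟩
  have hres : ∀ b, ∃ a, ∃ t ∉ p, b * algebraMap Γ(S, U) Γ(X, f ⁻¹ᵁ U) t -
      algebraMap Γ(S, U) Γ(X, f ⁻¹ᵁ U) a ∈ q := by
    intro b
    obtain ⟨y, hy⟩ := hκ (IsLocalRing.residue _ (algebraMap _ (X.presheaf.stalk x) b))
    obtain ⟨y, rfl⟩ := IsLocalRing.residue_surjective y
    obtain ⟨a, ⟨t, ht⟩, rfl⟩ := IsLocalization.exists_mk'_eq p.primeCompl y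
    refine ⟨a, t, ht, ?_⟩
    rw [← IsLocalization.AtPrime.to_map_mem_maximal_iff (X.presheaf.stalk x) q,
      ← IsLocalRing.residue_eq_zero_iff, map_sub, map_sub, map_mul, map_mul, sub_eq_zero, ← hy]
    have hgerm : ∀ c, algebraMap Γ(X, f ⁻¹ᵁ U) (X.presheaf.stalk x)
        (algebraMap Γ(S, U) Γ(X, f ⁻¹ᵁ U) c) = f.stalkMap x (algebraMap Γ(S, U) _ c) :=
      fun c ↦ (f.germ_stalkMap_apply U x hxV c).symm
    rw [hgerm, hgerm]
    change IsLocalRing.ResidueField.map (f.stalkMap x).hom (IsLocalRing.residue _ _) *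
      IsLocalRing.residue _ ((f.stalkMap x).hom _) = _
    rw [IsLocalRing.ResidueField.map_residue, ← map_mul, ← map_mul, IsLocalization.mk'_spec]
  obtain ⟨r, hr, hrb⟩ := exists_pow_mul_mem_range p q hq hres
  refine ⟨S.basicOpen r, ?_, ?_⟩
  · rw [S.mem_basicOpen r s hsU]
    subst hfx
    exact ((IsLocalization.AtPrime.isUnit_to_map_iff (S.presheaf.stalk (f x)) p r).mpr hr :)
  have : IsAffine (S.basicOpen r) := hU.basicOpen r
  have : IsAffine (f ⁻¹ᵁ S.basicOpen r).toScheme := (hU.basicOpen r).preimage f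
  refine IsClosedImmersion.of_surjective_of_isAffine _ ?_
  suffices Function.Surjective (f.app (S.basicOpen r)) by
    have e : Arrow.mk (f ∣_ S.basicOpen r).appTop ≅ Arrow.mk (f.app (S.basicOpen r)) :=
      Arrow.isoMk (S.basicOpen r).topIso (f ⁻¹ᵁ S.basicOpen r).topIso
        (by simp [morphismRestrict_appTop, Scheme.Opens.topIso, Scheme.Hom.app_eq_appLE]
            erw [Scheme.Hom.map_appLE, Scheme.Hom.appLE_map])
    exact ((MorphismProperty.surjective CommRingCat).arrow_mk_iso_iff e).mpr this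
  intro z
  let := ((X.presheaf.map (homOfLE (f.preimage_mono (S.basicOpen_le r))).op).hom).toAlgebra
  have : IsLocalization.Away (f.app U r) Γ(X, f ⁻¹ᵁ S.basicOpen r) :=
    hV.isLocalization_of_eq_basicOpen _ _ (Scheme.preimage_basicOpen f r)
  obtain ⟨b, ⟨_, n, rfl⟩, rfl⟩ := IsLocalization.exists_mk'_eq (.powers (f.app U r)) z
  obtain ⟨m, a, ha⟩ := hrb b
  have hnat : ∀ c, f.app (S.basicOpen r) (algebraMap Γ(S, U) Γ(S, S.basicOpen r) c) =
      algebraMap Γ(X, f ⁻¹ᵁ U) Γ(X, f ⁻¹ᵁ S.basicOpen r) (f.app U c) := fun c ↦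
    congr($(f.naturality (homOfLE (S.basicOpen_le r)).op) c)
  have := hU.isLocalization_basicOpen r
  refine ⟨IsLocalization.mk' _ a (⟨r ^ (m + n), m + n, rfl⟩ : Submonoid.powers r), ?_⟩
  rw [IsLocalization.eq_mk'_iff_mul_eq, ← (IsLocalization.Away.algebraMap_isUnit
    (S := Γ(X, f ⁻¹ᵁ S.basicOpen r)) (f.app U r)).pow m |>.mul_left_inj]
  rw [← map_pow (algebraMap Γ(X, f ⁻¹ᵁ U) _), ← map_mul, mul_assoc, ← map_mul, ← pow_add,
    add_comm n m, ← map_pow, ← hnat, ← map_mul, IsLocalization.mk'_spec, hnat, mul_comm b]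
  exact congrArg _ ha.symm

end Groth.Agent.Unr55
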