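import Groth.Agent.Hensel20.EssEtale
import Groth.Agent.Unr55.StalkCrit
import Groth.Prelude.Def_Hensel
import Mathlib.RingTheory.Etale.Locus
import Mathlib.RingTheory.Localization.BaseChange
import Mathlib.FieldTheory.IsSepClosed

/-!
Strict henselisations of essentially etale local algebras, and local rings of etale morphisms.
-/

universe u

open IsLocalRing TensorProduct

namespace Groth.Agent.Unr55.EtSH

/-- A strict henselisation of `A` is one of every essentially etale local `A`-algebra. -/
theorem exists_isStrictHenselization {A B : Type u} [CommRing A] [IsLocalRing A] [CommRing B]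
    [IsLocalRing B] [Algebra A B] [IsLocalHom (algebraMap A B)] (h : EGA4loc.IsEssentiallyEtale A B)
    (S : Type u) [CommRing S] [IsLocalRing S] [Algebra A S] [IsLocalHom (algebraMap A S)]
    [hS : Hensel.IsStrictHenselization A S] :
    ∃ (ψ : B →+* S) (_ : IsLocalHom ψ), ψ.comp (algebraMap A B) = algebraMap A S ∧
      @Hensel.IsStrictHenselization B S _ _ _ _ ψ.toAlgebra ‹_› := by
  have := hS.henselian
  have := Hensel20.essFiniteType_of_essEtale h
  have := Hensel20.formallyUnramified_of_essEtale h
  have := hS.isSepClosure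
  have : IsSepClosed (ResidueField S) := hS.isSepClosure.sep_closed
  have : Algebra.IsSeparable (ResidueField A) (ResidueField S) := hS.isSepClosure.separable
  let α : ResidueField B →ₐ[ResidueField A] ResidueField S := IsSepClosed.lift
  obtain ⟨ψ, ⟨hψ, hψA, hψres⟩, -⟩ := Hensel20.existsUnique_essEtale_lift h (algebraMap A S)
    α.toRingHom (RingHom.ext fun x => α.commutes x)
  let : Algebra B S := ψ.toAlgebra
  have : IsLocalHom (algebraMap B S) := hψ
  refine ⟨ψ, hψ, hψA, ⟨hS.henselian, ?_, ?_⟩⟩
  · have hαmap : ∀ y : ResidueField B, algebraMap (ResidueField B) (ResidueField S) y = α y := fun y => by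
      obtain ⟨b, rfl⟩ := residue_surjective y
      exact (ResidueField.map_residue (algebraMap B S) b).trans (hψres b)
    have : IsScalarTower (ResidueField A) (ResidueField B) (ResidueField S) :=
      IsScalarTower.of_algebraMap_eq fun x => ((hαmap _).trans (α.commutes x)).symm
    exact ⟨hS.isSepClosure.sep_closed,
      Algebra.isSeparable_tower_top_of_isSeparable (ResidueField A) (ResidueField B) (ResidueField S)⟩
  · intro T _ _ f hf τ hτ
    have : IsLocalHom (f.comp (algebraMap A B)) := RingHom.isLocalHom_comp _ _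
    have hτA : τ.comp (ResidueField.map (algebraMap A S)) = ResidueField.map (f.comp (algebraMap A B)) := by
      refine RingHom.ext fun x => ?_
      obtain ⟨a, rfl⟩ := residue_surjective x
      have := RingHom.congr_fun hτ (residue B (algebraMap A B a))
      rw [RingHom.comp_apply, ResidueField.map_residue, ResidueField.map_residue] at this
      rw [RingHom.comp_apply, ResidueField.map_residue, ResidueField.map_residue, ← hψA]
      exact this
    obtain ⟨g, ⟨hg, hgres⟩, huniq⟩ := hS.universal T (f.comp (algebraMap A B)) τ hτA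
    refine ⟨g, ⟨?_, hgres⟩, fun g' ⟨hg', hg'res⟩ => huniq g' ⟨?_, hg'res⟩⟩
    · let : Algebra A T := (f.comp (algebraMap A B)).toAlgebra
      have h1 : ∀ a, g (algebraMap B S (algebraMap A B a)) = f (algebraMap A B a) := fun a => by
        show g (ψ (algebraMap A B a)) = _
        rw [show ψ (algebraMap A B a) = algebraMap A S a from RingHom.congr_fun hψA a]
        exact RingHom.congr_fun hg a
      have e := Hensel20.essEtale_hom_ext h (B := T) ⟨g.comp (algebraMap B S), h1⟩ ⟨f, fun _ => rfl⟩ fun x => by
        show residue T (g (algebraMap B S x)) = residue T (f x)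
        rw [hgres, ← ResidueField.map_residue f x, ← hτ, RingHom.comp_apply, ResidueField.map_residue]
      exact congrArg AlgHom.toRingHom e
    · rw [← hψA, ← RingHom.comp_assoc]
      exact congrArg (fun k => RingHom.comp k (algebraMap A B)) hg'

/-- The local ring of an algebra at an etale point is essentially etale over the local ring below. -/
theorem isEssentiallyEtale_of_isEtaleAt {R S : Type u} [CommRing R] [CommRing S] [Algebra R S]
    [Algebra.FinitePresentation R S] (q : Ideal S) [q.IsPrime] [Algebra.IsEtaleAt R q]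
    (A B : Type u) [CommRing A] [IsLocalRing A] [CommRing B] [Algebra R A]
    [IsLocalization.AtPrime A (q.under R)] [Algebra S B] [IsLocalization.AtPrime B q]
    [Algebra R B] [IsScalarTower R S B] [Algebra A B] [IsScalarTower R A B] :
    EGA4loc.IsEssentiallyEtale A B := by
  obtain ⟨r, hr, hre⟩ := Algebra.exists_etale_of_isEtaleAt (R := R) q
  let S' := Localization.Away r
  have hdisj : Submonoid.powers r ≤ q.primeCompl := Submonoid.powers_le.mpr hr
  let ψ : S' →ₐ[R] B := IsLocalization.liftAlgHom (M := Submonoid.powers r)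
    (f := IsScalarTower.toAlgHom R S B) fun y => IsLocalization.map_units B (⟨y.1, hdisj y.2⟩ : q.primeCompl)
  let : Algebra S' B := ψ.toRingHom.toAlgebra
  have : IsScalarTower R S' B := IsScalarTower.of_algebraMap_eq fun x => (ψ.commutes x).symm
  have : IsScalarTower S S' B := IsScalarTower.of_algebraMap_eq fun x =>
    (IsLocalization.lift_eq _ x).symm
  have hB' : IsLocalization (q.primeCompl.map (algebraMap S S')) B :=
    IsLocalization.isLocalization_of_submonoid_le S' B (Submonoid.powers r) q.primeCompl hdisj
  let T := A ⊗[R] S'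
  let : Algebra S' T := Algebra.TensorProduct.rightAlgebra
  let φ : T →ₐ[A] B := Algebra.TensorProduct.lift (Algebra.ofId A B) ψ fun _ _ => Commute.all _ _
  let : Algebra T B := φ.toRingHom.toAlgebra
  have : IsScalarTower A T B := IsScalarTower.of_algebraMap_eq fun x => (φ.commutes x).symm
  have : IsScalarTower S' T B := IsScalarTower.of_algebraMap_eq fun x => by
    show ψ x = φ ((1 : A) ⊗ₜ x)
    rw [Algebra.TensorProduct.lift_tmul, map_one, one_mul]
  let M := Algebra.algebraMapSubmonoid S' (q.under R).primeCompl
  have hle : M ≤ q.primeCompl.map (algebraMap S S') := by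
    rintro _ ⟨x, hx, rfl⟩
    exact ⟨algebraMap R S x, hx, (IsScalarTower.algebraMap_apply R S S' x).symm⟩
  have : IsLocalization M T := IsLocalization.tensorRight (S := S') A (q.under R).primeCompl
  have hBT : IsLocalization ((q.primeCompl.map (algebraMap S S')).map (algebraMap S' T)) B :=
    IsLocalization.isLocalization_of_submonoid_le T B M _ hle
  have : IsLocalRing B := IsLocalization.AtPrime.isLocalRing B q
  let Q := (maximalIdeal B).comap (algebraMap T B)
  have hBQ : IsLocalization Q.primeCompl B := by
    refine IsLocalization.of_le ((q.primeCompl.map (algebraMap S S')).map (algebraMap S' T)) _ ?_ ?_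
    · rintro y hy hyQ
      exact hyQ (IsLocalization.map_units B (⟨y, hy⟩ : ((q.primeCompl.map (algebraMap S S')).map (algebraMap S' T))))
    · exact fun y hy => not_not.mp hy
  refine ⟨T, inferInstance, inferInstance, Q, inferInstance, inferInstance, ?_,
    ⟨(IsLocalization.algEquiv Q.primeCompl B (Localization.AtPrime Q)).restrictScalars A⟩⟩
  rw [Ideal.comap_comap, ← IsScalarTower.algebraMap_eq A T B]
  have hR : ((maximalIdeal B).comap (algebraMap A B)).comap (algebraMap R A) = q.under R := by
    rw [Ideal.comap_comap, ← IsScalarTower.algebraMap_eq R A B, IsScalarTower.algebraMap_eq R S B,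
      ← Ideal.comap_comap]
    exact congrArg (Ideal.comap (algebraMap R S)) (IsLocalization.AtPrime.under_maximalIdeal B q)
  rw [← IsLocalization.map_comap (q.under R).primeCompl A ((maximalIdeal B).comap (algebraMap A B))]
  show Ideal.map (algebraMap R A) (((maximalIdeal B).comap (algebraMap A B)).comap (algebraMap R A)) = _
  rw [hR]
  exact IsLocalization.AtPrime.map_eq_maximalIdeal (q.under R) A

open AlgebraicGeometry CategoryTheory

set_option backward.isDefEq.respectTransparency.types false in
/-- At a point near which a morphism is etale the stalk map is essentially etale. -/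
theorem isEssentiallyEtale_stalkMap {X Y : Scheme.{u}} (f : X ⟶ Y) [LocallyOfFinitePresentation f]
    (x : X) (hf : ∃ U : X.Opens, x ∈ U ∧ Etale (U.ι ≫ f)) :
    letI := (f.stalkMap x).hom.toAlgebra
    EGA4loc.IsEssentiallyEtale (Y.presheaf.stalk (f x)) (X.presheaf.stalk x) := by
  obtain ⟨hfl, hun⟩ := (exists_etale_iff f x).mp hf
  obtain ⟨U, hU, hfx, -⟩ := exists_isAffineOpen_mem_and_subset (TopologicalSpace.Opens.mem_top (f x))
  obtain ⟨V, hV, hx, hVU⟩ := exists_isAffineOpen_mem_and_subset (U := f ⁻¹ᵁ U) (x := x) hfx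
  have e : V ≤ f ⁻¹ᵁ U := hVU
  let := (f.appLE U V e).hom.toAlgebra
  have : Algebra.FinitePresentation Γ(Y, U) Γ(X, V) := (HasRingHomProperty.appLE
    @LocallyOfFinitePresentation f inferInstance ⟨U, hU⟩ ⟨V, hV⟩ e :)
  let q := hV.primeIdealOf ⟨x, hx⟩
  have hq : hV.fromSpec q = x := hV.fromSpec_primeIdealOf ⟨x, hx⟩
  have hun' : (f.stalkMap (hV.fromSpec q)).hom.FormallyUnramified := by rw [hq]; exact hun
  have hfl' : (f.stalkMap (hV.fromSpec q)).hom.Flat := by rw [hq]; exact hfl
  have := (formallyUnramified_stalkMap_iff_chart f hU hV e q).mp hun'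
  have := (flat_stalkMap_iff_chart f hU hV e q).mp hfl'
  have := isEtaleAt_of_flat_localization (R := Γ(Y, U)) q.asIdeal
  let := Y.presheaf.algebra_section_stalk ⟨f x, e hx⟩
  let := X.presheaf.algebra_section_stalk ⟨x, hx⟩
  let := (f.stalkMap x).hom.toAlgebra
  let : Algebra Γ(Y, U) (X.presheaf.stalk x) :=
    ((algebraMap Γ(X, V) (X.presheaf.stalk x)).comp (algebraMap Γ(Y, U) Γ(X, V))).toAlgebra
  have : IsScalarTower Γ(Y, U) Γ(X, V) (X.presheaf.stalk x) := .of_algebraMap_eq' rfl
  have : IsScalarTower Γ(Y, U) (Y.presheaf.stalk (f x)) (X.presheaf.stalk x) := .of_algebraMap_eq' <| by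
    change (X.presheaf.germ V x hx).hom.comp (f.appLE U V e).hom =
      (f.stalkMap x).hom.comp (Y.presheaf.germ U (f x) (e hx)).hom
    rw [← CommRingCat.hom_comp, ← CommRingCat.hom_comp]
    congr 1
    rw [Scheme.Hom.germ_stalkMap, Scheme.Hom.appLE, Category.assoc, TopCat.Presheaf.germ_res]
  have hp : (hU.primeIdealOf ⟨f x, e hx⟩).asIdeal = q.asIdeal.under Γ(Y, U) :=
    congr($(IsAffineOpen.comap_primeIdealOf_appLE U hU V hV e hx).1).symm
  have key : ∀ p : PrimeSpectrum Γ(Y, U), p.asIdeal = q.asIdeal.under Γ(Y, U) →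
      IsLocalization.AtPrime (Y.presheaf.stalk (f x)) p.asIdeal →
      IsLocalization.AtPrime (Y.presheaf.stalk (f x)) (q.asIdeal.under Γ(Y, U)) := by
    rintro ⟨p, hp'⟩ h hloc
    subst h
    exact hloc
  have := key _ hp (hU.isLocalization_stalk ⟨f x, e hx⟩)
  have := hV.isLocalization_stalk ⟨x, hx⟩
  exact isEssentiallyEtale_of_isEtaleAt (R := Γ(Y, U)) q.asIdeal _ _

end Groth.Agent.Unr55.EtSH
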