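import Groth.Agent.S18423
import Groth.Agent.Unr55.StalkCrit
import Mathlib.RingTheory.Ideal.KrullsHeightTheorem
import Mathlib.RingTheory.Etale.Locus

/-!
Finite flat algebras etale at all primes over primes of height at most one are etale.
-/

universe u

namespace Groth.Agent.Unr55

theorem etale_of_finite_flat_of_height_le_one (R S : Type u) [CommRing R] [CommRing S] [Algebra R S]
    [IsNoetherianRing R] [Module.Finite R S] [Module.Flat R S]
    (h : ∀ (q : Ideal S) [q.IsPrime], (q.comap (algebraMap R S)).height ≤ 1 → Algebra.IsEtaleAt R q) :
    Algebra.Etale R S := by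
  have : Algebra.FinitePresentation R S := Algebra.FinitePresentation.of_finiteType.mp inferInstance
  suffices key : ∀ (n : ℕ) (q : Ideal S) [q.IsPrime], (q.comap (algebraMap R S)).height = n →
      Algebra.IsEtaleAt R q by
    rw [← Algebra.etaleLocus_eq_univ_iff_etale, Set.eq_univ_iff_forall]
    intro q
    have hne : (q.asIdeal.comap (algebraMap R S)).height ≠ ⊤ :=
      Ideal.height_ne_top (Ideal.IsPrime.ne_top inferInstance)
    obtain ⟨n, hn⟩ := ENat.ne_top_iff_exists.1 hne
    exact key n q.asIdeal hn.symm
  intro n
  induction n using Nat.strong_induction_on with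
  | _ n ih =>
    intro q _ hn
    by_cases h1 : n ≤ 1
    · exact h q (hn.trans_le (by exact_mod_cast h1))
    let p := q.comap (algebraMap R S)
    let A := Localization.AtPrime p
    let M := Algebra.algebraMapSubmonoid S p.primeCompl
    let B := Localization M
    have hdim : (2 : WithBot ℕ∞) ≤ ringKrullDim A := by
      rw [IsLocalization.AtPrime.ringKrullDim_eq_height p A, hn]
      have h2 : (2 : ℕ∞) ≤ n := by exact_mod_cast (show 2 ≤ n by omega)
      exact WithBot.coe_le_coe.2 h2
    have hM : IsLocalizedModule p.primeCompl (IsScalarTower.toAlgHom R S B).toLinearMap :=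
      isLocalizedModule_iff_isLocalization.2 inferInstance
    have : Module.Finite A B :=
      Module.Finite.of_isLocalizedModule p.primeCompl (IsScalarTower.toAlgHom R S B).toLinearMap
    have : Module.Flat A B := by
      have : Module.Flat R B := Module.Flat.trans R S B
      exact (Module.flat_iff_of_isLocalization A p.primeCompl B).2 inferInstance
    have hB : Algebra.Etale A B := S18423.result A B hdim fun Q hQ => by
      let q' := Q.asIdeal.comap (algebraMap S B)
      let p' := Q.asIdeal.comap (algebraMap A B)
      have hlt : q'.comap (algebraMap R S) < p := by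
        have hle : p'.comap (algebraMap R A) < (IsLocalRing.maximalIdeal A).comap (algebraMap R A) := by
          refine lt_of_le_of_ne (Ideal.comap_mono (IsLocalRing.le_maximalIdeal (Ideal.IsPrime.ne_top inferInstance))) fun he => hQ ?_
          exact (IsLocalization.map_comap p.primeCompl A p').symm.trans
            ((congrArg (Ideal.map (algebraMap R A)) he).trans (IsLocalization.map_comap p.primeCompl A _))
        rw [show (IsLocalRing.maximalIdeal A).comap (algebraMap R A) = p from IsLocalization.AtPrime.under_maximalIdeal A p] at hle
        refine lt_of_eq_of_lt ?_ hle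
        simp only [q', p', Ideal.comap_comap, ← IsScalarTower.algebraMap_eq]
      have hq' : Algebra.IsEtaleAt R q' := by
        have hlt' := Ideal.height_strict_mono_of_isPrime hlt
        obtain ⟨m, hm⟩ := ENat.ne_top_iff_exists.1 hlt'.ne_top
        refine ih m ?_ q' hm.symm
        rw [← hm, hn] at hlt'
        exact_mod_cast hlt'
      have : Algebra.FormallyEtale R (Localization.AtPrime Q.asIdeal) :=
        Algebra.FormallyEtale.of_equiv
          (((IsLocalization.localizationLocalizationAtPrimeIsoLocalization M Q.asIdeal)).restrictScalars R)
      have : Algebra.FormallyUnramified R A := Algebra.FormallyUnramified.of_isLocalization p.primeCompl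
      exact Algebra.FormallyEtale.of_restrictScalars (R := R)
    have hd : Disjoint (M : Set S) q := by
      rw [Set.disjoint_left]
      rintro _ ⟨r, hr, rfl⟩ hx
      exact hr hx
    let Q := q.map (algebraMap S B)
    have : Q.IsPrime := IsLocalization.isPrime_of_isPrime_disjoint M B q ‹_› hd
    have hQ : Q.comap (algebraMap S B) = q := IsLocalization.under_map_of_isPrime_disjoint M B ‹_› hd
    have : Algebra.FormallyEtale R A := Algebra.FormallyEtale.of_isLocalization p.primeCompl
    have : Algebra.FormallyEtale R B := Algebra.FormallyEtale.comp R A B
    have hbq : Algebra.FormallyEtale R (Localization.AtPrime Q) :=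
      Algebra.FormallyEtale.comp R B (Localization.AtPrime Q)
    have hres := Algebra.FormallyEtale.of_equiv
      (((IsLocalization.localizationLocalizationAtPrimeIsoLocalization M Q)).restrictScalars R).symm
    change Algebra.FormallyEtale R (Localization.AtPrime q)
    have key : ∀ (q₂ : Ideal S) [q₂.IsPrime], q₂ = q → Algebra.FormallyEtale R (Localization.AtPrime q₂) →
        Algebra.FormallyEtale R (Localization.AtPrime q) := by
      intro q₂ _ e he; subst e; exact he
    exact key _ hQ hres

end Groth.Agent.Unr55
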