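import Mathlib.RingTheory.AdjoinRoot
import Mathlib.RingTheory.Flat.Stability
import Mathlib.RingTheory.SurjectiveOnStalks
import Mathlib.RingTheory.Localization.Away.Basic
import Mathlib.RingTheory.FinitePresentation
import Mathlib.RingTheory.Etale.Basic
import Mathlib.FieldTheory.IntermediateField.Adjoin.Algebra
import Mathlib.RingTheory.Flat.Localization

/-!
Finite field extensions of residue fields are realised by flat finitely presented algebras.
-/

set_option autoImplicit false
universe u

open Polynomial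

namespace Groth.Agent.Unr55.ResidueExt

variable {A κ ℓ : Type u} [CommRing A] [Field κ] [Field ℓ] [Algebra A κ] [Algebra κ ℓ] [Algebra A ℓ]
  [IsScalarTower A κ ℓ]

theorem mem_range_of_mem_closure {B : Type u} [CommRing B] [Algebra A B] (τ : B →ₐ[A] ℓ) {a : ℓ}
    (ha : a ∈ Subring.closure (Set.range τ)) : ∃ r, τ r = a :=
  RingHom.mem_range.1 ((Subring.closure_le (t := τ.toRingHom.range)).2 (fun _ hx => hx) ha)

/-- the property carried through the induction -/
def Gen (K : IntermediateField κ ℓ) : Prop :=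
  ∃ (B : Type u) (_ : CommRing B) (_ : Algebra A B) (τ : B →ₐ[A] ℓ), Module.Flat A B ∧
    Algebra.FinitePresentation A B ∧ K.toSubfield ≤ Subfield.closure (Set.range τ)

omit [Algebra A κ] [IsScalarTower A κ ℓ] in
theorem gen_step [FiniteDimensional κ ℓ] (K : IntermediateField κ ℓ) (y : ℓ) (h : Gen (A := A) K) :
    Gen (A := A) ((IntermediateField.adjoin K {y}).restrictScalars κ) := by
  classical
  obtain ⟨B, _, _, τ, hfl, hfp, hK⟩ := h
  have hy : IsIntegral K y := Algebra.IsIntegral.isIntegral y
  let g : ℓ[X] := (minpoly K y).map (algebraMap K ℓ)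
  have hc : ∀ n, ∃ r s : B, τ s ≠ 0 ∧ τ r = g.coeff n * τ s := by
    intro n
    have hn : g.coeff n ∈ Subfield.closure (Set.range τ) := hK (by
      rw [show g.coeff n = algebraMap K ℓ ((minpoly K y).coeff n) from Polynomial.coeff_map _ _]
      exact ((minpoly K y).coeff n).2)
    obtain ⟨a, ha, b, hb, hab⟩ := Subfield.mem_closure_iff.1 hn
    replace ha := mem_range_of_mem_closure τ ha
    replace hb := mem_range_of_mem_closure τ hb
    obtain ⟨r, rfl⟩ := ha
    obtain ⟨s, rfl⟩ := hb
    by_cases hs : τ s = 0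
    · refine ⟨0, 1, by simp, ?_⟩
      rw [← hab, hs, div_zero, map_zero, zero_mul]
    · exact ⟨r, s, hs, by rw [← hab]; exact (div_mul_cancel₀ _ hs).symm⟩
  choose r s hs hr using hc
  let d : B := ∏ n ∈ Finset.range (g.natDegree + 1), s n
  have hd : IsUnit (τ d) := by
    rw [isUnit_iff_ne_zero, map_prod, Finset.prod_ne_zero_iff]
    exact fun n _ => hs n
  have hunit : ∀ z : Submonoid.powers d, IsUnit (τ z) := by
    rintro ⟨_, k, rfl⟩
    rw [map_pow]; exact hd.pow k
  let Bd := Localization.Away d
  let τd : Bd →ₐ[A] ℓ := IsLocalization.liftAlgHom (M := Submonoid.powers d) hunit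
  have hτd : ∀ b, τd (algebraMap B Bd b) = τ b := fun b => by simp [τd]
  have hlift : g ∈ Polynomial.lifts (τd : Bd →+* ℓ) := by
    rw [Polynomial.lifts_iff_coeff_lifts]
    intro n
    by_cases hn : n ∈ Finset.range (g.natDegree + 1)
    · refine ⟨algebraMap B Bd (r n * ∏ m ∈ (Finset.range (g.natDegree + 1)).erase n, s m) *
        IsLocalization.Away.invSelf d, ?_⟩
      have hinv : τd (IsLocalization.Away.invSelf d) * τ d = 1 := by
        rw [← hτd d, ← map_mul, mul_comm, IsLocalization.Away.mul_invSelf, map_one]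
      show τd _ = g.coeff n
      rw [map_mul, hτd, map_mul, hr, mul_assoc (g.coeff n), ← map_mul, Finset.mul_prod_erase _ _ hn,
        mul_assoc, mul_comm (τ d), hinv, mul_one]
    · exact ⟨0, by rw [map_zero, Polynomial.coeff_eq_zero_of_natDegree_lt (by simpa using hn)]⟩
  obtain ⟨q, hq, -, hqm⟩ := Polynomial.lifts_and_degree_eq_and_monic hlift
    ((minpoly.monic hy).map _)
  let B' := AdjoinRoot q
  have hfree : Module.Free Bd B' := hqm.free_adjoinRoot
  have : Algebra.FinitePresentation Bd B' := by
    have := Algebra.FinitePresentation.polynomial Bd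
    exact Algebra.FinitePresentation.quotient (Submodule.fg_span (Set.finite_singleton q))
  have : Algebra.Etale B Bd := Algebra.Etale.of_isLocalizationAway d
  have : Algebra.FinitePresentation B Bd := inferInstance
  have : Module.Flat A Bd := Module.Flat.trans A B Bd
  have : Algebra.FinitePresentation A Bd := Algebra.FinitePresentation.trans A B Bd
  have hev : q.eval₂ (τd : Bd →+* ℓ) y = 0 := by
    rw [← Polynomial.eval_map, hq, Polynomial.eval_map]
    exact minpoly.aeval K y
  let τ' : B' →+* ℓ := AdjoinRoot.lift (τd : Bd →+* ℓ) y hev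
  have hτo : ∀ x, τ' (AdjoinRoot.of q x) = τd x := fun x => AdjoinRoot.lift_of hev
  have hτr : τ' (AdjoinRoot.root q) = y := AdjoinRoot.lift_root hev
  let τA : B' →ₐ[A] ℓ :=
    { τ' with
      commutes' := fun a => by
        rw [IsScalarTower.algebraMap_apply A Bd B', AdjoinRoot.algebraMap_eq]
        exact (AdjoinRoot.lift_of _).trans (τd.commutes a) }
  refine ⟨B', inferInstance, inferInstance, τA, Module.Flat.trans A Bd B',
    Algebra.FinitePresentation.trans A Bd B', ?_⟩
  show (IntermediateField.adjoin K {y}).toSubfield ≤ _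
  rw [IntermediateField.adjoin_toSubfield]
  refine Subfield.closure_le.2 (Set.union_subset ?_ ?_)
  · rintro _ ⟨k, rfl⟩
    refine Subfield.closure_mono ?_ (hK k.2)
    rintro _ ⟨b, rfl⟩
    exact ⟨AdjoinRoot.of q (algebraMap B Bd b), (hτo _).trans (hτd b)⟩
  · intro z hz
    rw [Set.mem_singleton_iff.1 hz]
    exact Subfield.subset_closure ⟨AdjoinRoot.root q, hτr⟩

theorem exists_surjectiveOnStalks [FiniteDimensional κ ℓ] (hA : (algebraMap A κ).SurjectiveOnStalks) :
    ∃ (B : Type u) (_ : CommRing B) (_ : Algebra A B) (τ : B →ₐ[A] ℓ), Module.Flat A B ∧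
      Algebra.FinitePresentation A B ∧ (τ : B →+* ℓ).SurjectiveOnStalks := by
  have base : Gen (A := A) (⊥ : IntermediateField κ ℓ) := by
    refine ⟨A, inferInstance, inferInstance, Algebra.ofId A ℓ, inferInstance, inferInstance, ?_⟩
    rintro z hz
    obtain ⟨c, rfl⟩ := IntermediateField.mem_bot.1 hz
    obtain ⟨x, r, e, he, hr, h⟩ := (RingHom.surjective_localRingHom_iff (f := algebraMap A κ) ⊥).1
      (hA ⊥ inferInstance) c
    rw [Ideal.mem_bot] at he hr
    have h' : algebraMap A κ r * c = algebraMap A κ x := mul_left_cancel₀ he (by rw [← mul_assoc, h])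
    have hc : c = algebraMap A κ x / algebraMap A κ r := by rw [← h', mul_comm, mul_div_assoc, div_self hr, mul_one]
    rw [hc, map_div₀, ← IsScalarTower.algebraMap_apply, ← IsScalarTower.algebraMap_apply]
    exact div_mem (Subfield.subset_closure ⟨x, rfl⟩) (Subfield.subset_closure ⟨r, rfl⟩)
  obtain ⟨B, _, _, τ, hfl, hfp, hτ⟩ := IntermediateField.induction_on_adjoin
    (Gen (A := A)) base (fun K y h => gen_step K y h) (⊤ : IntermediateField κ ℓ)
  refine ⟨B, inferInstance, inferInstance, τ, hfl, hfp, RingHom.surjectiveOnStalks_of_exists_div fun z => ?_⟩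
  obtain ⟨a, ha, b, hb, hab⟩ := Subfield.mem_closure_iff.1 (hτ (IntermediateField.mem_top : z ∈ (⊤ : IntermediateField κ ℓ)))
  replace ha := mem_range_of_mem_closure τ ha
  replace hb := mem_range_of_mem_closure τ hb
  obtain ⟨r, rfl⟩ := ha
  obtain ⟨s, rfl⟩ := hb
  by_cases hs : τ s = 0
  · refine ⟨0, 1, by simp, ?_⟩
    rw [← hab, hs, div_zero, mul_zero, map_zero]
  · exact ⟨r, s, isUnit_iff_ne_zero.2 hs, by rw [← hab]; exact mul_div_cancel₀ _ hs⟩

end Groth.Agent.Unr55.ResidueExt
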