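import Groth.Agent.Unr55.Coordinates

/-!
An etale closed subscheme through an unramified closed subscheme, algebra version.
-/

universe u

open TensorProduct

namespace Groth.Agent.Unr55.EtThrough

variable (A : Type u) {B C : Type u} [CommRing A] [CommRing B] [CommRing C] [Algebra A B] [Algebra A C]
  [Algebra B C] [IsScalarTower A B C]

/-- If `C` is unramified over `A`, the differentials of the ideal of `C` span at the points of `C`. -/
theorem span_δ_ker [Algebra.FormallyUnramified A C] (hs : Function.Surjective (algebraMap B C))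
    (q : Ideal B) [q.IsPrime] (hq : RingHom.ker (algebraMap B C) ≤ q) :
    Submodule.span (IsLocalRing.ResidueField (Localization.AtPrime q))
      (Set.range fun x : RingHom.ker (algebraMap B C) => Coord.δ A q x.1) = ⊤ := by
  let L := Localization.AtPrime q
  let κ := IsLocalRing.ResidueField L
  let W := Submodule.span κ (Set.range fun x : RingHom.ker (algebraMap B C) => Coord.δ A q x.1)
  let π₀ : B →+* κ := (IsLocalRing.residue L).comp (algebraMap B L)
  have hπ : RingHom.ker (algebraMap B C) ≤ RingHom.ker π₀ := fun x hx => by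
    rw [RingHom.mem_ker, RingHom.comp_apply, IsLocalRing.residue_eq_zero_iff]
    exact (IsLocalization.AtPrime.to_map_mem_maximal_iff L q x).mpr (hq hx)
  let π : C →+* κ := RingHom.liftOfSurjective (algebraMap B C) hs ⟨π₀, hπ⟩
  have hπeq : ∀ b, π (algebraMap B C b) = π₀ b := fun b =>
    RingHom.liftOfRightInverse_comp_apply _ _ _ ⟨π₀, hπ⟩ b
  let m : Ω[B⁄A] →ₗ[B] κ ⊗[L] Ω[L⁄A] :=
    ((TensorProduct.mk L κ Ω[L⁄A] 1).restrictScalars B) ∘ₗ KaehlerDifferential.map A A B L
  let φ : C →ₗ[B] κ :=
    { toFun := π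
      map_add' := map_add π
      map_smul' := fun b c => by
        rw [RingHom.id_apply, Algebra.smul_def, map_mul, hπeq, Algebra.smul_def]
        rfl }
  let Φ : C ⊗[B] Ω[B⁄A] →ₗ[B] κ ⊗[L] Ω[L⁄A] :=
    TensorProduct.lift (((LinearMap.lsmul κ (κ ⊗[L] Ω[L⁄A])).restrictScalars₁₂ B B).compl₁₂ φ m)
  have hΦ : ∀ b : B, Φ (1 ⊗ₜ KaehlerDifferential.D A B b) = Coord.δ A q b := by
    intro b
    simp [Φ, φ, m, Coord.δ]
    rfl
  have hle : LinearMap.range (KaehlerDifferential.kerCotangentToTensor A B C) ≤
      (W.restrictScalars B).comap Φ := by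
    rintro _ ⟨c, rfl⟩
    obtain ⟨x, rfl⟩ := Ideal.toCotangent_surjective _ c
    show Φ (KaehlerDifferential.kerCotangentToTensor A B C _) ∈ W
    rw [KaehlerDifferential.kerCotangentToTensor_toCotangent, hΦ]
    exact Submodule.subset_span ⟨x, rfl⟩
  rw [eq_top_iff, ← Coord.span_range_δ A q, Submodule.span_le]
  rintro _ ⟨b, rfl⟩
  have h0 : (1 : C) ⊗ₜ[B] KaehlerDifferential.D A B b ∈
      LinearMap.range (KaehlerDifferential.kerCotangentToTensor A B C) :=
    ((KaehlerDifferential.exact_kerCotangentToTensor_mapBaseChange A B C hs) _).mp (Subsingleton.elim _ _)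
  have := hle h0
  rw [Submodule.mem_comap, hΦ] at this
  exact this

/-- A point of an unramified closed subscheme of a smooth algebra lies on a closed subscheme, cut out
near the point by elements of its ideal, that is etale near the point. -/
theorem exists_etale_through [Algebra.FinitePresentation A B] [Algebra.FormallyUnramified A C]
    (hs : Function.Surjective (algebraMap B C)) (Q : Ideal C) [Q.IsPrime]
    (hsm : Algebra.IsSmoothAt A (Q.comap (algebraMap B C))) :
    ∃ (b : B) (_ : b ∉ Q.comap (algebraMap B C)) (I : Ideal B) (_ : I ≤ RingHom.ker (algebraMap B C)),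
      Algebra.Etale A (Localization.Away (Ideal.Quotient.mk I b)) := by
  let q := Q.comap (algebraMap B C)
  have hq : RingHom.ker (algebraMap B C) ≤ q := fun x hx => by
    show algebraMap B C x ∈ Q
    rw [RingHom.mem_ker.mp hx]
    exact zero_mem Q
  let L := Localization.AtPrime q
  have : Algebra.EssFiniteType A L := .comp A B L
  obtain ⟨κ', a, -, hsp, hli⟩ := exists_linearIndependent' (IsLocalRing.ResidueField L)
    (fun x : RingHom.ker (algebraMap B C) => Coord.δ A q x.1)
  rw [span_δ_ker A hs q hq] at hsp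
  have : Finite κ' := hli.finite
  let I : Ideal B := Ideal.span (Set.range fun k => (a k).1)
  have hI : I ≤ RingHom.ker (algebraMap B C) := Ideal.span_le.mpr (by rintro _ ⟨k, rfl⟩; exact (a k).2)
  have hIq : RingHom.ker (Ideal.Quotient.mk I) ≤ q := by rw [Ideal.mk_ker]; exact hI.trans hq
  have := Ideal.map_isPrime_of_surjective Ideal.Quotient.mk_surjective hIq
  let Q' := q.map (Ideal.Quotient.mk I)
  have hQ' : Q'.comap (algebraMap B (B ⧸ I)) = q := by
    show (q.map (Ideal.Quotient.mk I)).comap (Ideal.Quotient.mk I) = q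
    rw [Ideal.comap_map_of_surjective' _ Ideal.Quotient.mk_surjective, sup_eq_left]
    exact hIq
  have hIfg : (RingHom.ker (algebraMap B (B ⧸ I))).FG := by
    rw [show RingHom.ker (algebraMap B (B ⧸ I)) = I from Ideal.mk_ker]
    exact Submodule.fg_span (Set.finite_range _)
  have het : Algebra.IsEtaleAt A Q' := by
    have key : ∀ (q₀ : Ideal B) (_ : q₀.IsPrime), q₀ = q → Algebra.IsSmoothAt A q₀ ∧
        LinearIndependent (IsLocalRing.ResidueField (Localization.AtPrime q₀))
          (fun k => Coord.δ A q₀ (a k).1) ∧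
        Submodule.span (IsLocalRing.ResidueField (Localization.AtPrime q₀))
          (Set.range fun k => Coord.δ A q₀ (a k).1) = ⊤ := by
      rintro q₀ _ rfl
      exact ⟨hsm, hli, hsp⟩
    obtain ⟨h1, h2, h3⟩ := key _ inferInstance hQ'
    refine Coord.isEtaleAt_of_span A Ideal.Quotient.mk_surjective hIfg Q' h1 (fun k => (a k).1)
      (fun k => Ideal.Quotient.eq_zero_iff_mem.mpr (Ideal.subset_span ⟨k, rfl⟩)) ?_ h2 h3
    rw [show RingHom.ker (algebraMap B (B ⧸ I)) = I from Ideal.mk_ker, Ideal.map_span, ← Set.range_comp]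
    rfl
  have : Algebra.FinitePresentation A (B ⧸ I) := Algebra.FinitePresentation.quotient (Submodule.fg_span (Set.finite_range _))
  obtain ⟨c, hc, hce⟩ := Algebra.exists_etale_of_isEtaleAt (R := A) Q'
  obtain ⟨b, rfl⟩ := Ideal.Quotient.mk_surjective c
  exact ⟨b, fun h => hc (Ideal.mem_map_of_mem _ h), I, hI, hce⟩

end Groth.Agent.Unr55.EtThrough
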