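import Mathlib.AlgebraicGeometry.Morphisms.Etale
import Mathlib.AlgebraicGeometry.Morphisms.FormallyUnramified
import Mathlib.RingTheory.Artinian.Ring
import Mathlib.RingTheory.FiniteLength
import Mathlib.RingTheory.HopkinsLevitzki
import Mathlib.RingTheory.Unramified.LocalRing

/-!
Lifting along surjections of local Artinian rings: passing from trivial residue extensions to finite ones,
and lifting along etale morphisms.
-/

universe u

open CategoryTheory AlgebraicGeometry IsLocalRing

namespace Groth.Agent.Unr55.ArtinLift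

set_option backward.isDefEq.respectTransparency.types false

section Fiber

variable {C : Type u} [CommRing C] [IsLocalRing C] {k : Type u} [Field k] (j : k →+* ResidueField C)

/-- Elements whose residue lies in the image of `k`. -/
abbrev fiberRing : Subring C := j.range.comap (residue C)

theorem isUnit_iff (x : fiberRing j) : IsUnit x ↔ IsUnit (x : C) := by
  refine ⟨fun h => h.map (fiberRing j).subtype, fun h => ?_⟩
  obtain ⟨v, hv⟩ := h.exists_right_inv
  obtain ⟨k₀, hk⟩ := x.2
  have hv' : v ∈ fiberRing j := by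
    refine ⟨k₀⁻¹, ?_⟩
    rw [map_inv₀, hk]
    refine inv_eq_of_mul_eq_one_right ?_
    rw [← map_mul, hv, map_one]
  exact IsUnit.of_mul_eq_one ⟨v, hv'⟩ (Subtype.ext hv)

instance isLocalRing : IsLocalRing (fiberRing j) := by
  refine IsLocalRing.of_nonunits_add fun a b ha hb => ?_
  rw [mem_nonunits_iff, isUnit_iff] at *
  exact IsLocalRing.nonunits_add ha hb

instance isLocalHom_subtype : IsLocalHom (fiberRing j).subtype :=
  ⟨fun x h => (isUnit_iff j x).2 h⟩

theorem residue_range :
    Set.range ((residue C).comp (fiberRing j).subtype) = Set.range j := by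
  ext y
  constructor
  · rintro ⟨x, rfl⟩
    exact x.2
  · rintro ⟨k₀, rfl⟩
    obtain ⟨c, hc⟩ := residue_surjective (j k₀)
    exact ⟨⟨c, ⟨k₀, hc.symm⟩⟩, hc⟩

theorem isArtinianRing [IsArtinianRing C] (hj : j.Finite) : IsArtinianRing (fiberRing j) := by
  let C₀ := fiberRing j
  algebraize [j]
  have hκ : IsArtinian C₀ (ResidueField C) := by
    let F : Submodule C₀ (ResidueField C) → Submodule k (ResidueField C) := fun N =>
      { N.toAddSubmonoid with
        smul_mem' := fun k₀ z hz => by
          obtain ⟨c, hc⟩ := residue_surjective (j k₀)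
          have := N.smul_mem (⟨c, ⟨k₀, hc.symm⟩⟩ : C₀) hz
          change j k₀ * z ∈ N
          rw [← hc]
          exact this }
    have hF : StrictMono F := fun N M h => ⟨fun z hz => h.1 hz, fun h' => h.2 fun z hz => h' hz⟩
    exact ⟨hF.wellFoundedLT.wf⟩
  have key : ∀ {M : Type u} [AddCommGroup M] [Module C M], IsFiniteLength C M →
      ∀ [Module C₀ M] [IsScalarTower C₀ C M], IsArtinian C₀ M := by
    intro M _ _ hM
    induction hM with
    | of_subsingleton => intros; exact inferInstance
    | @of_simple_quotient M _ _ N hs hN ih =>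
      intros
      have : IsArtinian C₀ (N.restrictScalars C₀) := @ih _ _
      obtain ⟨I, hI, ⟨e⟩⟩ := isSimpleModule_iff_quot_maximal.1 hs
      obtain rfl := eq_maximalIdeal hI
      have : IsArtinian C₀ (C ⧸ maximalIdeal C) := hκ
      have : IsArtinian C₀ (M ⧸ N.restrictScalars C₀) := by
        have hq : IsArtinian C₀ (M ⧸ N) :=
          isArtinian_of_linearEquiv (e.restrictScalars C₀).symm
        exact isArtinian_of_linearEquiv (Submodule.Quotient.restrictScalarsEquiv C₀ N).symm
      exact (isArtinian_iff_submodule_quotient (N.restrictScalars C₀)).2 ⟨‹_›, ‹_›⟩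
  have : IsArtinian C₀ C := key (isFiniteLength_iff_isNoetherian_isArtinian.2 ⟨inferInstance, inferInstance⟩)
  exact isArtinian_of_injective (Algebra.linearMap C₀ C) Subtype.val_injective

end Fiber

/-- The map on residue fields induced by a morphism from the spectrum of a local ring. -/
theorem residueFieldMap_eq {T : Scheme.{u}} {R : Type u} [CommRing R] [IsLocalRing R]
    (a : Spec (CommRingCat.of R) ⟶ T) :
    ∃ E : (Spec (CommRingCat.of R)).residueField (closedPoint R) ≃+* ResidueField R,
      E.toRingHom.comp (a.residueFieldMap (closedPoint R)).hom =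
        ResidueField.map (Scheme.stalkClosedPointTo a).hom := by
  let i := (stalkClosedPointIso (CommRingCat.of R)).commRingCatIsoToRingEquiv
  refine ⟨ResidueField.mapEquiv i, RingHom.ext fun y => ?_⟩
  obtain ⟨y, rfl⟩ := residue_surjective y
  rfl

theorem residueFieldMap_surjective_iff {T : Scheme.{u}} {R : Type u} [CommRing R] [IsLocalRing R]
    (a : Spec (CommRingCat.of R) ⟶ T) :
    Function.Surjective (a.residueFieldMap (closedPoint R)).hom ↔
      Function.Surjective ((residue R).comp (Scheme.stalkClosedPointTo a).hom) := by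
  obtain ⟨E, hE⟩ := residueFieldMap_eq a
  have h1 : Function.Surjective (ResidueField.map (Scheme.stalkClosedPointTo a).hom) ↔
      Function.Surjective ((residue R).comp (Scheme.stalkClosedPointTo a).hom) := by
    rw [← ResidueField.map_comp_residue (Scheme.stalkClosedPointTo a).hom, RingHom.coe_comp]
    exact ⟨fun h => h.comp residue_surjective, fun h => h.of_comp⟩
  rw [← h1, ← hE]
  exact ⟨fun h => E.surjective.comp h, fun h y => (h (E y)).imp fun _ hx => E.injective hx⟩

theorem residueFieldMap_surjective_of_specMap {T : Scheme.{u}} {t : T} {R : Type u} [CommRing R]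
    [IsLocalRing R] (φ : T.presheaf.stalk t ⟶ CommRingCat.of R) [IsLocalHom φ.hom]
    (h : Function.Surjective ((residue R).comp φ.hom)) :
    (Spec.map φ ≫ T.fromSpecStalk t) (closedPoint R) = t ∧
      Function.Surjective ((Spec.map φ ≫ T.fromSpecStalk t).residueFieldMap (closedPoint R)).hom := by
  have hp : (Spec.map φ ≫ T.fromSpecStalk t) (closedPoint R) = t := by
    have : (Spec.map φ) (closedPoint R) = closedPoint (T.presheaf.stalk t) := comap_closedPoint φ.hom
    rw [Scheme.Hom.comp_apply, this, Scheme.fromSpecStalk_closedPoint]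
  refine ⟨hp, ?_⟩
  rw [residueFieldMap_surjective_iff]
  have key : Spec.map (Scheme.stalkClosedPointTo (Spec.map φ ≫ T.fromSpecStalk t)) ≫
      T.fromSpecStalk _ = Spec.map φ ≫ T.fromSpecStalk t :=
    Scheme.Spec_stalkClosedPointTo_fromSpecStalk _
  have e : T.fromSpecStalk ((Spec.map φ ≫ T.fromSpecStalk t) (closedPoint R)) =
      Spec.map ((T.presheaf.stalkCongr (.of_eq hp.symm)).hom) ≫ T.fromSpecStalk t := by
    exact (Scheme.SpecMap_stalkSpecializes_fromSpecStalk (specializes_of_eq hp)).symm
  rw [e, ← Category.assoc, ← Spec.map_comp, cancel_mono] at key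
  rw [← Spec.map_injective key] at h
  intro z
  obtain ⟨w, hw⟩ := h z
  exact ⟨_, hw⟩

theorem exists_lift_of_finite_residue {S T : Scheme.{u}} (g : T ⟶ S) (t : T)
    (hT : ∀ (C C' : Type u) [CommRing C] [CommRing C'] [IsLocalRing C] [IsLocalRing C'] [IsArtinianRing C]
        [IsArtinianRing C'] (π : C' →+* C), Function.Surjective π →
        ∀ (a : Spec (CommRingCat.of C) ⟶ T) (b : Spec (CommRingCat.of C') ⟶ S),
          a (closedPoint C) = t →
          Function.Surjective (a.residueFieldMap (closedPoint C)).hom →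
          Spec.map (CommRingCat.ofHom π) ≫ b = a ≫ g →
          ∃ c : Spec (CommRingCat.of C') ⟶ T, Spec.map (CommRingCat.ofHom π) ≫ c = a ∧ c ≫ g = b)
    (C C' : Type u) [CommRing C] [CommRing C'] [IsLocalRing C] [IsLocalRing C'] [IsArtinianRing C]
    [IsArtinianRing C'] (π : C' →+* C) (hπ : Function.Surjective π)
    (a : Spec (CommRingCat.of C) ⟶ T) (b : Spec (CommRingCat.of C') ⟶ S)
    (ha : a (closedPoint C) = t) (hfin : (a.residueFieldMap (closedPoint C)).hom.Finite)
    (hab : Spec.map (CommRingCat.ofHom π) ≫ b = a ≫ g) :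
    ∃ c : Spec (CommRingCat.of C') ⟶ T, Spec.map (CommRingCat.ofHom π) ≫ c = a ∧ c ≫ g = b := by
  subst ha
  have : IsLocalHom π := .of_surjective π hπ
  let φ := Scheme.stalkClosedPointTo a
  let j := ResidueField.map φ.hom
  have hj : j.Finite := by
    obtain ⟨E, hE⟩ := residueFieldMap_eq a
    rw [show j = E.toRingHom.comp (a.residueFieldMap (closedPoint C)).hom from hE.symm]
    exact (RingHom.Finite.of_surjective E.toRingHom E.surjective).comp hfin
  let C₀ := fiberRing j
  have : IsArtinianRing C₀ := isArtinianRing j hj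
  let eπ := RingEquiv.ofBijective (ResidueField.map π)
    ⟨RingHom.injective _, Function.Surjective.of_comp (g := residue C') <| by
      rw [← RingHom.coe_comp, ResidueField.map_comp_residue]
      exact residue_surjective.comp hπ⟩
  let j' := eπ.symm.toRingHom.comp j
  let C₀' := fiberRing j'
  have : IsArtinianRing C₀' := isArtinianRing j' ((RingHom.Finite.of_surjective eπ.symm.toRingHom eπ.symm.surjective).comp hj)
  have hmem : ∀ y : C', π y ∈ C₀ ↔ y ∈ C₀' := fun y => by
    change residue C (π y) ∈ j.range ↔ residue C' y ∈ j'.range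
    simp only [RingHom.mem_range, j', RingHom.comp_apply]
    refine exists_congr fun k₀ => ?_
    exact (eπ.symm_apply_eq (y := residue C' y)).symm
  let π₀ : C₀' →+* C₀ := (π.comp C₀'.subtype).codRestrict C₀ fun y => (hmem y).2 y.2
  have hπ₀ : Function.Surjective π₀ := fun x => by
    obtain ⟨y, hy⟩ := hπ x
    exact ⟨⟨y, (hmem y).1 (by rw [hy]; exact x.2)⟩, Subtype.ext hy⟩
  let φ₀ : T.presheaf.stalk (a (closedPoint C)) ⟶ CommRingCat.of C₀ :=
    CommRingCat.ofHom (φ.hom.codRestrict C₀ fun x => ⟨residue _ x, rfl⟩)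
  have hφ : φ₀ ≫ CommRingCat.ofHom C₀.subtype = φ := rfl
  have : IsLocalHom φ₀.hom := ⟨fun x hx => (isUnit_map_iff φ.hom x).1 (hx.map C₀.subtype)⟩
  have hsurj : Function.Surjective ((residue C₀).comp φ₀.hom) := fun z => by
    obtain ⟨x, rfl⟩ := residue_surjective z
    obtain ⟨k₀, hk⟩ := x.2
    obtain ⟨w, rfl⟩ := residue_surjective k₀
    refine ⟨w, (ResidueField.map C₀.subtype).injective ?_⟩
    exact hk
  obtain ⟨hp, hrs⟩ := residueFieldMap_surjective_of_specMap φ₀ hsurj
  have hs : b (closedPoint C') = g (a (closedPoint C)) := by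
    rw [← Scheme.Hom.comp_apply, ← hab, Scheme.Hom.comp_apply]
    exact congrArg b (comap_closedPoint π).symm
  obtain ⟨ψ, hψ⟩ : ∃ ψ : S.presheaf.stalk (g (a (closedPoint C))) ⟶ CommRingCat.of C',
      Spec.map ψ ≫ S.fromSpecStalk (g (a (closedPoint C))) = b := by
    rw [← hs]
    exact ⟨_, Scheme.Spec_stalkClosedPointTo_fromSpecStalk b⟩
  have hψπ : ψ ≫ CommRingCat.ofHom π = g.stalkMap (a (closedPoint C)) ≫ φ := by
    refine Spec.map_injective ((cancel_mono (S.fromSpecStalk (g (a (closedPoint C))))).1 ?_)
    rw [Spec.map_comp, Spec.map_comp, Category.assoc, Category.assoc, hψ, hab,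
      Scheme.SpecMap_stalkMap_fromSpecStalk, ← Category.assoc, Scheme.Spec_stalkClosedPointTo_fromSpecStalk]
  let ψ₀ : S.presheaf.stalk (g (a (closedPoint C))) ⟶ CommRingCat.of C₀' :=
    CommRingCat.ofHom (ψ.hom.codRestrict C₀' fun x => (hmem _).1 (by
      rw [show π (ψ.hom x) = φ.hom ((g.stalkMap (a (closedPoint C))).hom x) from
        congrArg (fun q => CommRingCat.Hom.hom q x) hψπ]
      exact ⟨residue _ _, rfl⟩))
  obtain ⟨c₀, hc₁, hc₂⟩ := hT C₀ C₀' π₀ hπ₀ (Spec.map φ₀ ≫ T.fromSpecStalk _)
    (Spec.map ψ₀ ≫ S.fromSpecStalk _) hp hrs (by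
      rw [Category.assoc, ← Scheme.SpecMap_stalkMap_fromSpecStalk, ← Category.assoc, ← Category.assoc,
        ← Spec.map_comp, ← Spec.map_comp]
      congr 2
      ext x
      exact congrArg (fun q => CommRingCat.Hom.hom q x) hψπ)
  refine ⟨Spec.map (CommRingCat.ofHom C₀'.subtype) ≫ c₀, ?_, ?_⟩
  · rw [← Category.assoc, ← Spec.map_comp, show CommRingCat.ofHom C₀'.subtype ≫ CommRingCat.ofHom π =
      CommRingCat.ofHom π₀ ≫ CommRingCat.ofHom C₀.subtype from rfl, Spec.map_comp, Category.assoc, hc₁,
      ← Category.assoc, ← Spec.map_comp, hφ, Scheme.Spec_stalkClosedPointTo_fromSpecStalk]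
  · rw [Category.assoc, hc₂, ← Category.assoc, ← Spec.map_comp]
    exact hψ

theorem formallyEtale_respectsIso : RingHom.RespectsIso RingHom.FormallyEtale.{u, u} := by
  refine RingHom.StableUnderComposition.respectsIso ?_ ?_
  · intro R S T _ _ _ f g hf hg
    algebraize [f, g, g.comp f]
    exact Algebra.FormallyEtale.comp R S T
  · intro R S _ _ e
    algebraize [e.toRingHom]
    exact Algebra.FormallyEtale.of_equiv (A := R) (R := R) (AlgEquiv.ofRingEquiv (f := e) fun _ => rfl)

theorem formallyEtale_stalkMap {X Y : Scheme.{u}} (f : X ⟶ Y) [Etale f] (x : X) :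
    (f.stalkMap x).hom.FormallyEtale := by
  refine HasRingHomProperty.stalkMap_of_respectsIso (P := @Etale) formallyEtale_respectsIso ?_ ‹_› x
  intro R S _ _ f hf J _
  algebraize [f]
  have hc : ((Localization.localRingHom (J.comap f) J f rfl).comp
      (algebraMap R (Localization.AtPrime (J.comap f)))).FormallyEtale := by
    have e : (Localization.localRingHom (J.comap f) J f rfl).comp
        (algebraMap R (Localization.AtPrime (J.comap f))) = algebraMap R (Localization.AtPrime J) := by
      ext r
      exact (Localization.localRingHom_to_map _ _ _ rfl r).trans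
        (IsScalarTower.algebraMap_apply R S (Localization.AtPrime J) r).symm
    rw [e, RingHom.formallyEtale_algebraMap]
    exact Algebra.FormallyEtale.comp R S (Localization.AtPrime J)
  refine RingHom.FormallyEtale.of_comp ?_ hc
  exact RingHom.FormallyUnramified.holdsForLocalization _ (J.comap f).primeCompl

theorem exists_lift_of_etale {T U : Scheme.{u}} (e : U ⟶ T) [Etale e] {C C' : Type u} [CommRing C]
    [CommRing C'] [IsLocalRing C] [IsLocalRing C'] [IsArtinianRing C'] (π : C' →+* C)
    (hπ : Function.Surjective π) (a : Spec (CommRingCat.of C) ⟶ U) (b : Spec (CommRingCat.of C') ⟶ T)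
    (hab : Spec.map (CommRingCat.ofHom π) ≫ b = a ≫ e) :
    ∃ c : Spec (CommRingCat.of C') ⟶ U, Spec.map (CommRingCat.ofHom π) ≫ c = a ∧ c ≫ e = b := by
  have : IsLocalHom π := .of_surjective π hπ
  let φ := Scheme.stalkClosedPointTo a
  have hs : b (closedPoint C') = e (a (closedPoint C)) := by
    rw [← Scheme.Hom.comp_apply, ← hab, Scheme.Hom.comp_apply]
    exact congrArg b (comap_closedPoint π).symm
  obtain ⟨ψ, hψ⟩ : ∃ ψ : T.presheaf.stalk (e (a (closedPoint C))) ⟶ CommRingCat.of C',
      Spec.map ψ ≫ T.fromSpecStalk (e (a (closedPoint C))) = b := by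
    rw [← hs]
    exact ⟨_, Scheme.Spec_stalkClosedPointTo_fromSpecStalk b⟩
  have hψπ : ψ ≫ CommRingCat.ofHom π = e.stalkMap (a (closedPoint C)) ≫ φ := by
    refine Spec.map_injective ((cancel_mono (T.fromSpecStalk (e (a (closedPoint C))))).1 ?_)
    rw [Spec.map_comp, Spec.map_comp, Category.assoc, Category.assoc, hψ, hab,
      Scheme.SpecMap_stalkMap_fromSpecStalk, ← Category.assoc, Scheme.Spec_stalkClosedPointTo_fromSpecStalk]
  let A := T.presheaf.stalk (e (a (closedPoint C)))
  let B := U.presheaf.stalk (a (closedPoint C))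
  have hfe := formallyEtale_stalkMap e (a (closedPoint C))
  let := (e.stalkMap (a (closedPoint C))).hom.toAlgebra
  let := ψ.hom.toAlgebra
  let := (π.comp ψ.hom).toAlgebra
  have : Algebra.FormallyEtale A B := hfe
  let φA : B →ₐ[A] C := { φ.hom with
    commutes' := fun r => (congrArg (fun q => CommRingCat.Hom.hom q r) hψπ).symm }
  let πA : C' →ₐ[A] C := { π with commutes' := fun r => rfl }
  have hn : IsNilpotent (RingHom.ker πA) := by
    obtain ⟨m, hm⟩ := (IsArtinianRing.isNilpotent_jacobson_bot (R := C'))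
    refine ⟨m, le_bot_iff.1 (le_trans (Ideal.pow_right_mono ?_ m) hm.le)⟩
    rw [jacobson_eq_maximalIdeal ⊥ bot_ne_top]
    exact le_maximalIdeal (RingHom.ker_ne_top _)
  let χ := Algebra.FormallySmooth.liftOfSurjective φA πA hπ hn
  have hχ : πA.comp χ = φA := AlgHom.ext (Algebra.FormallySmooth.liftOfSurjective_apply φA πA hπ hn)
  refine ⟨Spec.map (CommRingCat.ofHom χ.toRingHom) ≫ U.fromSpecStalk _, ?_, ?_⟩
  · rw [← Category.assoc, ← Spec.map_comp, show CommRingCat.ofHom χ.toRingHom ≫ CommRingCat.ofHom π = φ from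
      CommRingCat.hom_ext (congrArg AlgHom.toRingHom hχ), Scheme.Spec_stalkClosedPointTo_fromSpecStalk]
  · rw [Category.assoc, ← Scheme.SpecMap_stalkMap_fromSpecStalk, ← Category.assoc, ← Spec.map_comp]
    refine Eq.trans ?_ hψ
    congr 2
    exact CommRingCat.hom_ext χ.comp_algebraMap

theorem finite_residueFieldMap {T U : Scheme.{u}} (e : U ⟶ T) [Etale e] (u : U) :
    (e.residueFieldMap u).hom.Finite := by
  algebraize [(e.stalkMap u).hom]
  have : IsLocalHom (algebraMap (T.presheaf.stalk (e u)) (U.presheaf.stalk u)) :=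
    inferInstanceAs <| IsLocalHom (e.stalkMap u).hom
  have : Algebra.EssFiniteType (T.presheaf.stalk (e u)) (U.presheaf.stalk u) := by
    rw [← RingHom.essFiniteType_algebraMap, RingHom.algebraMap_toAlgebra]
    exact LocallyOfFiniteType.stalkMap e u
  have : Algebra.FormallyUnramified (T.presheaf.stalk (e u)) (U.presheaf.stalk u) := by
    rw [← RingHom.formallyUnramified_algebraMap, RingHom.algebraMap_toAlgebra]
    exact FormallyUnramified.stalkMap e u
  have h : (algebraMap (ResidueField (T.presheaf.stalk (e u))) (ResidueField (U.presheaf.stalk u))).Finite :=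
    RingHom.finite_algebraMap.2 inferInstance
  have e' : (e.residueFieldMap u).hom =
      algebraMap (ResidueField (T.presheaf.stalk (e u))) (ResidueField (U.presheaf.stalk u)) := by
    refine RingHom.ext fun y => ?_
    obtain ⟨y, rfl⟩ := residue_surjective y
    rfl
  rw [e']
  exact h

end Groth.Agent.Unr55.ArtinLift
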