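import Mathlib.RingTheory.Etale.Locus
import Mathlib.RingTheory.Unramified.LocalStructure
import Mathlib.RingTheory.Smooth.Fiber
import Mathlib.RingTheory.Ideal.Pure
import Mathlib.RingTheory.RingHom.FinitePresentation
import Mathlib.RingTheory.Spectrum.Prime.Topology
import Mathlib.RingTheory.Ideal.GoingDown
import Mathlib.RingTheory.QuasiFinite.Basic

/-!
Flat unramified algebras over rings with finitely many minimal primes are of finite presentation.
-/

universe u

namespace Groth.Agent.Unr55

open PrimeSpectrum

theorem pure_fg_of_finite_minimalPrimes {B : Type u} [CommRing B] (I : Ideal B) [I.Pure]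
    (h : (minimalPrimes B).Finite) : I.FG := by
  have hgen : ∀ p q : PrimeSpectrum B, q.asIdeal ≤ p.asIdeal → I ≤ p.asIdeal → I ≤ q.asIdeal := by
    intro p q hqp hp x hx
    obtain ⟨y, hy, he⟩ := Ideal.exists_eq_mul_of_pure hx
    have h0 : x * (1 - y) ∈ q.asIdeal := by
      rw [mul_sub, mul_one, ← he, sub_self]; exact zero_mem _
    refine (q.2.mem_or_mem h0).resolve_right fun h1 ↦ p.2.ne_top ?_
    rw [Ideal.eq_top_iff_one]
    simpa using add_mem (hqp h1) (hp hy)
  have hcompl : (zeroLocus (I : Set B))ᶜ =
      ⋃ q ∈ {q | q ∈ minimalPrimes B ∧ ¬ I ≤ q}, zeroLocus ((q : Ideal B) : Set B) := by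
    ext p
    simp only [Set.mem_compl_iff, Set.mem_iUnion, Set.mem_ofPred_eq, mem_zeroLocus,
      SetLike.coe_subset_coe, exists_prop]
    constructor
    · intro hp
      obtain ⟨q, hq, hqp⟩ := Ideal.exists_minimalPrimes_le (I := (⊥ : Ideal B)) (J := p.asIdeal)
        bot_le
      exact ⟨q, ⟨hq, fun hI ↦ hp (hI.trans hqp)⟩, hqp⟩
    · rintro ⟨q, ⟨hq, hIq⟩, hqp⟩ hp
      exact hIq (hgen p ⟨q, hq.1.1⟩ hqp hp)
  have hclopen : IsClopen (zeroLocus (I : Set B)) := by
    refine ⟨isClosed_zeroLocus _, ?_⟩
    rw [← isClosed_compl_iff, hcompl]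
    exact (h.subset fun q hq ↦ hq.1).isClosed_biUnion fun q _ ↦ isClosed_zeroLocus _
  obtain ⟨e, he, heq⟩ := isClopen_iff_zeroLocus.mp hclopen
  have hfg : (Ideal.span {e}).FG := ⟨{e}, by simp⟩
  have : (Ideal.span {e}).Pure := Ideal.Pure.of_isIdempotentElem hfg
    ((Ideal.isIdempotentElem_iff_of_fg _ hfg).mpr ⟨e, he, rfl⟩)
  have hI : I = Ideal.span {e} := by
    rw [← Ideal.zeroLocus_inj_of_pure, heq, zeroLocus_span]
  exact hI ▸ hfg

theorem finite_minimalPrimes_of_flat_quasiFinite {A B : Type u} [CommRing A] [CommRing B]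
    [Algebra A B] [Module.Flat A B] [Algebra.QuasiFinite A B] (h : (minimalPrimes A).Finite) :
    (minimalPrimes B).Finite := by
  have : minimalPrimes B ⊆ ⋃ p ∈ minimalPrimes A, p.primesOver B := by
    intro q hq
    have : q.IsPrime := hq.1.1
    refine Set.mem_biUnion (x := q.under A) ?_ ⟨inferInstance, ⟨rfl⟩⟩
    refine ⟨⟨inferInstance, bot_le⟩, fun p hp hpq ↦ ?_⟩
    have := hp.1
    obtain ⟨q', hq'le, hq', hover⟩ := Ideal.exists_ideal_le_liesOver_of_le (S := B) q hpq
    have hqq : q = q' := le_antisymm (hq.2 ⟨hq', bot_le⟩ hq'le) hq'le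
    subst hqq
    exact le_of_eq hover.over.symm
  exact (h.biUnion fun p _ ↦ Algebra.QuasiFinite.finite_primesOver p).subset this

theorem finitePresentation_of_flat_formallyUnramified {A B : Type u} [CommRing A] [CommRing B]
    [Algebra A B] [Algebra.FiniteType A B] [Algebra.FormallyUnramified A B] [Module.Flat A B]
    (h : (minimalPrimes A).Finite) : Algebra.FinitePresentation A B := by
  let s : Set B := {f | Algebra.FinitePresentation A (Localization.Away f)}
  have hs : Ideal.span s = ⊤ := by
    by_contra hne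
    obtain ⟨Q, hQ, hle⟩ := Ideal.exists_le_maximal _ hne
    have : Algebra.IsUnramifiedAt A Q := inferInstance
    obtain ⟨f, hf, P, φ, hφ⟩ := Algebra.IsUnramifiedAt.exists_hasStandardEtaleSurjectionOn (R := A) Q
    refine hf (hle (Ideal.subset_span ?_))
    change Algebra.FinitePresentation A (Localization.Away f)
    algebraize [φ.toRingHom]
    have : IsScalarTower A P.Ring (Localization.Away f) :=
      IsScalarTower.of_algebraMap_eq' φ.comp_algebraMap.symm
    have : Module.Flat B (Localization.Away f) := IsLocalization.flat _ (Submonoid.powers f)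
    have : Module.Flat A (Localization.Away f) := Module.Flat.trans A B _
    have : Module.Flat P.Ring (Localization.Away f) :=
      Algebra.FormallyUnramified.flat_of_restrictScalars A P.Ring _
    have : Algebra.QuasiFinite A P.Ring := inferInstance
    have : (RingHom.ker φ.toRingHom).Pure :=
      Module.Flat.of_linearEquiv (Ideal.quotientKerAlgEquivOfSurjective
        (f := Algebra.ofId P.Ring (Localization.Away f)) hφ).toLinearEquiv
    exact Algebra.FinitePresentation.of_surjective hφ
      (pure_fg_of_finite_minimalPrimes _ (finite_minimalPrimes_of_flat_quasiFinite (A := A) h))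
  have := RingHom.finitePresentation_ofLocalizationSpanTarget (algebraMap A B) s hs fun r ↦ by
    have hr : Algebra.FinitePresentation A (Localization.Away (r : B)) := r.2
    rw [← IsScalarTower.algebraMap_eq]
    exact RingHom.finitePresentation_algebraMap.mpr hr
  exact RingHom.finitePresentation_algebraMap.mp this

theorem etale_of_flat_formallyUnramified {A B : Type u} [CommRing A] [CommRing B]
    [Algebra A B] [Algebra.FiniteType A B] [Algebra.FormallyUnramified A B] [Module.Flat A B]
    (h : (minimalPrimes A).Finite) : Algebra.Etale A B :=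
  have := finitePresentation_of_flat_formallyUnramified (A := A) (B := B) h
  .of_formallyUnramified_of_flat

theorem finite_irreducibleComponents_of_isOpenEmbedding {X Y : Type*} [TopologicalSpace X]
    [TopologicalSpace Y] {f : Y → X} (hf : Topology.IsOpenEmbedding f)
    (h : (irreducibleComponents X).Finite) : (irreducibleComponents Y).Finite := by
  refine (h.image fun t ↦ f ⁻¹' t).subset fun Z hZ ↦ ?_
  obtain ⟨t', ht', htt'⟩ := exists_mem_irreducibleComponents_subset_of_isIrreducible _
    (hZ.1.image f hf.continuous.continuousOn)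
  refine ⟨t', ht', ?_⟩
  have hsub : Z ⊆ f ⁻¹' t' := fun z hz ↦ htt' ⟨z, hz, rfl⟩
  obtain ⟨z, hz⟩ := hZ.1.1
  exact (hsub.antisymm (hZ.2 (ht'.1.preimage hf ⟨f z, hsub hz, z, rfl⟩) hsub)).symm

theorem finite_minimalPrimes_of_finite_irreducibleComponents {R : Type u} [CommRing R]
    (h : (irreducibleComponents (PrimeSpectrum R)).Finite) : (minimalPrimes R).Finite := by
  rw [← PrimeSpectrum.vanishingIdeal_irreducibleComponents]
  exact h.image _

end Groth.Agent.Unr55
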