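import Mathlib.RingTheory.Smooth.Fiber
import Mathlib.RingTheory.Smooth.Flat
import Mathlib.RingTheory.Etale.Field
import Mathlib.RingTheory.Kaehler.TensorProduct
import Mathlib.RingTheory.LocalRing.Module
import Mathlib.RingTheory.Finiteness.ModuleFinitePresentation

/-!
Finite unramified and étale algebras over local rings.
-/

universe u

open TensorProduct IsLocalRing

namespace Groth.Agent.Unr55

theorem formallyUnramified_iff_etale_residue (A B : Type u) [CommRing A] [IsLocalRing A]
    [CommRing B] [Algebra A B] [Module.Finite A B] :
    Algebra.FormallyUnramified A B ↔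
      Algebra.Etale (ResidueField A) (ResidueField A ⊗[A] B) := by
  constructor
  · intro _
    have : Algebra.FormallyEtale (ResidueField A) (ResidueField A ⊗[A] B) :=
      Algebra.FormallyEtale.iff_formallyUnramified_of_field.mpr inferInstance
    exact ⟨inferInstance, Algebra.FinitePresentation.of_finiteType.mp inferInstance⟩
  · intro _
    let := Algebra.TensorProduct.rightAlgebra (R := A) (A := ResidueField A) (B := B)
    let e := KaehlerDifferential.tensorKaehlerEquivBase A (ResidueField A) B (ResidueField A ⊗[A] B)
    have : Subsingleton (ResidueField A ⊗[A] KaehlerDifferential A B) := e.toEquiv.subsingleton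
    have : Module.Finite A (KaehlerDifferential A B) := Module.Finite.trans B _
    exact ⟨IsLocalRing.subsingleton_tensorProduct.mp ‹_›⟩

theorem etale_iff_flat_and_etale_residue (A B : Type u) [CommRing A] [IsLocalRing A]
    [CommRing B] [Algebra A B] [Module.Finite A B] :
    Algebra.Etale A B ↔
      Module.Flat A B ∧ Algebra.Etale (ResidueField A) (ResidueField A ⊗[A] B) := by
  refine ⟨fun _ ↦ ⟨inferInstance, inferInstance⟩, fun ⟨_, h⟩ ↦ ?_⟩
  have := (formallyUnramified_iff_etale_residue A B).mpr h
  have : Module.Free A B := Module.free_of_flat_of_isLocalRing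
  have : Module.FinitePresentation A B := Module.finitePresentation_of_projective A B
  exact Algebra.Etale.of_formallyUnramified_of_flat

end Groth.Agent.Unr55
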