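import Groth.Agent.Unr55.Coordinates
import Mathlib.RingTheory.Regular.RegularSequence

/-!
An algebra is smooth at the points of a smooth closed subscheme cut out by a regular sequence.
-/

universe u

namespace Groth.Agent.Unr55.RegSm

/-- Weak regularity of a sequence modulo an ideal, elementwise. -/
def WR {R : Type u} [CommRing R] (K : Ideal R) (rs : List R) : Prop :=
  ∀ (i : ℕ) (h : i < rs.length) (c : R),
    rs[i] * c ∈ K ⊔ Ideal.ofList (rs.take i) → c ∈ K ⊔ Ideal.ofList (rs.take i)

theorem wr_of_isWeaklyRegular {R : Type u} [CommRing R] {rs : List R}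
    (h : RingTheory.Sequence.IsWeaklyRegular R rs) : WR ⊥ rs := by
  intro i hi c hc
  rw [bot_sup_eq] at hc ⊢
  have h1 := h.regular_mod_prev i hi
  rw [isSMulRegular_quotient_iff_mem_of_smul_mem] at h1
  simpa only [smul_eq_mul, Ideal.mul_top] using h1 c (by simpa only [smul_eq_mul, Ideal.mul_top] using hc)

theorem map_ofList_take {R S : Type u} [CommRing R] [CommRing S] (f : R →+* S) (rs : List R) (i : ℕ) :
    Ideal.ofList ((rs.map f).take i) = (Ideal.ofList (rs.take i)).map f := by
  rw [← List.map_take, Ideal.map_ofList]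

theorem wr_lift {P B : Type u} [CommRing P] [CommRing B] (f : P →+* B) (hf : Function.Surjective f)
    {rl : List P} (h : WR ⊥ (rl.map f)) : WR (RingHom.ker f) rl := by
  intro i hi c hc
  have key : ∀ x, x ∈ RingHom.ker f ⊔ Ideal.ofList (rl.take i) ↔
      f x ∈ (⊥ : Ideal B) ⊔ Ideal.ofList ((rl.map f).take i) := fun x => by
    rw [bot_sup_eq, map_ofList_take, ← Ideal.mem_comap, Ideal.comap_map_of_surjective' f hf, sup_comm]
  rw [key] at hc ⊢
  refine h i (by rwa [List.length_map]) _ ?_
  rwa [List.getElem_map, ← map_mul]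

theorem wr_localization {R : Type u} [CommRing R] (M : Submonoid R) (S : Type u) [CommRing S] [Algebra R S]
    [IsLocalization M S] {K : Ideal R} {rs : List R} (h : WR K rs) :
    WR (K.map (algebraMap R S)) (rs.map (algebraMap R S)) := by
  intro i hi c hc
  rw [List.length_map] at hi
  rw [map_ofList_take, ← Ideal.map_sup] at hc ⊢
  obtain ⟨⟨p, s⟩, rfl⟩ := IsLocalization.mk'_surjective M c
  rw [List.getElem_map, ← IsLocalization.mk'_one (M := M) S (rs[i]), ← IsLocalization.mk'_mul,
    IsLocalization.mk'_mem_map_algebraMap_iff] at hc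
  obtain ⟨u, hu, hup⟩ := hc
  rw [IsLocalization.mk'_mem_map_algebraMap_iff]
  exact ⟨u, hu, h i hi _ (by rwa [mul_left_comm])⟩

/-- A finitely generated ideal lying between an ideal `M` and `M` plus a sequence regular modulo it
equals `M`. -/
theorem eq_of_wr {L : Type u} [CommRing L] [IsLocalRing L] :
    ∀ (rs : List L), (∀ a ∈ rs, a ∈ IsLocalRing.maximalIdeal L) → ∀ (K M : Ideal L), K.FG → M ≤ K →
      K ≤ M ⊔ Ideal.ofList rs → WR K rs → K = M := by
  intro rs
  induction rs with
  | nil =>
    intro _ K M _ hMK hKM _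
    rw [Ideal.ofList_nil, sup_bot_eq] at hKM
    exact le_antisymm hKM hMK
  | cons a rest ih =>
    intro hm K M hK hMK hKM hwr
    have h1 : K ⊔ Ideal.span {a} = M ⊔ Ideal.span {a} := by
      refine ih (fun x hx => hm x (List.mem_cons_of_mem a hx)) _ _ (Submodule.FG.sup hK (Submodule.fg_span_singleton a))
        (sup_le_sup_right hMK _) ?_ ?_
      · rw [sup_assoc, ← Ideal.ofList_cons]
        exact sup_le hKM (le_sup_of_le_right (by rw [Ideal.ofList_cons]; exact le_sup_left))
      · intro i hi c hc
        have e : K ⊔ Ideal.span {a} ⊔ Ideal.ofList (rest.take i) =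
            K ⊔ Ideal.ofList ((a :: rest).take (i + 1)) := by
          rw [List.take_succ_cons, Ideal.ofList_cons, sup_assoc]
        rw [e] at hc ⊢
        exact hwr (i + 1) (by simpa using hi) c (by simpa using hc)
    refine le_antisymm (Submodule.le_of_le_smul_of_le_jacobson_bot hK
      (IsLocalRing.maximalIdeal_le_jacobson ⊥) fun x hx => ?_) hMK
    have hx' : x ∈ M ⊔ Ideal.span {a} := h1 ▸ Submodule.mem_sup_left hx
    obtain ⟨m, hm', y, hy, rfl⟩ := Submodule.mem_sup.mp hx'
    obtain ⟨c, rfl⟩ := Ideal.mem_span_singleton'.mp hy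
    have hac : a * c ∈ K := by
      simpa [mul_comm] using K.sub_mem hx (hMK hm')
    have hc : c ∈ K := by
      have := hwr 0 (by simp) c (by simpa using hac)
      simpa using this
    refine Submodule.add_mem_sup hm' ?_
    rw [mul_comm]
    exact Submodule.smul_mem_smul (hm a (List.mem_cons_self ..)) hc

theorem isSmoothAt_of_isWeaklyRegular (A : Type u) {B C : Type u} [CommRing A] [CommRing B] [CommRing C]
    [Algebra A B] [Algebra A C] [Algebra B C] [IsScalarTower A B C] [Algebra.FinitePresentation A B]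
    (hs : Function.Surjective (algebraMap B C)) (rs : List B) (hwr : WR ⊥ rs)
    (hker : RingHom.ker (algebraMap B C) = Ideal.ofList rs) (Q : Ideal C) [Q.IsPrime]
    (hQ : Algebra.IsSmoothAt A Q) : Algebra.IsSmoothAt A (Q.comap (algebraMap B C)) := by
  classical
  obtain ⟨n, f, hf, hfker⟩ := (‹Algebra.FinitePresentation A B›).out
  let P := MvPolynomial (Fin n) A
  let := f.toRingHom.toAlgebra
  have : IsScalarTower A P B := IsScalarTower.of_algebraMap_eq fun x => (f.commutes x).symm
  let := ((algebraMap B C).comp (algebraMap P B)).toAlgebra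
  have : IsScalarTower P B C := IsScalarTower.of_algebraMap_eq fun _ => rfl
  have : IsScalarTower A P C := IsScalarTower.of_algebraMap_eq fun x => by
    rw [IsScalarTower.algebraMap_apply P B C, ← IsScalarTower.algebraMap_apply A P B,
      ← IsScalarTower.algebraMap_apply A B C]
  let q₀ := Q.comap (algebraMap B C)
  let q := Q.comap (algebraMap P C)
  have hPB : Function.Surjective (algebraMap P B) := hf
  obtain ⟨rl, rfl⟩ : ∃ rl : List P, rl.map (algebraMap P B) = rs := ⟨rs.map (Function.surjInv hPB), by
    rw [List.map_map]; exact (List.map_congr_left fun x _ => Function.surjInv_eq hPB x).trans (List.map_id rs)⟩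
  have hkC : RingHom.ker (algebraMap P C) = RingHom.ker (algebraMap P B) ⊔ Ideal.ofList rl := by
    rw [IsScalarTower.algebraMap_eq P B C, ← RingHom.comap_ker, hker, ← Ideal.map_ofList,
      Ideal.comap_map_of_surjective' _ hPB, sup_comm]
  obtain ⟨s, hs'⟩ := (show (RingHom.ker (algebraMap P B)).FG from hfker)
  let S : Set P := ↑s ∪ {a | a ∈ rl}
  have hS : RingHom.ker (algebraMap P C) = Ideal.span S := by
    rw [hkC, Ideal.span_union, ← hs']
  have hsm : Algebra.IsSmoothAt A q := by
    infer_instance
  let L := Localization.AtPrime q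
  have hPC : Function.Surjective (algebraMap P C) := hs.comp hPB
  obtain ⟨t, ht, hli⟩ := (Coord.isSmoothAt_iff A (P := P) (C := C) hPC
    (by rw [hkC]; exact Submodule.FG.sup hfker (Submodule.fg_span (List.finite_toSet rl))) Q hsm
    (fun x : ↥S => x.1) (by rw [hS, Ideal.map_span, Set.image_eq_range])).mp hQ
  let t' := t.filter fun x => x.1 ∈ s
  have hK : (RingHom.ker (algebraMap P B)).map (algebraMap P L) =
      Ideal.span (Set.range fun i : ↥t' => algebraMap P L i.1.1) := by
    refine eq_of_wr (rl.map (algebraMap P L)) ?_ _ _ (hfker.map _) ?_ ?_ ?_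
    · rintro _ ha
      obtain ⟨a, ha', rfl⟩ := List.mem_map.mp ha
      refine (IsLocalization.AtPrime.to_map_mem_maximal_iff L q a).mpr ?_
      show algebraMap P C a ∈ Q
      rw [show algebraMap P C a = 0 from RingHom.mem_ker.mp (hS ▸ Ideal.subset_span (Or.inr ha'))]
      exact zero_mem Q
    · rw [Ideal.span_le]
      rintro _ ⟨i, rfl⟩
      exact Ideal.mem_map_of_mem _ (hs' ▸ Ideal.subset_span (Finset.mem_filter.mp i.2).2)
    · refine (Ideal.map_mono (hkC.symm ▸ le_sup_left)).trans (ht.le.trans ?_)
      rw [Ideal.span_le]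
      rintro _ ⟨i, hi, rfl⟩
      by_cases his : i.1 ∈ s
      · exact Submodule.mem_sup_left (Ideal.subset_span ⟨⟨i, Finset.mem_filter.mpr ⟨hi, his⟩⟩, rfl⟩)
      · refine Submodule.mem_sup_right (Ideal.subset_span ?_)
        exact List.mem_map.mpr ⟨i.1, i.2.resolve_left his, rfl⟩
    · exact wr_localization q.primeCompl L (wr_lift _ hPB hwr)
  have hli' : LinearIndependent (IsLocalRing.ResidueField L) (fun i : ↥t' => Coord.δ A q i.1.1) :=
    hli.comp (fun i : ↥t' => (⟨i.1, (Finset.mem_filter.mp i.2).1⟩ : ↥t))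
      fun i j h => Subtype.ext (show i.1 = j.1 from congrArg (fun z : ↥t => z.1) h)
  exact Coord.isSmoothAt_of_linearIndependent A hPB hfker q₀ hsm (fun i : ↥t' => i.1.1)
    hK hli'

end Groth.Agent.Unr55.RegSm
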