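import Mathlib.RingTheory.Unramified.LocalStructure
import Mathlib.RingTheory.Smooth.StandardSmoothOfFree
import Mathlib.RingTheory.Smooth.Flat
import Mathlib.RingTheory.QuasiFinite.Basic
import Mathlib.RingTheory.Ideal.GoingDown
import Mathlib.RingTheory.Etale.Locus
import Mathlib.RingTheory.Localization.Integral
import Mathlib.RingTheory.Polynomial.Quotient
import Mathlib.RingTheory.AlgebraicIndependent.Basic
import Mathlib.RingTheory.Algebraic.MvPolynomial

/-!
Smooth and quasi-finite at a point implies étale there.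
-/

universe u

open MvPolynomial

namespace Groth.Agent.Unr55

theorem isEmpty_of_quasiFiniteAt_etale {A T : Type u} [CommRing A] [CommRing T] {σ : Type}
    [Algebra A T] [Algebra (MvPolynomial σ A) T] [IsScalarTower A (MvPolynomial σ A) T]
    [Module.Flat (MvPolynomial σ A) T] (q : Ideal T) [q.IsPrime] [Algebra.QuasiFiniteAt A q] :
    IsEmpty σ := by
  refine ⟨fun i ↦ ?_⟩
  let p := q.under A
  have : q.LiesOver p := ⟨rfl⟩
  let P := q.under (MvPolynomial σ A)
  let P₀ : Ideal (MvPolynomial σ A) := RingHom.ker (MvPolynomial.map (σ := σ) (Ideal.Quotient.mk p))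
  have : P₀.IsPrime := RingHom.ker_isPrime _
  have hP₀ : P₀ = p.map C := by
    show RingHom.ker (MvPolynomial.map (σ := σ) (Ideal.Quotient.mk p)) = _
    simp only [MvPolynomial.ker_map, Ideal.mk_ker]
  have hle : P₀ ≤ P := by
    rw [hP₀, Ideal.map_le_iff_le_comap]
    intro a ha
    show algebraMap _ T (C a) ∈ q
    rwa [← MvPolynomial.algebraMap_eq, ← IsScalarTower.algebraMap_apply]
  obtain ⟨q', hq'le, hq', hover⟩ := Ideal.exists_ideal_le_liesOver_of_le (S := T) q hle
  have hqA : q'.under A = q.under A := by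
    rw [Ideal.under_def, IsScalarTower.algebraMap_eq A (MvPolynomial σ A) T, ← Ideal.comap_comap,
      show q'.comap (algebraMap (MvPolynomial σ A) T) = P₀ from hover.over.symm]
    ext a
    rw [Ideal.mem_comap, MvPolynomial.algebraMap_eq]
    show MvPolynomial.map (Ideal.Quotient.mk p) (C a) = 0 ↔ _
    rw [MvPolynomial.map_C, MvPolynomial.C_eq_zero, Ideal.Quotient.eq_zero_iff_mem]
  have hqq : q' = q := Algebra.QuasiFiniteAt.eq_of_le_of_under_eq hq'le hqA
  subst hqq
  let := Localization.AtPrime.algebraOfLiesOver p q'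
  let : Algebra (A ⧸ p) q'.ResidueField :=
    ((algebraMap p.ResidueField q'.ResidueField).comp (algebraMap (A ⧸ p) p.ResidueField)).toAlgebra
  have : IsScalarTower (A ⧸ p) p.ResidueField q'.ResidueField := .of_algebraMap_eq' rfl
  have : IsScalarTower A (A ⧸ p) q'.ResidueField := .of_algebraMap_eq fun a ↦
    IsScalarTower.algebraMap_apply A p.ResidueField q'.ResidueField a
  let ξ : q'.ResidueField := algebraMap T q'.ResidueField (algebraMap (MvPolynomial σ A) T (X i))
  obtain ⟨G, hG0, hG⟩ := (IsFractionRing.isAlgebraic_iff (A ⧸ p) p.ResidueField q'.ResidueField).mpr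
    (Algebra.IsAlgebraic.isAlgebraic (R := p.ResidueField) ξ)
  obtain ⟨G, rfl⟩ := Polynomial.map_surjective _ Ideal.Quotient.mk_surjective G
  have hH : Polynomial.aeval (X i : MvPolynomial σ A) G ∈ P₀ := by
    rw [hover.over]
    show algebraMap _ T _ ∈ q'
    rw [← Ideal.algebraMap_residueField_eq_zero, ← Polynomial.aeval_algebraMap_apply,
      ← Polynomial.aeval_algebraMap_apply, ← Polynomial.aeval_map_algebraMap (A ⧸ p)]
    exact hG
  apply hG0
  apply (transcendental_iff_injective.mp (MvPolynomial.transcendental_X (A ⧸ p) i))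
  rw [map_zero, ← RingHom.mem_ker.mp hH, ← Ideal.Quotient.algebraMap_eq,
    Polynomial.aeval_map_algebraMap]
  conv_rhs => rw [Polynomial.aeval_def, Polynomial.hom_eval₂]
  rw [Polynomial.aeval_def, MvPolynomial.map_X]
  congr 1
  exact RingHom.ext fun a ↦ (MvPolynomial.map_C _ a).symm

theorem isEtaleAt_of_isSmoothAt_of_quasiFiniteAt {A B : Type u} [CommRing A] [CommRing B]
    [Algebra A B] [Algebra.FinitePresentation A B] (q : Ideal B) [q.IsPrime]
    [Algebra.QuasiFiniteAt A q] [Algebra.IsSmoothAt A q] : Algebra.IsEtaleAt A q := by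
  obtain ⟨g, hg, n, _, _, _⟩ :=
    Algebra.IsSmoothAt.exists_isStandardEtale_mvPolynomial (R := A) (p := q)
  let T := Localization.Away g
  let q₁ := q.map (algebraMap B T)
  have hdisj : Disjoint ((Submonoid.powers g : Submonoid B) : Set B) q :=
    (Ideal.disjoint_powers_iff_notMem_of_isPrime _).mpr hg
  have : q₁.IsPrime := IsLocalization.isPrime_of_isPrime_disjoint (.powers g) _ _ ‹_› hdisj
  have : q₁.LiesOver q :=
    ⟨(IsLocalization.under_map_of_isPrime_disjoint (.powers g) _ ‹_› hdisj).symm⟩
  have : Algebra.QuasiFiniteAt A q₁ :=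
    Algebra.QuasiFiniteAt.of_surjectiveOnStalks_of_liesOver (R := A) q
      (RingHom.surjectiveOnStalks_of_isLocalization (.powers g) T) q₁
  have := isEmpty_of_quasiFiniteAt_etale (A := A) (σ := Fin n) q₁
  have : Algebra.Etale A (MvPolynomial (Fin n) A) :=
    .of_equiv (MvPolynomial.isEmptyAlgEquiv A (Fin n)).symm
  have : Algebra.Etale A T := Algebra.Etale.comp A (MvPolynomial (Fin n) A) T
  exact Algebra.basicOpen_subset_etaleLocus_iff_etale.mpr this (show (⟨q, ‹_›⟩ : PrimeSpectrum B) ∈ PrimeSpectrum.basicOpen g from hg)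

end Groth.Agent.Unr55
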