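import Mathlib.AlgebraicGeometry.Morphisms.Etale
import Mathlib.AlgebraicGeometry.Morphisms.FlatMono
import Mathlib.AlgebraicGeometry.Morphisms.FormallyUnramified
import Groth.Prelude.Def_SchLoc

/-!
Unramified at a point and local isomorphisms.
-/

universe u

open CategoryTheory Limits AlgebraicGeometry

namespace Groth.Agent.Unr55

set_option backward.isDefEq.respectTransparency.types false in
theorem formallyUnramified_restrict_iff {X Y : Scheme.{u}} (f : X ⟶ Y) [LocallyOfFiniteType f]
    (U : X.Opens) :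
    FormallyUnramified (U.ι ≫ f) ↔ IsOpenImmersion (U.ι ≫ pullback.diagonal f) := by
  let m : pullback (U.ι ≫ f) (U.ι ≫ f) ⟶ pullback f f :=
    pullback.map (U.ι ≫ f) (U.ι ≫ f) f f U.ι U.ι (𝟙 Y) (Category.comp_id _) (Category.comp_id _)
  have key : U.ι ≫ pullback.diagonal f = pullback.diagonal (U.ι ≫ f) ≫ m := by
    ext1 <;> simp only [Category.assoc, m, pullback.lift_fst, pullback.lift_snd,
      pullback.diagonal_fst, pullback.diagonal_snd, pullback.diagonal_fst_assoc,
      pullback.diagonal_snd_assoc, Category.comp_id]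
  rw [key]
  refine ⟨fun _ ↦ inferInstance, fun _ ↦ ?_⟩
  have : IsOpenImmersion (pullback.diagonal (U.ι ≫ f)) := IsOpenImmersion.of_comp _ m
  infer_instance

set_option backward.isDefEq.respectTransparency.types false in
/-- A section is a local isomorphism wherever it lands in the unramified locus. -/
theorem isLocalIsoAt_section {X Y Y' : Scheme.{u}} (f : X ⟶ Y) [LocallyOfFiniteType f]
    (U : X.Opens) [FormallyUnramified (U.ι ≫ f)] (g : Y' ⟶ Y) (s' : Y' ⟶ pullback f g)
    (hs : s' ≫ pullback.snd f g = 𝟙 Y') (y' : Y') (hy : pullback.fst f g (s' y') ∈ U) :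
    SchLoc.IsLocalIsoAt s' y' := by
  let U' : (pullback f g).Opens := pullback.fst f g ⁻¹ᵁ U
  refine ⟨s' ⁻¹ᵁ U', hy, ?_⟩
  let σ := s'.resLE U' (s' ⁻¹ᵁ U') le_rfl
  let π := U'.ι ≫ pullback.snd f g
  have : FormallyUnramified π := by
    have sq : IsPullback (pullback.fst f g ∣_ U) U'.ι U.ι (pullback.fst f g) :=
      isPullback_morphismRestrict (pullback.fst f g) U
    exact MorphismProperty.of_isPullback (P := @FormallyUnramified)
      (sq.paste_vert (IsPullback.of_hasPullback f g)) ‹_›
  have hσ : σ ≫ π = (s' ⁻¹ᵁ U').ι := by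
    simp only [σ, π, Scheme.Hom.resLE_comp_ι_assoc, hs, Category.comp_id]
  have : AlgebraicGeometry.Etale (σ ≫ π) := by rw [hσ]; infer_instance
  have : AlgebraicGeometry.Etale σ := Etale.of_comp σ π
  have : Mono σ := mono_of_mono_fac hσ
  have : IsOpenImmersion σ := IsOpenImmersion.of_flat_of_mono σ
  have : (s' ⁻¹ᵁ U').ι ≫ s' = σ ≫ U'.ι := (Scheme.Hom.resLE_comp_ι _ _).symm
  rw [this]
  infer_instance

end Groth.Agent.Unr55
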