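import Groth.Agent.EtLim45.GaSys

/-!
The system of multiplicative groups.
-/

set_option autoImplicit false
set_option backward.isDefEq.respectTransparency.types false
set_option linter.unusedSectionVars false
universe u

open CategoryTheory CategoryTheory.Limits AlgebraicGeometry Opposite
open Groth.Agent.Unr55.EtSh

namespace Groth.Agent.Unr55.GmLim

open Groth.Agent.EtLim45

variable {ι : Type u} [Preorder ι] {Xs : ιᵒᵖ ⥤ Scheme.{u}}

/-- The system of multiplicative groups. -/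
noncomputable def gmSys : Sys Xs where
  P := (leftFunctor (Xs := Xs)).op ⋙ EtCoh.ΓUnits
  isSheaf j := (EtCoh.Gm (St Xs j)).property

/-- On a stage it is the multiplicative group. -/
noncomputable def θGm (j : ι) : (gmSys (Xs := Xs)).F j ≅ EtCoh.Gm (St Xs j) := Iso.refl _

variable (c : Cone Xs)

/-- Pullback of units to the limit. -/
noncomputable def gmMap : (gmSys (Xs := Xs)).P ⟶ (Phi c).op ⋙ (EtCoh.Gm c.pt).obj where
  app A := EtCoh.ΓUnits.map
    (pullback.fst A.unop.obj.hom (pr c A.unop.idx) : ((Phi c).obj A.unop).left ⟶ A.unop.obj.left).op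
  naturality A B f := by
    change EtCoh.ΓUnits.map f.unop.left.op ≫ EtCoh.ΓUnits.map _ = EtCoh.ΓUnits.map _ ≫ EtCoh.ΓUnits.map ((Phi c).map f.unop).left.op
    exact (EtCoh.ΓUnits.map_comp _ _).symm.trans
      ((congrArg (fun q => EtCoh.ΓUnits.map (Quiver.Hom.op q)) (Phi_fst c f.unop).symm).trans
        (EtCoh.ΓUnits.map_comp _ _))

/-- The function underlying a unit. -/
noncomputable def val {X : Scheme.{u}} (z : EtCoh.ΓUnits.obj (op X)) : Γ(X, ⊤) :=
  (Additive.toMul z.down).val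

theorem val_map {X Y : Scheme.{u}} (f : X ⟶ Y) (z : EtCoh.ΓUnits.obj (op Y)) :
    val (EtCoh.ΓUnits.map f.op z) = f.appTop (val z) := rfl

theorem val_ext {X : Scheme.{u}} {z w : EtCoh.ΓUnits.obj (op X)} (h : val z = val w) : z = w :=
  ULift.ext _ _ (Additive.toMul.injective (Units.ext h))

/-- The unit of a function with a given inverse. -/
noncomputable def mkUnit {X : Scheme.{u}} (a b : Γ(X, ⊤)) (h : a * b = 1) : EtCoh.ΓUnits.obj (op X) :=
  ULift.up (Additive.ofMul (Units.mkOfMulEqOne a b h))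

variable [IsDirected ι (· ≤ ·)] [Nonempty ι]
  [∀ (a b : ιᵒᵖ) (h : a ⟶ b), IsAffineHom (Xs.map h)]
  [∀ a, CompactSpace ↥(Xs.obj a)] [∀ a, QuasiSeparatedSpace ↥(Xs.obj a)] (hc : IsLimit c)

/-- The projection on the limit, in the form used by the system. -/
noncomputable def fstP (A : Obj Xs) : ((Phi c).obj A).left ⟶ A.obj.left :=
  pullback.fst A.obj.hom (pr c A.idx)

theorem fstP_nat {A B : Obj Xs} (f : A ⟶ B) (y : Γ(B.obj.left, ⊤)) :
    (fstP c A).appTop (f.left.appTop y) = ((Phi c).map f).left.appTop ((fstP c B).appTop y) :=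
  (congrArg (fun q => q.appTop y) (Phi_fst c f)).symm

include hc in
theorem exists_stage_unit {A : Obj Xs} (hA : QQ A) (z : EtCoh.ΓUnits.obj (op ((Phi c).obj A).left)) :
    ∃ (B : Obj Xs) (f : B ⟶ A) (y : EtCoh.ΓUnits.obj (op B.obj.left)),
      IsIso ((Phi c).map f) ∧ val (EtCoh.ΓUnits.map (fstP c B).op y) = ((Phi c).map f).left.appTop (val z) := by
  obtain ⟨l₁, h₁, t₁, ht₁⟩ := exists_stage_function c hc hA (val z)
  let B₁ : Obj Xs := ⟨l₁, (EtCoh.bc (tr Xs h₁)).obj A.obj⟩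
  let f₁ : B₁ ⟶ A := proj h₁ A.obj
  let i : Γ(((Phi c).obj A).left, ⊤) := (Additive.toMul z.down).inv
  obtain ⟨l₂, h₂, t₂, ht₂⟩ := exists_stage_function c hc (hA.bc h₁) (((Phi c).map f₁).left.appTop i)
  let B₂ : Obj Xs := ⟨l₂, (EtCoh.bc (tr Xs h₂)).obj B₁.obj⟩
  let f₂ : B₂ ⟶ B₁ := proj h₂ B₁.obj
  change (fstP c B₁).appTop t₁ = ((Phi c).map f₁).left.appTop (val z) at ht₁
  change (fstP c B₂).appTop t₂ = ((Phi c).map f₂).left.appTop (((Phi c).map f₁).left.appTop i) at ht₂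
  let g : Γ(B₂.obj.left, ⊤) := f₂.left.appTop t₁ * t₂ - 1
  have hg : (fstP c B₂).appTop g = 0 := by
    simp only [g, map_sub, map_mul, map_one, fstP_nat, ht₁, ht₂]
    rw [← map_mul, ← map_mul, show val z * i = 1 from (Additive.toMul z.down).val_inv, map_one, map_one,
      sub_self]
  obtain ⟨l₃, h₃, hl⟩ := exists_stage_function_zero c hc ((hA.bc h₁).bc h₂).1 g hg
  let B₃ : Obj Xs := ⟨l₃, (EtCoh.bc (tr Xs h₃)).obj B₂.obj⟩
  let f₃ : B₃ ⟶ B₂ := proj h₃ B₂.obj
  have := isIso_Phi_proj c h₁ A.obj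
  have := isIso_Phi_proj c h₂ B₁.obj
  have := isIso_Phi_proj c h₃ B₂.obj
  change f₃.left.appTop g = 0 at hl
  simp only [g, map_sub, map_mul, map_one, sub_eq_zero] at hl
  refine ⟨B₃, f₃ ≫ f₂ ≫ f₁, mkUnit _ _ hl, ?_, ?_⟩
  · rw [Functor.map_comp, Functor.map_comp]
    infer_instance
  · rw [val_map]
    change (fstP c B₃).appTop (f₃.left.appTop (f₂.left.appTop t₁)) = _
    rw [fstP_nat, fstP_nat, Functor.map_comp, Functor.map_comp, ht₁]
    rfl

include hc in
theorem stalkLim_gm : StalkLim c gmSys (gmMap c) := by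
  refine ⟨fun K _ _ η g => ?_, fun K _ _ η A t x h => ?_⟩
  · obtain ⟨W, t, z, rfl⟩ := exists_germ_eq η (EtCoh.Gm c.pt) g
    obtain ⟨A, g, s, hA, hg⟩ := exists_stage_nbhd hc W t
    obtain ⟨B, f, y, hf, hy⟩ := exists_stage_unit c hc hA ((EtCoh.Gm c.pt).obj.map g.op z)
    let p := (Phi c).map f
    refine ⟨B, (Scheme.pointSmallEtale η).fiber.map (inv p) s, y, ?_⟩
    have e : (gmMap c).app (op B) y = (EtCoh.Gm c.pt).obj.map p.op ((EtCoh.Gm c.pt).obj.map g.op z) :=
      val_ext hy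
    rw [e, germ_map, germ_map, ← ConcreteCategory.comp_apply ((Scheme.pointSmallEtale η).fiber.map (inv p)),
      ← Functor.map_comp, IsIso.inv_hom_id, CategoryTheory.Functor.map_id, ConcreteCategory.id_apply, hg]
  · obtain ⟨W, w, t', hw, hx⟩ := (germ_eq_zero_iff η (EtCoh.Gm c.pt) t _).1 h
    obtain ⟨B, f, g, s, hB, hs, hf⟩ := exists_stage_nbhd_over hc A w t'
    let y : EtCoh.ΓUnits.obj (op B.obj.left) := gmSys.P.map f.op x
    have hy : (gmMap c).app (op B) y = 0 := by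
      refine (NatTrans.naturality_apply (gmMap c) f.op x).trans ?_
      change (EtCoh.Gm c.pt).obj.map ((Phi c).map f).op ((gmMap c).app (op A) x) = 0
      rw [← hf, gmap_comp, hx, map_zero]
    have hy' : (fstP c B).appTop (val y - 1) = 0 := by
      rw [map_sub, map_one, sub_eq_zero]
      exact congrArg val hy
    obtain ⟨l, h', hl⟩ := exists_stage_function_zero c hc hB.1 (val y - 1) hy'
    let p := (Phi c).map (proj h' B.obj)
    have : IsIso p := isIso_Phi_proj c h' B.obj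
    refine ⟨⟨l, (EtCoh.bc (tr Xs h')).obj B.obj⟩, proj h' B.obj ≫ f,
      (Scheme.pointSmallEtale η).fiber.map (inv p) s, ?_, ?_⟩
    · rw [Functor.map_comp, ← hf, ← ConcreteCategory.comp_apply, ← Functor.map_comp]
      change (Scheme.pointSmallEtale η).fiber.map (inv p ≫ p ≫ g ≫ w) s = t
      rw [IsIso.inv_hom_id_assoc, Functor.map_comp, ConcreteCategory.comp_apply, hs, hw]
    · rw [map_sub, map_one, sub_eq_zero] at hl
      exact (pmap_comp gmSys _ _ x).trans (val_ext hl)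

/-- The limit theorem for the multiplicative group. -/
theorem H_limit_gm [∀ ⦃a b : ιᵒᵖ⦄ (h : a ⟶ b), PreservesFiniteLimits (EtCoh.pull (Xs.map h))]
    [∀ a, PreservesFiniteLimits (EtCoh.pull (c.π.app a))] (hc : IsLimit c) (n : ℕ) :
    (∀ ξ : EtCoh.H c.pt (EtCoh.Gm c.pt) n, ∃ (j : ι) (ξj : EtCoh.H (St Xs j) (EtCoh.Gm (St Xs j)) n),
      EtLim.HGmPull (pr c j) n ξj = ξ) ∧
    (∀ (j : ι) (ξj : EtCoh.H (St Xs j) (EtCoh.Gm (St Xs j)) n), EtLim.HGmPull (pr c j) n ξj = 0 →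
      ∃ (k : ι) (hk : j ≤ k), EtLim.HGmPull (tr Xs hk) n ξj = 0) := by
  obtain ⟨H1, H2⟩ := H_limit hc n gmSys (EtCoh.Gm c.pt) (gmMap c) (stalkLim_gm c hc)
  have wα : ∀ j, (EtCoh.pull (pr c j)).map (EtLim.GmPush (pr c j)) ≫
      (EtCoh.pullPushAdj (pr c j)).counit.app (EtCoh.Gm c.pt) = alphaAt c (S := gmSys) (gmMap c) j ≫ 𝟙 _ := fun j => by
    apply ((EtCoh.pullPushAdj (pr c j)).homEquiv _ _).injective
    rw [Category.comp_id, alphaAt]
    refine Eq.trans ?_ (Equiv.apply_symm_apply ((EtCoh.pullPushAdj (pr c j)).homEquiv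
      ((gmSys (Xs := Xs)).F j) (EtCoh.Gm c.pt)) (adjAt c (gmMap c) j)).symm
    refine ((EtCoh.pullPushAdj (pr c j)).homEquiv_naturality_left _ _).trans ?_
    rw [Adjunction.homEquiv_unit, Adjunction.right_triangle_components, Category.comp_id]
    exact sheaf_hom_ext fun V x => rfl
  have key : ∀ (j : ι) (x : EtCoh.H (St Xs j) ((gmSys (Xs := Xs)).F j) n),
      EtLim.HGmPull (pr c j) n x = Tv (gmMap c) j n x := fun j x =>
    (HpullThen_natural (pr c j) (EtLim.GmPush (pr c j)) (𝟙 _) _ _ (wα j) n x).trans (Abelian.Ext.comp_mk₀_id _)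
  refine ⟨fun ξ => ?_, fun j ξj h => ?_⟩
  · obtain ⟨j, x, rfl⟩ := H1 ξ
    exact ⟨j, x, key j x⟩
  · obtain ⟨k, hk, hk'⟩ := H2 j ξj ((key j ξj).symm.trans h)
    refine ⟨k, hk, ?_⟩
    have wφ : (EtCoh.pull (tr Xs hk)).map (EtLim.GmPush (tr Xs hk)) ≫
        (EtCoh.pullPushAdj (tr Xs hk)).counit.app (EtCoh.Gm (St Xs k)) = (gmSys (Xs := Xs)).phi hk ≫ 𝟙 _ := by
      apply ((EtCoh.pullPushAdj (tr Xs hk)).homEquiv _ _).injective
      rw [Category.comp_id, Sys.phi]
      refine Eq.trans ?_ (Equiv.apply_symm_apply ((EtCoh.pullPushAdj (tr Xs hk)).homEquiv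
        ((gmSys (Xs := Xs)).F j) ((gmSys (Xs := Xs)).F k)) ((gmSys (Xs := Xs)).trans hk)).symm
      refine ((EtCoh.pullPushAdj (tr Xs hk)).homEquiv_naturality_left _ _).trans ?_
      rw [Adjunction.homEquiv_unit, Adjunction.right_triangle_components, Category.comp_id]
      exact sheaf_hom_ext fun V x => rfl
    exact ((HpullThen_natural (tr Xs hk) (EtLim.GmPush (tr Xs hk)) (𝟙 _) _ _ wφ n ξj).trans
      (Abelian.Ext.comp_mk₀_id _)).trans hk'

end Groth.Agent.Unr55.GmLim
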