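import Groth.Agent.SchBasics.SmoothOmega
import Groth.Agent.Unr55.JacobiSmooth
import Groth.Agent.Unr55.StalkCrit

/-!
Fibre dimension of smooth morphisms as the rank of differentials of the local rings.
-/

universe u

open CategoryTheory AlgebraicGeometry TensorProduct
open Groth.Agent

namespace Groth.Agent.Unr55.SmoothRank

theorem exists_fibreDimAt_eq {X Y : Scheme.{u}} (f : X ⟶ Y) [Smooth f] (x : X) :
    letI := (f.stalkMap x).hom.toAlgebra
    Module.Free (X.presheaf.stalk x) Ω[X.presheaf.stalk x⁄Y.presheaf.stalk (f x)] ∧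
      Module.Finite (X.presheaf.stalk x) Ω[X.presheaf.stalk x⁄Y.presheaf.stalk (f x)] ∧
      FlatMor.fibreDimAt f x =
        ((Module.finrank (X.presheaf.stalk x) Ω[X.presheaf.stalk x⁄Y.presheaf.stalk (f x)] : ℕ) : WithBot ℕ∞) := by
  obtain ⟨V, hV, U, hU, hxU, e, hst⟩ := Smooth.exists_isStandardSmooth f x
  let q := hU.primeIdealOf ⟨x, hxU⟩
  let p := hV.primeIdealOf ⟨f x, e hxU⟩
  let R := Γ(Y, V)
  let S := Γ(X, U)
  let A := Y.presheaf.stalk (f x)
  let B := X.presheaf.stalk x
  let : Algebra R S := (f.appLE V U e).hom.toAlgebra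
  let : Algebra A B := (f.stalkMap x).hom.toAlgebra
  let : Algebra S B := TopCat.Presheaf.algebra_section_stalk X.presheaf (⟨x, hxU⟩ : U)
  let : Algebra R A := TopCat.Presheaf.algebra_section_stalk Y.presheaf (⟨f x, e hxU⟩ : V)
  let : Algebra R B := ((algebraMap S B).comp (algebraMap R S)).toAlgebra
  have : IsScalarTower R S B := .of_algebraMap_eq' rfl
  have : IsScalarTower R A B := .of_algebraMap_eq' <| by
    change (X.presheaf.germ U x hxU).hom.comp (f.appLE V U e).hom =
      (f.stalkMap x).hom.comp (Y.presheaf.germ V (f x) (e hxU)).hom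
    rw [← CommRingCat.hom_comp, ← CommRingCat.hom_comp]
    congr 1
    rw [Scheme.Hom.germ_stalkMap, Scheme.Hom.appLE, Category.assoc, TopCat.Presheaf.germ_res]
  have : IsLocalization.AtPrime B q.asIdeal := hU.isLocalization_stalk ⟨x, hxU⟩
  have : IsLocalization.AtPrime A p.asIdeal := hV.isLocalization_stalk ⟨f x, e hxU⟩
  have : Algebra.IsStandardSmooth R S := hst
  obtain ⟨ι, σ, hσ, hι, ⟨P⟩⟩ := Algebra.IsStandardSmooth.out (R := R) (S := S)
  have := hσ; have := hι
  have hn : Algebra.IsStandardSmoothOfRelativeDimension P.dimension R S :=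
    P.isStandardSmoothOfRelativeDimension rfl
  have hdim := SchBasics.fibreDimAt_eq_of_standard hU hV e P.dimension hn x hxU
  have : Nontrivial S := (X.presheaf.germ U x hxU).hom.domain_nontrivial
  let b := Module.finBasisOfFinrankEq S Ω[S⁄R] (Module.finrank_eq_of_rank_eq
    (Algebra.IsStandardSmoothOfRelativeDimension.rank_kaehlerDifferential P.dimension))
  have : Algebra.FormallyEtale S B := .of_isLocalization q.asIdeal.primeCompl
  have : Algebra.FormallyUnramified R A := .of_isLocalization p.asIdeal.primeCompl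
  let e1 : B ⊗[S] Ω[S⁄R] ≃ₗ[B] Ω[B⁄R] := KaehlerDifferential.tensorKaehlerEquivOfFormallyEtale R S B
  have hbij : Function.Bijective (KaehlerDifferential.map R A B B) := by
    refine ⟨(injective_iff_map_eq_zero _).2 fun z hz => ?_, KaehlerDifferential.map_surjective R A B⟩
    obtain ⟨w, rfl⟩ := (KaehlerDifferential.exact_mapBaseChange_map R A B z).1 hz
    have : Subsingleton (B ⊗[A] Ω[A⁄R]) := inferInstance
    rw [Subsingleton.elim w 0, map_zero]
  let bB : Module.Basis (Fin P.dimension) B Ω[B⁄A] :=
    ((b.baseChange B).map e1).map (LinearEquiv.ofBijective _ hbij)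
  refine ⟨.of_basis bB, .of_basis bB, ?_⟩
  rw [hdim, Module.finrank_eq_card_basis bB, Fintype.card_fin]

section Ring

variable {A B C : Type u} [CommRing A] [CommRing B] [CommRing C] [Algebra A B] [Algebra B C] [Algebra A C]
  [IsScalarTower A B C] [Nontrivial C] [IsLocalRing B]
  [Module.Free B Ω[B⁄A]] [Module.Finite B Ω[B⁄A]]

theorem finrank_eq_add [Algebra.FormallySmooth B C] [Module.Free C Ω[C⁄B]] [Module.Finite C Ω[C⁄B]] :
    Module.finrank C Ω[C⁄A] = Module.finrank C Ω[C⁄B] + Module.finrank B Ω[B⁄A] := by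
  have hinj : Function.Injective (KaehlerDifferential.mapBaseChange A B C) := by
    rw [injective_iff_map_eq_zero]
    intro x hx
    obtain ⟨x, rfl⟩ := (Algebra.H1Cotangent.exact_δ_mapBaseChange A B C x).mp hx
    rw [Subsingleton.elim x 0, map_zero]
  have hsurj := KaehlerDifferential.map_surjective A B C
  obtain ⟨e, -⟩ := ((KaehlerDifferential.exact_mapBaseChange_map A B C).splitSurjectiveEquiv hinj
    ⟨_, (Module.projective_lifting_property (KaehlerDifferential.map A B C C) LinearMap.id hsurj).choose_spec⟩)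
  rw [e.finrank_eq, Module.finrank_prod, Module.finrank_baseChange, add_comm]

theorem formallyEtale_iff_finrank_eq [Algebra.FormallySmooth A C] [Algebra.FormallyUnramified B C]
    [Module.Free C Ω[C⁄A]] [Module.Finite C Ω[C⁄A]] :
    Algebra.FormallyEtale B C ↔ Module.finrank B Ω[B⁄A] = Module.finrank C Ω[C⁄A] := by
  rw [Unr55.formallyEtale_iff_bijective_mapBaseChange (A := A)]
  have hsurj : Function.Surjective (KaehlerDifferential.mapBaseChange A B C) := fun y =>
    ((KaehlerDifferential.exact_mapBaseChange_map A B C) y).mp (Subsingleton.elim _ _)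
  constructor
  · intro h
    rw [← (LinearEquiv.ofBijective _ h).finrank_eq, Module.finrank_baseChange]
  · intro h
    refine ⟨?_, hsurj⟩
    let e' : Ω[C⁄A] ≃ₗ[C] C ⊗[B] Ω[B⁄A] := LinearEquiv.ofFinrankEq _ _ (by rw [Module.finrank_baseChange, h])
    exact Function.Injective.of_comp (f := e'.toLinearMap) (OrzechProperty.injective_of_surjective_endomorphism
      (e'.toLinearMap ∘ₗ KaehlerDifferential.mapBaseChange A B C) (e'.surjective.comp hsurj))

end Ring

end Groth.Agent.Unr55.SmoothRank
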