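import Groth.Agent.Unr55.GeomUnibranch
import Groth.Agent.FlatMor67.GenericFibre
import Mathlib

/-!
# Connectedness of open subsets of a locally Noetherian scheme from connectedness at each point
-/

set_option autoImplicit false
open CategoryTheory Limits AlgebraicGeometry TopologicalSpace
open scoped TensorProduct
universe u

namespace Groth.Agent.Unr55

variable {X Y : Scheme.{u}}

/-- a set stable under specialization and generalization in a locally Noetherian scheme is closed -/
theorem isClosed_of_stable [IsLocallyNoetherian X] (P : Set X)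
    (hP : ∀ z x : X, z ⤳ x → (z ∈ P ↔ x ∈ P)) : IsClosed P := by
  rw [← isOpen_compl_iff, isOpen_iff_forall_mem_open]
  intro x hx
  obtain ⟨W, hW, hxW, -⟩ := exists_isAffineOpen_mem_and_subset (x := x) (U := ⊤) trivial
  have : IsNoetherianRing Γ(X, W) := IsLocallyNoetherian.component_noetherian ⟨W, hW⟩
  have : NoetherianSpace W := noetherianSpace_of_isAffineOpen W hW
  have : QuasiSober W := inferInstanceAs (QuasiSober W.toScheme)
  let P' : Set W := Subtype.val ⁻¹' P
  have hunion : P' = ⋃₀ {Z ∈ irreducibleComponents W | Z ⊆ P'} := by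
    refine Set.Subset.antisymm (fun w hw => ?_) (Set.sUnion_subset fun Z hZ => hZ.2)
    refine ⟨irreducibleComponent w,
      ⟨irreducibleComponent_mem_irreducibleComponents w, fun v hv => ?_⟩, mem_irreducibleComponent⟩
    have hg := (isIrreducible_irreducibleComponent (x := w)).isGenericPoint_genericPoint
      isClosed_irreducibleComponent
    have h1 := (hP _ _ ((hg.specializes mem_irreducibleComponent).map continuous_subtype_val)).2 hw
    exact (hP _ _ ((hg.specializes hv).map continuous_subtype_val)).1 h1
  have hclosed : IsClosed P' := by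
    rw [hunion]
    exact (Set.sUnion_eq_biUnion ▸ Set.Finite.isClosed_biUnion
      (NoetherianSpace.finite_irreducibleComponents.subset fun Z hZ => hZ.1)
      fun Z hZ => isClosed_of_mem_irreducibleComponents _ hZ.1)
  refine ⟨Subtype.val '' P'ᶜ, ?_, W.isOpen.isOpenMap_subtype_val _ hclosed.isOpen_compl,
    ⟨x, hxW⟩, hx, rfl⟩
  rintro _ ⟨w, hw, rfl⟩
  exact hw

/-- connectedness from connectedness at every point -/
theorem isConnected_of_local [IsLocallyNoetherian X] [ConnectedSpace X] (S : Set X)
    (h : ∀ x : X, _root_.IsConnected (S ∩ {z | z ⤳ x})) : _root_.IsConnected S := by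
  have x₀ : X := Classical.arbitrary X
  refine ⟨(h x₀).nonempty.mono Set.inter_subset_left, ?_⟩
  rw [isPreconnected_iff_subset_of_disjoint]
  intro u v hu hv hS huv
  let P : Set X := {x | S ∩ {z | z ⤳ x} ⊆ u}
  have hstable : ∀ z x : X, z ⤳ x → (z ∈ P ↔ x ∈ P) := by
    intro z x hzx
    refine ⟨fun hz => ?_, fun hx w hw => hx ⟨hw.1, hw.2.trans hzx⟩⟩
    refine (isPreconnected_iff_subset_of_disjoint.1 (h x).isPreconnected u v hu hv
      (Set.inter_subset_left.trans hS) ?_).resolve_right fun hxv => ?_
    · exact Set.eq_empty_of_forall_notMem fun w hw => ((Set.ext_iff.1 huv w).1 ⟨hw.1.1, hw.2⟩).elim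
    · obtain ⟨w, hw⟩ := (h z).nonempty
      exact ((Set.ext_iff.1 huv w).1 ⟨hw.1, hz hw, hxv ⟨hw.1, hw.2.trans hzx⟩⟩).elim
  have hclopen : IsClopen P := ⟨isClosed_of_stable P hstable,
    isClosed_compl_iff.1 (isClosed_of_stable Pᶜ fun z x hzx => not_congr (hstable z x hzx))⟩
  rcases isClopen_iff.1 hclopen with hP | hP
  · right
    intro w hw
    refine (hS hw).resolve_left fun hwu => ?_
    have : w ∉ P := hP ▸ Set.notMem_empty w
    obtain ⟨z, hz, hzu⟩ := Set.not_subset.1 this
    exact hzu (hz.2.mem_open hu hwu)
  · left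
    intro w hw
    exact (hP ▸ Set.mem_univ w : w ∈ P) ⟨hw, specializes_rfl⟩

/-- transport of a connected piece along `Spec 𝒪_{X,x} → X` -/
theorem isConnected_inter_of_fromSpecStalk (x : X) (S : Set X)
    (h : _root_.IsConnected ((X.fromSpecStalk x) ⁻¹' S)) : _root_.IsConnected (S ∩ {z | z ⤳ x}) := by
  rw [← Scheme.range_fromSpecStalk, ← Set.image_preimage_eq_inter_range]
  exact h.image _ (X.fromSpecStalk x).continuous.continuousOn

/-- the stalk maps of a morphism with geometrically reduced fibres have geometrically reduced fibres -/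
theorem stalkMap_fiber_isGeometricallyReduced (f : X ⟶ Y) [hf : GeometricallyReduced f] (x : X) :
    letI := (f.stalkMap x).hom.toAlgebra
    ∀ (p : Ideal (Y.presheaf.stalk (f x))) [p.IsPrime],
      Algebra.IsGeometricallyReduced p.ResidueField (p.Fiber (X.presheaf.stalk x)) := by
  let := (f.stalkMap x).hom.toAlgebra
  intro p _
  rw [Algebra.isGeometricallyReduced_field_iff]
  let A := Y.presheaf.stalk (f x)
  let B := X.presheaf.stalk x
  let L := AlgebraicClosure p.ResidueField
  let φ : Spec (CommRingCat.of L) ⟶ Spec A := Spec.map (CommRingCat.ofHom (algebraMap A L))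
  let ψ : Spec B ⟶ Spec A := Spec.map (f.stalkMap x)
  let g := φ ≫ Y.fromSpecStalk (f x)
  have : AlgebraicGeometry.IsReduced (pullback f g) :=
    hf.geometrically_isReduced g _ _ (IsPullback.of_hasPullback _ _)
  have h2 : AlgebraicGeometry.IsReduced (pullback (X.fromSpecStalk x) (pullback.fst f g)) :=
    FlatMor67.isReduced_of_flat_isPreimmersion (pullback.snd _ _)
  have h3 : AlgebraicGeometry.IsReduced (pullback (X.fromSpecStalk x ≫ f) g) :=
    isReduced_of_isOpenImmersion (pullbackRightPullbackFstIso f g (X.fromSpecStalk x)).inv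
  have hpb : IsPullback (pullback.fst ψ φ) (pullback.snd ψ φ)
      (ψ ≫ Y.fromSpecStalk (f x)) g :=
    IsPullback.of_isLimit (pullbackIsPullbackOfCompMono ψ φ (Y.fromSpecStalk (f x)))
  rw [Scheme.SpecMap_stalkMap_fromSpecStalk] at hpb
  have h4 : AlgebraicGeometry.IsReduced (pullback ψ φ) :=
    isReduced_of_isOpenImmersion hpb.isoPullback.hom
  have h5 : AlgebraicGeometry.IsReduced (pullback (Spec.map (CommRingCat.ofHom (algebraMap A B))) φ) := h4
  have : AlgebraicGeometry.IsReduced (Spec (CommRingCat.of (B ⊗[A] L))) :=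
    @isReduced_of_isOpenImmersion _ _ (pullbackSpecIso A B L).inv inferInstance h5
  have : _root_.IsReduced (CommRingCat.of (B ⊗[A] L)) := (affine_isReduced_iff _).1 this
  exact isReduced_of_injective
    ((Algebra.TensorProduct.cancelBaseChange A p.ResidueField p.ResidueField L B).restrictScalars A
      |>.trans (Algebra.TensorProduct.comm A L B))
    (AlgEquiv.injective _)

/-- a maximal point of a locally Noetherian scheme is not in a nowhere dense closed set -/
theorem notMem_of_maximal_of_interior_eq_empty [IsLocallyNoetherian Y] {C : Set Y} (hC : IsClosed C)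
    (hint : interior C = ∅) (η : Y) (hη : ∀ z, z ⤳ η → z = η) : η ∉ C := by
  intro hηC
  obtain ⟨W, hW, hxW, -⟩ := exists_isAffineOpen_mem_and_subset (x := η) (U := ⊤) trivial
  have : IsNoetherianRing Γ(Y, W) := IsLocallyNoetherian.component_noetherian ⟨W, hW⟩
  let w : W.toScheme := ⟨η, hxW⟩
  have : NoetherianSpace W.toScheme := noetherianSpace_of_isAffineOpen W hW
  obtain ⟨o, ho, hne, hoZ⟩ := NoetherianSpace.exists_isOpen_nonempty_subset_irreducibleComponent
    (irreducibleComponent w) (irreducibleComponent_mem_irreducibleComponents w)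
  have hg := (isIrreducible_irreducibleComponent (x := w)).isGenericPoint_genericPoint
    isClosed_irreducibleComponent
  have hgη : (isIrreducible_irreducibleComponent (x := w)).genericPoint = w :=
    Subtype.ext (hη _ ((hg.specializes mem_irreducibleComponent).map continuous_subtype_val))
  have hsub : Subtype.val '' o ⊆ C := by
    rintro _ ⟨v, hv, rfl⟩
    have := hg.specializes (hoZ hv)
    rw [hgη] at this
    exact (this.map continuous_subtype_val).mem_closed hC hηC
  obtain ⟨v, hv⟩ := hne
  exact (Set.ext_iff.1 hint _).1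
    (interior_maximal hsub (W.isOpen.isOpenMap_subtype_val _ ho) ⟨v, hv, rfl⟩)

end Groth.Agent.Unr55
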