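import Groth.Agent.Unr55.EtAscent
import Mathlib.RingTheory.Localization.Away.Basic
import Mathlib.RingTheory.IntegralClosure.IntegrallyClosed
import Mathlib.RingTheory.LocalProperties.Basic
import Mathlib.RingTheory.DedekindDomain.Basic
import Mathlib.RingTheory.Ideal.GoingDown
import Mathlib.RingTheory.Smooth.Fiber
import Mathlib.RingTheory.QuasiFinite.Basic

/-!
Finite étale algebras over normal domains: quotients by primes over zero, and compositums.
-/

set_option autoImplicit false

universe u

open TensorProduct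

namespace Groth.Agent.Unr55

/-- A prime over zero of a finite étale algebra over a normal domain is generated by an idempotent,
and its quotient is a normal domain. -/
theorem quotient_prime_over_bot {A T : Type u} [CommRing A] [IsDomain A] [IsIntegrallyClosed A]
    [CommRing T] [Algebra A T] [Algebra.Etale A T] [Module.Finite A T] (P : Ideal T) [P.IsPrime]
    (hP : P.comap (algebraMap A T) = ⊥) :
    Algebra.Etale A (T ⧸ P) ∧ IsIntegrallyClosed (T ⧸ P) := by
  classical
  have : IsReduced T := isReduced_of_etale (A := A)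
  have hover : ∀ Q ∈ minimalPrimes T, Ideal.comap (algebraMap A T) Q = ⊥ := fun Q hQ ↦ by
    have := Ideal.IsMinimalPrime.isPrime hQ
    have : Q.LiesOver (Q.under A) := ⟨rfl⟩
    have : (⊥ : Ideal A).IsPrime := Ideal.isPrime_bot
    obtain ⟨Q', hQ'le, hQ', hQ'over⟩ := Ideal.exists_ideal_le_liesOver_of_le (S := T)
      (p := (⊥ : Ideal A)) (q := Q.under A) Q bot_le
    have : Q = Q' := le_antisymm (hQ.2 ⟨hQ', bot_le⟩ hQ'le) hQ'le
    rw [this]
    exact hQ'over.over.symm
  have hfin : (minimalPrimes T).Finite :=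
    (Algebra.QuasiFinite.finite_primesOver (R := A) (S := T) ⊥).subset fun Q hQ ↦
      ⟨Ideal.IsMinimalPrime.isPrime hQ, ⟨(hover Q hQ).symm⟩⟩
  have hmin : ∀ Q : Ideal T, Q.IsPrime → Q.comap (algebraMap A T) = ⊥ → ∀ Q' : Ideal T,
      Q'.IsPrime → Q' ≤ Q → Q' = Q := fun Q hQ h Q' hQ' hle ↦ by
    refine eq_of_le_of_not_lt hle fun hlt ↦ ?_
    have := hQ'
    have hQ'bot : Q'.comap (algebraMap A T) = ⊥ := le_bot_iff.mp (h ▸ Ideal.comap_mono hle)
    exact (Ideal.IsIntegral.comap_lt_comap (R := A) hlt).ne (hQ'bot.trans h.symm)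
  have hPmin : P ∈ minimalPrimes T :=
    ⟨⟨inferInstance, bot_le⟩, fun Q hQ hle ↦ (hmin P inferInstance hP Q hQ.1 hle).ge⟩
  have hcop : ∀ Q ∈ minimalPrimes T, Q ≠ P → P ⊔ Q = ⊤ := fun Q hQ hne ↦ by
    by_contra htop
    obtain ⟨M, hM, hle⟩ := Ideal.exists_le_maximal _ htop
    have := (isNormalDomain_localization_of_etale (A := A) M).1
    let TM := Localization.AtPrime M
    have key : ∀ R : Ideal T, R ∈ minimalPrimes T → R ≤ M →
        R = RingHom.ker (algebraMap T TM) := fun R hR hRM ↦ by
      have := Ideal.IsMinimalPrime.isPrime hR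
      have hle' : RingHom.ker (algebraMap T TM) ≤ R := fun x hx ↦ by
        obtain ⟨⟨s, hs⟩, hsx⟩ := (IsLocalization.map_eq_zero_iff M.primeCompl TM x).mp hx
        exact ((Ideal.IsPrime.mem_or_mem ‹R.IsPrime›)
          (hsx ▸ R.zero_mem : s * x ∈ R)).resolve_left fun h ↦ hs (hRM h)
      exact le_antisymm (hR.2 ⟨RingHom.ker_isPrime _, bot_le⟩ hle') hle'
    exact hne ((key Q hQ (le_sup_right.trans hle)).trans
      (key P hPmin (le_sup_left.trans hle)).symm)
  let s := hfin.toFinset.erase P
  obtain ⟨e, he, f, hf, hef⟩ : ∃ e ∈ P, ∃ f ∈ ⨅ Q ∈ s, Q, e + f = 1 := by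
    apply Submodule.mem_sup.mp
    rw [Ideal.sup_iInf_eq_top]
    · trivial
    · intro Q hQ
      exact hcop Q (hfin.mem_toFinset.mp (Finset.mem_of_mem_erase hQ)) (Finset.ne_of_mem_erase hQ)
  have hzero : ∀ x ∈ P, x * f = 0 := fun x hx ↦ by
    have : x * f ∈ nilradical T := by
      rw [nilradical, ← Ideal.sInf_minimalPrimes]
      refine Submodule.mem_sInf.mpr fun Q hQ ↦ ?_
      by_cases hQP : Q = P
      · exact hQP ▸ P.mul_mem_right _ hx
      · exact Ideal.mul_mem_left Q _
          ((Submodule.mem_iInf _).mp ((Submodule.mem_iInf _).mp hf Q)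
            (Finset.mem_erase.mpr ⟨hQP, hfin.mem_toFinset.mpr hQ⟩))
    rwa [nilradical_eq_zero, Ideal.zero_eq_bot, Ideal.mem_bot] at this
  have hidem : IsIdempotentElem f := by
    have h := hzero e he
    have he' : e = 1 - f := eq_sub_of_add_eq hef
    rw [he', sub_mul, one_mul, sub_eq_zero] at h
    exact h.symm
  have hPspan : P = RingHom.ker (algebraMap T (T ⧸ P)) := (Ideal.Quotient.algebraMap_eq P ▸ Ideal.mk_ker.symm)
  have hloc : IsLocalization.Away f (T ⧸ P) :=
    IsLocalization.away_of_isIdempotentElem hidem (by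
      rw [← hPspan, show 1 - f = e from (eq_sub_of_add_eq hef).symm]
      exact le_antisymm (fun x hx ↦ Ideal.mem_span_singleton'.mpr ⟨x, by
        calc x * e = x * (e + f) := by rw [mul_add, hzero x hx, add_zero]
          _ = x := by rw [hef, mul_one]⟩)
        ((Ideal.span_singleton_le_iff_mem _).mpr he))
      Ideal.Quotient.mk_surjective
  refine ⟨?_, ?_⟩
  · have : Algebra.Etale T (T ⧸ P) := .of_isLocalizationAway f
    exact Algebra.Etale.comp A T (T ⧸ P)
  · refine IsIntegrallyClosed.of_localization_maximal fun M _ hM ↦ ?_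
    have h1 := IsLocalization.isLocalization_isLocalization_atPrime_isLocalization (.powers f)
      (Localization.AtPrime M) M
    let M' := M.comap (algebraMap T (T ⧸ P))
    have : IsLocalization.AtPrime (Localization.AtPrime M) M' := h1
    have := (isNormalDomain_localization_of_etale (A := A) M').2
    exact IsIntegrallyClosed.of_equiv (IsLocalization.algEquiv M'.primeCompl
      (Localization.AtPrime M') (Localization.AtPrime M)).toRingEquiv

set_option backward.isDefEq.respectTransparency.types false in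
/-- The integral closure in a compositum of an étale integral closure. -/
theorem integralClosure_compositum (A A' L L₁ : Type u) [CommRing A] [IsDomain A]
    [CommRing A'] [IsDomain A'] [IsIntegrallyClosed A'] [Algebra A A']
    [Field L] [Algebra A L] [Algebra.IsAlgebraic A L] (hinj : Function.Injective (algebraMap A L))
    [Algebra.Etale A ↥(integralClosure A L)]
    [Field L₁] [Algebra A' L₁] [Algebra L L₁] [Algebra A L₁] [IsScalarTower A A' L₁]
    [IsScalarTower A L L₁] (hinj' : Function.Injective (algebraMap A' L₁))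
    (hgen : Subfield.closure (Set.range (algebraMap A' L₁) ∪ Set.range (algebraMap L L₁)) = ⊤) :
    Algebra.Etale A' ↥(integralClosure A' L₁) ∧
      integralClosure A' L₁ =
        Algebra.adjoin A' ((algebraMap L L₁) '' {x : L | IsIntegral A x}) := by
  let C := integralClosure A L
  have : Algebra.IsIntegral A C := inferInstance
  have : Module.Finite A C := Algebra.IsIntegral.finite
  let T := A' ⊗[A] C
  let θ : T →ₐ[A'] L₁ := Algebra.TensorProduct.lift (Algebra.ofId A' L₁)
    ((IsScalarTower.toAlgHom A L L₁).comp C.val) fun _ _ ↦ .all _ _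
  let P := RingHom.ker θ.toRingHom
  have : P.IsPrime := RingHom.ker_isPrime _
  have hP : P.comap (algebraMap A' T) = ⊥ := by
    rw [eq_bot_iff]
    intro a ha
    have : θ (algebraMap A' T a) = 0 := ha
    rw [θ.commutes] at this
    exact hinj' (this.trans (map_zero _).symm)
  obtain ⟨het, hint⟩ := quotient_prime_over_bot (A := A') P hP
  let R := θ.range
  have hker : P = RingHom.ker θ.rangeRestrict := by
    ext x
    exact ⟨fun h ↦ Subtype.ext h, fun h ↦ congrArg Subtype.val h⟩
  let ε : (T ⧸ P) ≃ₐ[A'] R := (Ideal.quotientEquivAlgOfEq A' hker).trans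
    (Ideal.quotientKerAlgEquivOfSurjective θ.rangeRestrict_surjective)
  have hR : R = Algebra.adjoin A' ((algebraMap L L₁) '' {x : L | IsIntegral A x}) := by
    apply le_antisymm
    · rintro _ ⟨t, rfl⟩
      induction t using TensorProduct.induction_on with
      | zero => rw [map_zero]; exact zero_mem _
      | tmul a c =>
        show algebraMap A' L₁ a * algebraMap L L₁ (c : L) ∈ _
        exact mul_mem (Subalgebra.algebraMap_mem _ a) (Algebra.subset_adjoin ⟨c, c.2, rfl⟩)
      | add x y hx hy => rw [map_add]; exact add_mem hx hy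
    · rw [Algebra.adjoin_le_iff]
      rintro _ ⟨x, hx, rfl⟩
      refine ⟨(1 : A') ⊗ₜ (⟨x, hx⟩ : C), ?_⟩
      show algebraMap A' L₁ 1 * algebraMap L L₁ x = _
      rw [map_one, one_mul]
  have : IsIntegrallyClosed R := by
    exact @IsIntegrallyClosed.of_equiv (T ⧸ P) R _ _ ε.toRingEquiv hint
  have hfrac : IsFractionRing R L₁ := by
    refine IsFractionRing.of_field _ _ fun z ↦ ?_
    have hsub : Set.range (algebraMap A' L₁) ∪ Set.range (algebraMap L L₁) ⊆
        Subfield.closure (R : Set L₁) := by
      rintro _ (⟨a, rfl⟩ | ⟨x, rfl⟩)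
      · exact Subfield.subset_closure (R.algebraMap_mem a)
      · obtain ⟨a, ha, hax⟩ := (Algebra.IsAlgebraic.isAlgebraic (R := A) x).exists_integral_multiple
        have h1 : algebraMap L L₁ (a • x) ∈ R := hR.ge (Algebra.subset_adjoin ⟨a • x, hax, rfl⟩)
        have h2 : algebraMap A L₁ a ≠ 0 := by
          rw [IsScalarTower.algebraMap_apply A L L₁, ne_eq,
            map_eq_zero_iff _ (algebraMap L L₁).injective, map_eq_zero_iff _ hinj]
          exact ha
        have h3 : algebraMap A L₁ a ∈ R := by
          rw [IsScalarTower.algebraMap_apply A A' L₁]; exact R.algebraMap_mem _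
        have : algebraMap L L₁ x = algebraMap L L₁ (a • x) / algebraMap A L₁ a := by
          rw [Algebra.smul_def, map_mul, ← IsScalarTower.algebraMap_apply A L L₁,
            mul_div_cancel_left₀ _ h2]
        rw [this]
        exact div_mem (Subfield.subset_closure h1) (Subfield.subset_closure h3)
    have hz : z ∈ Subfield.closure (R : Set L₁) :=
      (Subfield.closure_le.mpr hsub) (hgen ▸ Subfield.mem_top z)
    obtain ⟨y, hy, w, hw, rfl⟩ := Subfield.mem_closure_iff.mp hz
    rw [show Subring.closure (R : Set L₁) = R.toSubring from R.toSubring.closure_eq] at hy hw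
    exact ⟨⟨y, hy⟩, ⟨w, hw⟩, rfl⟩
  have heq : integralClosure A' L₁ = R := by
    apply le_antisymm
    · intro z hz
      obtain ⟨r, hr⟩ := IsIntegrallyClosed.algebraMap_eq_of_integral
        (R := R) (K := L₁) (IsIntegral.tower_top hz)
      exact hr ▸ r.2
    · rw [hR, Algebra.adjoin_le_iff]
      rintro _ ⟨x, hx, rfl⟩
      exact IsIntegral.tower_top (hx.map (IsScalarTower.toAlgHom A L L₁))
  refine ⟨?_, heq.trans hR⟩
  have : Algebra.Etale A' R := @Algebra.Etale.of_equiv A' (T ⧸ P) R _ _ _ _ _ het ε
  exact Algebra.Etale.of_equiv (Subalgebra.equivOfEq _ _ heq.symm)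

end Groth.Agent.Unr55
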