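import Mathlib.AlgebraicGeometry.PullbackCarrier
import Mathlib.AlgebraicGeometry.Morphisms.Etale
import Mathlib.AlgebraicGeometry.Morphisms.FlatMono
import Mathlib.AlgebraicGeometry.Morphisms.QuasiFinite
import Mathlib.AlgebraicGeometry.Morphisms.UniversallyOpen
import Mathlib.AlgebraicGeometry.Morphisms.Separated
import Groth.Agent.Unr55.UnrQF

/-!
Birational étale separated morphisms are open immersions.
-/

universe u

open CategoryTheory Limits AlgebraicGeometry

namespace Groth.Agent.Unr55

set_option backward.isDefEq.respectTransparency.types false in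
theorem isOpenImmersion_of_birational {X Y : Scheme.{u}} [IsIntegral X] [IsIntegral Y]
    (f : X ⟶ Y) [AlgebraicGeometry.Etale f] [IsSeparated f]
    (hgen : f.base (genericPoint X) = genericPoint Y)
    (hbir : Function.Bijective (f.residueFieldMap (genericPoint X)).hom) : IsOpenImmersion f := by
  have hfib : ∀ x, f x = genericPoint Y → x = genericPoint X := fun x hx ↦ by
    have := locallyQuasiFinite_of_formallyUnramified f
    have hd := f.isDiscrete_preimage_singleton (genericPoint Y)
    obtain ⟨U, hU, hUx⟩ := isDiscrete_iff_forall_mem_exists_isOpen.mp hd x hx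
    have hxU : x ∈ U := (hUx.ge rfl).1
    have : genericPoint X ∈ U :=
      ((genericPoint_spec X).mem_open_set_iff hU).mpr ⟨x, trivial, hxU⟩
    exact (hUx.le ⟨this, hgen⟩).symm
  have : IsIso (f.residueFieldMap (genericPoint X)) :=
    (ConcreteCategory.isIso_iff_bijective _).mpr hbir
  have huniq : ∀ z : ↥(pullback f f), pullback.fst f f z = genericPoint X →
      z = pullback.diagonal f (genericPoint X) := fun z hz ↦ by
    have hd : ∀ w : ↥(pullback f f), pullback.fst f f w = genericPoint X →
        pullback.snd f f w = genericPoint X := fun w hw ↦ hfib _ (by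
      rw [← Scheme.Hom.comp_apply, ← pullback.condition, Scheme.Hom.comp_apply, hw]
      exact hgen)
    have hdiag : pullback.fst f f (pullback.diagonal f (genericPoint X)) = genericPoint X := by
      rw [← Scheme.Hom.comp_apply, pullback.diagonal_fst]; rfl
    apply Scheme.Pullback.carrierEquiv.injective
    generalize ha : Scheme.Pullback.carrierEquiv z = a
    generalize hb : Scheme.Pullback.carrierEquiv (pullback.diagonal f (genericPoint X)) = b
    obtain ⟨T₁, p₁⟩ := a
    obtain ⟨T₂, p₂⟩ := b
    have e₁ : z = Scheme.Pullback.carrierEquiv.symm ⟨T₁, p₁⟩ :=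
      (Equiv.eq_symm_apply _).mpr ha
    have e₂ : pullback.diagonal f (genericPoint X) = Scheme.Pullback.carrierEquiv.symm ⟨T₂, p₂⟩ :=
      (Equiv.eq_symm_apply _).mpr hb
    have hx₁ : T₁.x = genericPoint X := by
      rw [← Scheme.Pullback.carrierEquiv_symm_fst T₁ p₁, ← e₁, hz]
    have hy₁ : T₁.y = genericPoint X := by
      rw [← Scheme.Pullback.carrierEquiv_symm_snd T₁ p₁, ← e₁, hd z hz]
    have hx₂ : T₂.x = genericPoint X := by
      rw [← Scheme.Pullback.carrierEquiv_symm_fst T₂ p₂, ← e₂, hdiag]
    have hy₂ : T₂.y = genericPoint X := by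
      rw [← Scheme.Pullback.carrierEquiv_symm_snd T₂ p₂, ← e₂, hd _ hdiag]
    obtain rfl : T₁ = T₂ := Scheme.Pullback.Triplet.ext (hx₁.trans hx₂.symm) (hy₁.trans hy₂.symm)
    have : IsIso (f.residueFieldMap T₁.y) := by rw [hy₁]; infer_instance
    have : IsIso T₁.tensorInl := pushout_inl_iso_of_right_iso _ _
    have : Subsingleton (Spec T₁.tensor) :=
      (Scheme.homeoOfIso (asIso (Spec.map T₁.tensorInl))).toEquiv.subsingleton
    rw [Subsingleton.elim p₁ p₂]
  have : Surjective (pullback.diagonal f) := by
    refine ⟨fun z ↦ ?_⟩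
    have hcl : IsClosed (Set.range (pullback.diagonal f)) :=
      (pullback.diagonal f).isClosedEmbedding.isClosed_range
    by_contra hz
    have hne : (pullback.fst f f '' (Set.range (pullback.diagonal f))ᶜ).Nonempty :=
      ⟨_, z, hz, rfl⟩
    have hgp : genericPoint X ∈ pullback.fst f f '' (Set.range (pullback.diagonal f))ᶜ :=
      ((genericPoint_spec X).mem_open_set_iff
        ((pullback.fst f f).isOpenMap _ hcl.isOpen_compl)).mpr (by simpa using hne)
    obtain ⟨w, hw, hwx⟩ := hgp
    exact hw ⟨genericPoint X, (huniq w hwx).symm⟩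
  have : IsIso (pullback.diagonal f) :=
    (isIso_iff_isOpenImmersion_and_surjective _).mpr ⟨inferInstance, inferInstance⟩
  have : Mono f := (pullback.isIso_diagonal_iff f).mp this
  exact IsOpenImmersion.of_flat_of_mono f

end Groth.Agent.Unr55
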