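import Groth.Agent.CAlg4.ReducedCurve
import Groth.Agent.CAlg1.NagataUnram
import Groth.Agent.VarDim1.TotalRing
import Groth.Agent.EGA4H10.CompleteNagata
import Groth.Agent.Cohen12.Completion
import Mathlib.RingTheory.DedekindDomain.AdicValuation
import Mathlib.RingTheory.Polynomial.ScaleRoots

/-!
Integrality of elements of the total ring of fractions of a reduced Noetherian local ring `A` by a
finite-type family of discrete valuations (from the normalisation of the completion), and the
integrality criterion for elements `g` such that every element of the maximal ideal has a power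
multiplying `g` into `A`.
-/

set_option autoImplicit false
open Polynomial WithZero

namespace Groth.Agent.Unr55

universe u

open Groth.Agent.CAlg4.ReducedCurve in
/-- On a Noetherian normal domain: discrete valuations detecting membership, almost all `≤ 1` on
a given element. -/
theorem exists_valuations_normal (N : Type u) [CommRing N] [IsDomain N] [IsNoetherianRing N]
    [IsIntegrallyClosed N] (L : Type u) [Field L] [Algebra N L] [IsFractionRing N L] :
    ∃ (I : Type u) (v : I → Valuation L (ℤᵐ⁰)), (∀ i b, v i (algebraMap N L b) ≤ 1) ∧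
      (∀ x, (∀ i, v i x ≤ 1) → x ∈ (algebraMap N L).range) ∧
      (∀ x, {i | 1 < v i x}.Finite) := by
  let I := {Q : Ideal N // Q.IsPrime ∧ Q.height = 1}
  have hv : ∀ i : I, ∃ v : Valuation L (ℤᵐ⁰), (∀ b, v (algebraMap N L b) ≤ 1) ∧
      (∀ b, b ∉ i.1 → v (algebraMap N L b) = 1) ∧
      (∀ b c : N, c ≠ 0 → v (algebraMap N L b / algebraMap N L c) ≤ 1 →
        have := i.2.1; algebraMap N (Localization.AtPrime i.1) c ∣ algebraMap N _ b) := by
    rintro ⟨Q, hQ, hh⟩
    have := dvr_of_height_one Q hh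
    let T := Localization.AtPrime Q
    let : Algebra T L := (IsLocalization.lift (M := Q.primeCompl) (g := algebraMap N L) fun y =>
      IsUnit.mk0 _ ((map_ne_zero_iff _ (IsFractionRing.injective N L)).2 fun h =>
        y.2 (h ▸ Q.zero_mem))).toAlgebra
    have : IsScalarTower N T L :=
      IsScalarTower.of_algebraMap_eq fun z => (IsLocalization.lift_eq _ z).symm
    have : IsFractionRing T L :=
      IsFractionRing.isFractionRing_of_isDomain_of_isLocalization Q.primeCompl T L
    let w : IsDedekindDomain.HeightOneSpectrum T :=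
      ⟨IsLocalRing.maximalIdeal T, inferInstance, IsDiscreteValuationRing.not_a_field T⟩
    have hle : ∀ b : N, w.valuation L (algebraMap N L b) ≤ 1 := fun b => by
      rw [IsScalarTower.algebraMap_apply N T L]; exact w.valuation_le_one _
    refine ⟨w.valuation L, hle, fun b hb => ?_, fun b c hc h => ?_⟩
    · rw [IsScalarTower.algebraMap_apply N T L, w.valuation_eq_one_iff_notMem]
      intro hm
      exact hb ((IsLocalization.AtPrime.to_map_mem_maximal_iff T Q b).1 hm)
    · obtain ⟨t, ht⟩ := IsDedekindDomain.HeightOneSpectrum.mem_integers_of_valuation_le_one (R := T) L (algebraMap N L b / algebraMap N L c)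
        fun w' => by
          have : w' = w := IsDedekindDomain.HeightOneSpectrum.ext
            (IsLocalRing.eq_maximalIdeal (w'.isPrime.isMaximal w'.ne_bot))
          rw [this]; exact h
      refine ⟨t, IsFractionRing.injective T L ?_⟩
      rw [map_mul, ht, ← IsScalarTower.algebraMap_apply, ← IsScalarTower.algebraMap_apply,
        mul_div_cancel₀ _ ((map_ne_zero_iff _ (IsFractionRing.injective N L)).2 hc)]
  choose v hle hone hdvd using hv
  refine ⟨I, v, hle, fun x hx => ?_, fun x => ?_⟩
  · obtain ⟨b, c, hc, rfl⟩ := IsFractionRing.div_surjective (A := N) x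
    have hc0 : c ≠ 0 := nonZeroDivisors.ne_zero hc
    obtain ⟨e, he⟩ := dvd_of_forall_height_one c b hc0 fun q hq hh _ =>
      hdvd ⟨q, hq, hh⟩ b c hc0 (hx _)
    refine ⟨e, ?_⟩
    rw [he, map_mul, mul_div_cancel_left₀ _ ((map_ne_zero_iff _ (IsFractionRing.injective N L)).2 hc0)]
  · obtain ⟨b, c, hc, rfl⟩ := IsFractionRing.div_surjective (A := N) x
    refine Set.Finite.of_finite_image ((finite_height_one (nonZeroDivisors.ne_zero hc)).subset ?_)
      Subtype.val_injective.injOn
    rintro _ ⟨i, hi, rfl⟩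
    refine ⟨i.2.1, i.2.2, ?_⟩
    by_contra hci
    rw [Set.mem_ofPred_eq, map_div₀, hone i c hci, div_one] at hi
    exact absurd hi (not_lt.2 (hle i b))

/-- For a reduced Noetherian local ring: discrete valuations on the total ring of fractions which are
`≤ 1` on the integral closure, detect integrality, and are almost all `≤ 1` on a given element. -/
theorem exists_valuations_integral (A : Type u) [CommRing A] [IsNoetherianRing A] [IsLocalRing A]
    [IsReduced A] :
    ∃ (I : Type u) (v : I → Valuation (FractionRing A) (ℤᵐ⁰)),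
      (∀ i x, IsIntegral A x → v i x ≤ 1) ∧ (∀ x, (∀ i, v i x ≤ 1) → IsIntegral A x) ∧
      (∀ x, {i | 1 < v i x}.Finite) := by
  classical
  let R := AdicCompletion (IsLocalRing.maximalIdeal A) A
  haveI := CAlg1.Nag.faithfullyFlat_completion A
  haveI : IsNoetherianRing R := Cohen12.isNoetherianRing_completion A
  haveI := Cohen12.isAdicComplete_completion (A := A)
  let M := {P : Ideal R // P ∈ minimalPrimes R}
  have hMfin : Finite M := (minimalPrimes.finite_of_isNoetherianRing R).to_subtype
  have hpr : ∀ P : M, P.1.IsPrime := fun P => P.2.1.1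
  have hs : ∀ (P : M) (s : nonZeroDivisors A), algebraMap A R s ∉ P.1 := fun P s hP =>
    Set.disjoint_left.1 (Ideal.disjoint_nonZeroDivisors_of_mem_minimalPrimes P.2) hP (by
      have h := Module.Flat.isSMulRegular_of_nonZeroDivisors (M := R) s.2
      rw [SetLike.mem_coe, mem_nonZeroDivisors_iff_right]
      intro b hb
      apply h
      show (s : A) • b = (s : A) • 0
      rw [Algebra.smul_def, mul_comm, hb, smul_zero])
  -- the maps to the function fields of the completion
  let π : ∀ P : M, haveI := hpr P; FractionRing A →+* FractionRing (R ⧸ P.1) := fun P =>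
    haveI := hpr P
    IsLocalization.lift (M := nonZeroDivisors A)
      (g := (algebraMap (R ⧸ P.1) (FractionRing (R ⧸ P.1))).comp
        ((Ideal.Quotient.mk P.1).comp (algebraMap A R)))
      fun s => IsUnit.mk0 _ fun h => hs P s (by
        rw [RingHom.comp_apply, IsFractionRing.to_map_eq_zero_iff, RingHom.comp_apply,
          Ideal.Quotient.eq_zero_iff_mem] at h
        exact h)
  have hN : ∀ P : M, haveI := hpr P; ∃ (I : Type u) (v : I → Valuation (FractionRing (R ⧸ P.1)) (ℤᵐ⁰)),
      (∀ i x, IsIntegral (R ⧸ P.1) x → v i x ≤ 1) ∧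
      (∀ x, (∀ i, v i x ≤ 1) → IsIntegral (R ⧸ P.1) x) ∧ (∀ x, {i | 1 < v i x}.Finite) := by
    intro P
    haveI := hpr P
    set Q := R ⧸ P.1
    set L := FractionRing Q
    have : Module.Finite Q (integralClosure Q L) :=
      CAlg1.Nag.isN2_isN1 ((EGA4H10.isNagata_of_complete R).2 P.1)
    have : IsNoetherianRing (integralClosure Q L) :=
      IsNoetherianRing.of_finite Q (integralClosure Q L)
    have : IsFractionRing (integralClosure Q L) L := IsFractionRing.of_field _ L fun z => by
      obtain ⟨x, y, hy, rfl⟩ := IsFractionRing.div_surjective (A := Q) z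
      exact ⟨algebraMap Q _ x, algebraMap Q _ y, rfl⟩
    have : IsIntegrallyClosed (integralClosure Q L) :=
      (isIntegrallyClosed_iff L).2 fun {x} hx => ⟨⟨x, isIntegral_trans _ hx⟩, rfl⟩
    obtain ⟨I, v, h1, h2, h3⟩ := exists_valuations_normal (integralClosure Q L) L
    refine ⟨I, v, fun i x hx => h1 i ⟨x, hx⟩, fun x hx => ?_, h3⟩
    obtain ⟨b, hb⟩ := h2 x hx
    rw [← hb]; exact b.2
  choose I v h1 h2 h3 using hN
  refine ⟨Σ P : M, I P, fun j => (v j.1 j.2).comap (π j.1), fun j x hx => ?_, fun x hx => ?_,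
    fun x => ?_⟩
  · haveI := hpr j.1
    refine h1 j.1 j.2 _ ?_
    obtain ⟨p, hp, hp0⟩ := hx
    refine ⟨p.map ((Ideal.Quotient.mk j.1.1).comp (algebraMap A R)), hp.map _, ?_⟩
    rw [eval₂_map]
    have hc : (π j.1).comp (algebraMap A (FractionRing A)) =
        (algebraMap (R ⧸ j.1.1) (FractionRing (R ⧸ j.1.1))).comp
          ((Ideal.Quotient.mk j.1.1).comp (algebraMap A R)) := IsLocalization.lift_comp _
    rw [← hc, ← hom_eval₂, hp0, map_zero]
  · -- the criterion
    obtain ⟨⟨a, s⟩, hxs⟩ := IsLocalization.surj (nonZeroDivisors A) x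
    replace hxs : x * algebraMap A _ (s : A) = algebraMap A _ a := hxs
    have hF : ∀ P : M, ∃ F : R[X], F.Monic ∧ (F.scaleRoots (algebraMap A R s)).eval (algebraMap A R a) ∈ P.1 := by
      intro P
      haveI := hpr P
      obtain ⟨f, hf, hf0⟩ := h2 P (π P x) fun i => hx ⟨P, i⟩
      obtain ⟨F, hFf, -, hFm⟩ := lifts_and_degree_eq_and_monic
        (map_surjective (Ideal.Quotient.mk P.1) Ideal.Quotient.mk_surjective f :) hf
      refine ⟨F, hFm, ?_⟩
      rw [← Ideal.Quotient.eq_zero_iff_mem, ← IsFractionRing.to_map_eq_zero_iff (K := FractionRing (R ⧸ P.1))]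
      let φ : R →+* FractionRing (R ⧸ P.1) := (algebraMap _ _).comp (Ideal.Quotient.mk P.1)
      show φ ((F.scaleRoots (algebraMap A R s)).eval (algebraMap A R a)) = 0
      rw [← eval₂_at_apply]
      have hπ : ∀ y : A, π P (algebraMap A _ y) = φ (algebraMap A R y) := fun y =>
        IsLocalization.lift_eq _ y
      rw [← hπ a, ← hxs, map_mul, hπ, mul_comm (π P x)]
      refine scaleRoots_eval₂_eq_zero φ ?_
      rw [← hFf, eval₂_map] at hf0
      exact hf0
    choose F hFm hFe using hF
    cases nonempty_fintype M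
    set σ := algebraMap A R s
    set α := algebraMap A R a
    have hprod : ((∏ P, F P).scaleRoots σ).eval α = ∏ P, ((F P).scaleRoots σ).eval α := by
      have key : ∀ T : Finset M, ((∏ P ∈ T, F P).scaleRoots σ).eval α =
          ∏ P ∈ T, ((F P).scaleRoots σ).eval α := fun T => by
        induction T using Finset.induction_on with
        | empty => simp [one_scaleRoots]
        | insert P T hP ih =>
          rw [Finset.prod_insert hP, Finset.prod_insert hP, mul_scaleRoots', eval_mul, ih]
          rw [(hFm P).leadingCoeff, (monic_prod_of_monic _ _ fun j _ => hFm j).leadingCoeff, one_mul]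
          exact one_ne_zero
      exact key Finset.univ
    have hnil : IsNilpotent (((∏ P, F P).scaleRoots σ).eval α) := by
      rw [← mem_nilradical, nilradical, Ideal.zero_eq_bot, ← Ideal.sInf_minimalPrimes, hprod]
      exact Submodule.mem_sInf.2 fun p hp =>
        Ideal.prod_mem (I := p) (Finset.mem_univ (⟨p, hp⟩ : M)) (hFe ⟨p, hp⟩)
    obtain ⟨k, hk⟩ := hnil
    set E := (∏ P, F P) ^ k with hE
    have hEm : E.Monic := (monic_prod_of_monic _ _ fun j _ => hFm j).pow k
    have hE0 : (E.scaleRoots σ).eval α = 0 := by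
      rw [hE, pow_scaleRoots', eval_pow, hk]
      rw [(monic_prod_of_monic _ _ fun j _ => hFm j).leadingCoeff, one_pow]
      exact one_ne_zero
    set D := E.natDegree
    -- descend the relation to `A`
    have hmem : algebraMap A R (a ^ D) ∈ (Ideal.span (Set.range fun i : Fin D =>
        a ^ (i : ℕ) * (s : A) ^ (D - i))).map (algebraMap A R) := by
      rw [eval_eq_sum_range, natDegree_scaleRoots, Finset.sum_range_succ,
        coeff_scaleRoots_natDegree, hEm.leadingCoeff, one_mul, add_eq_zero_iff_eq_neg] at hE0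
      rw [map_pow, ← neg_mem_iff, ← hE0]
      refine Ideal.sum_mem _ fun i hi => ?_
      rw [coeff_scaleRoots, mul_assoc, mul_comm (σ ^ _)]
      refine Ideal.mul_mem_left _ _ ?_
      rw [← map_pow, ← map_pow, ← map_mul]
      exact Ideal.mem_map_of_mem _ (Ideal.subset_span ⟨⟨i, Finset.mem_range.1 hi⟩, rfl⟩)
    rw [← Ideal.mem_comap, Ideal.comap_map_eq_self_of_faithfullyFlat,
      Ideal.mem_span_range_iff_exists_fun] at hmem
    obtain ⟨c, hc⟩ := hmem
    refine ⟨X ^ D - ∑ i : Fin D, C (c i) * X ^ (i : ℕ), monic_X_pow_sub (degree_sum_fin_lt c), ?_⟩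
    have hu : IsUnit (algebraMap A (FractionRing A) (s : A) ^ D) :=
      (IsLocalization.map_units _ s).pow D
    refine hu.mul_left_eq_zero.1 ?_
    simp only [eval₂_sub, eval₂_pow, eval₂_X, eval₂_finsetSum, eval₂_mul, eval₂_C]
    rw [sub_mul, sub_eq_zero, ← mul_pow, hxs, ← map_pow, ← hc, map_sum, Finset.sum_mul]
    refine Finset.sum_congr rfl fun i _ => ?_
    rw [map_mul, map_mul, map_pow, map_pow, ← hxs, mul_pow, mul_assoc _ (x ^ (i : ℕ)),
      mul_assoc (x ^ (i : ℕ)), ← pow_add, Nat.add_sub_cancel' i.2.le]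
  · have hsub : {j : Σ P : M, I P | 1 < ((v j.1 j.2).comap (π j.1)) x} ⊆
        ⋃ P : M, (fun i => (⟨P, i⟩ : Σ P : M, I P)) '' {i | 1 < v P i (π P x)} := fun j hj =>
      Set.mem_iUnion.2 ⟨j.1, j.2, hj, rfl⟩
    exact (Set.finite_iUnion fun P => (h3 P (π P x)).image _).subset hsub

/-- An element of a nonempty finite family maximising the ratio `G / Z`. -/
theorem exists_maximal_ratio {ι : Type*} {S : Finset ι} (hS : S.Nonempty) (G Z : ι → ℤ)
    (hZ : ∀ i ∈ S, 0 < Z i) : ∃ j ∈ S, ∀ i ∈ S, G i * Z j ≤ G j * Z i := by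
  obtain ⟨j, hj, h⟩ := S.exists_max_image (fun i => (G i : ℚ) / Z i) hS
  refine ⟨j, hj, fun i hi => ?_⟩
  have := (div_le_div_iff₀ (Int.cast_pos.2 (hZ i hi)) (Int.cast_pos.2 (hZ j hj))).1 (h i hi)
  exact_mod_cast this

/-- Clearing the poles of `g` by a power of `z`, keeping one valuation equal to `1`. -/
theorem exists_clear {K : Type*} [CommRing K] {I : Type*} (v : I → Valuation K (ℤᵐ⁰)) (g z : K)
    (hfin : {i | 1 < v i g}.Finite) (hne : {i | 1 < v i g}.Nonempty)
    (hz : ∀ i, 1 < v i g → v i z < 1 ∧ v i z ≠ 0) (hz1 : ∀ i, v i z ≤ 1) :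
    ∃ c d : ℕ, c ≠ 0 ∧ d ≠ 0 ∧ (∀ i, v i (g ^ c * z ^ d) ≤ 1) ∧
      ∃ i, 1 < v i g ∧ v i (g ^ c * z ^ d) = 1 := by
  have hG : ∀ i, 1 < v i g → 0 < log (v i g) := fun i hi => by
    rw [← log_one, log_lt_log one_ne_zero (ne_zero_of_lt hi)]; exact hi
  have hZ : ∀ i, 1 < v i g → 0 < -log (v i z) := fun i hi => by
    rw [neg_pos, ← log_one, log_lt_log (hz i hi).2 one_ne_zero]; exact (hz i hi).1
  obtain ⟨j, hj, hmax⟩ := exists_maximal_ratio (S := hfin.toFinset) (hfin.toFinset_nonempty.2 hne)
    (fun i => log (v i g)) (fun i => -log (v i z)) (fun i hi => hZ i (hfin.mem_toFinset.1 hi))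
  replace hj : 1 < v j g := hfin.mem_toFinset.1 hj
  obtain ⟨c, hc⟩ := Int.eq_ofNat_of_zero_le (hZ j hj).le
  obtain ⟨d, hd⟩ := Int.eq_ofNat_of_zero_le (hG j hj).le
  have hlog : ∀ i, 1 < v i g → v i (g ^ c * z ^ d) ≠ 0 ∧
      log (v i (g ^ c * z ^ d)) = log (v i g) * c + log (v i z) * d := by
    intro i hi
    have hg0 : v i g ≠ 0 := ne_zero_of_lt hi
    rw [map_mul, map_pow, map_pow]
    refine ⟨mul_ne_zero (pow_ne_zero _ hg0) (pow_ne_zero _ (hz i hi).2), ?_⟩
    rw [log_mul (pow_ne_zero _ hg0) (pow_ne_zero _ (hz i hi).2), log_pow, log_pow, nsmul_eq_mul,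
      nsmul_eq_mul]
    ring
  refine ⟨c, d, ?_, ?_, fun i => ?_, j, hj, ?_⟩
  · rintro rfl; have := hZ j hj; omega
  · rintro rfl; have := hG j hj; omega
  · by_cases hi : 1 < v i g
    · obtain ⟨h0, hl⟩ := hlog i hi
      rw [← log_le_log h0 one_ne_zero, log_one, hl, ← hc, ← hd]
      have := hmax i (hfin.mem_toFinset.2 hi)
      linarith
    · rw [map_mul, map_pow, map_pow]
      exact Right.mul_le_one (pow_le_one' (not_lt.1 hi) c) (pow_le_one' (hz1 i) d)
  · obtain ⟨h0, hl⟩ := hlog j hj
    refine le_antisymm ?_ ?_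
    · rw [← log_le_log h0 one_ne_zero, log_one, hl, ← hc, ← hd]; linarith
    · rw [← log_le_log one_ne_zero h0, log_one, hl, ← hc, ← hd]; linarith

/-- A nonzerodivisor in an ideal outside finitely many primes, none containing it. -/
theorem exists_nonZeroDivisor_mem {A : Type u} [CommRing A] [IsNoetherianRing A] [IsReduced A]
    (J : Ideal A) (T : Finset (Ideal A)) (hT : ∀ p ∈ T, p.IsPrime ∧ ¬ J ≤ p)
    (hJ : ∀ p ∈ minimalPrimes A, ¬ J ≤ p) :
    ∃ a ∈ J, a ∈ nonZeroDivisors A ∧ ∀ p ∈ T, a ∉ p := by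
  classical
  set T' := T ∪ (minimalPrimes.finite_of_isNoetherianRing A).toFinset
  have hT' : ∀ p ∈ T', p.IsPrime ∧ ¬ J ≤ p := fun p hp => by
    rcases Finset.mem_union.1 hp with h | h
    · exact hT p h
    · rw [Set.Finite.mem_toFinset] at h
      exact ⟨h.1.1, hJ p h⟩
  have : ¬ (J : Set A) ⊆ ⋃ p ∈ (T' : Set (Ideal A)), (p : Set A) := fun h => by
    obtain ⟨p, hp, hle⟩ := (Ideal.subset_union_prime ⊥ ⊥ fun p hp _ _ => (hT' p hp).1).1 h
    exact (hT' p hp).2 hle
  obtain ⟨a, ha, hnot⟩ := Set.not_subset.1 this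
  simp only [Set.mem_iUnion, not_exists] at hnot
  refine ⟨a, ha, VarDim1.mem_nonZeroDivisors_of_forall_notMem fun p hp => hnot p ?_,
    fun p hp => hnot p (Finset.mem_union_left _ hp)⟩
  exact Finset.mem_union_right _ ((minimalPrimes.finite_of_isNoetherianRing A).mem_toFinset.2 hp)

/-- **The integrality criterion.** -/
theorem isIntegral_of_forall_pow_mul_mem (A : Type u) [CommRing A] [IsNoetherianRing A]
    [IsLocalRing A] [IsReduced A]
    (hdim : ∀ (m' : Ideal (integralClosure A (FractionRing A))) [m'.IsMaximal],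
      m'.comap (algebraMap A (integralClosure A (FractionRing A))) = IsLocalRing.maximalIdeal A →
        2 ≤ ringKrullDim (Localization.AtPrime m'))
    (g : FractionRing A) (hg : ∀ a ∈ IsLocalRing.maximalIdeal A, ∃ n : ℕ,
      algebraMap A (FractionRing A) a ^ n * g ∈ (algebraMap A (FractionRing A)).range) :
    IsIntegral A g := by
  classical
  let A' := integralClosure A (FractionRing A)
  obtain ⟨I, v, hv1, hcrit, hfin⟩ := exists_valuations_integral A
  by_contra hgint
  set S := {i | 1 < v i g}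
  have hne : S.Nonempty := by
    by_contra h
    exact hgint (hcrit g fun i => not_lt.1 fun hi => h ⟨i, hi⟩)
  have hA : ∀ i (a : A), v i (algebraMap A (FractionRing A) a) ≤ 1 := fun i a => hv1 i _ isIntegral_algebraMap
  have hm : ∀ i ∈ S, ∀ a ∈ IsLocalRing.maximalIdeal A, v i (algebraMap A (FractionRing A) a) < 1 := by
    intro i hi a ha
    refine lt_of_le_of_ne (hA i a) fun h1 => ?_
    obtain ⟨n, b, hb⟩ := hg a ha
    have := hA i b
    rw [hb, map_mul, map_pow, h1, one_pow, one_mul] at this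
    exact not_lt.2 this hi
  -- centres in the integral closure
  let ctr : I → Ideal A' := fun i =>
    { carrier := {x | v i (x : (FractionRing A)) < 1}
      add_mem' := fun {x y} hx hy => (v i).map_add_lt hx hy
      zero_mem' := by simp
      smul_mem' := fun c x hx => by
        show v i ((c : (FractionRing A)) * (x : (FractionRing A))) < 1
        rw [map_mul]
        exact lt_of_le_of_lt (mul_le_of_le_one_left' (hv1 i _ c.2)) hx }
  have hcp : ∀ i, (ctr i).IsPrime := fun i => by
    refine ⟨fun h => ?_, fun {x y} hxy => ?_⟩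
    · have : (1 : A') ∈ ctr i := h ▸ Submodule.mem_top
      exact (lt_irrefl (1 : ℤᵐ⁰)) (by simpa [ctr] using (show v i ((1 : A') : (FractionRing A)) < 1 from this))
    · by_contra hn
      simp only [not_or] at hn
      have hx : v i (x : (FractionRing A)) = 1 := le_antisymm (hv1 i _ x.2) (not_lt.1 hn.1)
      have hy : v i (y : (FractionRing A)) = 1 := le_antisymm (hv1 i _ y.2) (not_lt.1 hn.2)
      have hxy' : v i ((x : (FractionRing A)) * (y : (FractionRing A))) < 1 := hxy
      rw [map_mul, hx, hy, one_mul] at hxy'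
      exact lt_irrefl _ hxy'
  have hcm : ∀ i ∈ S, (ctr i).comap (algebraMap A A') = IsLocalRing.maximalIdeal A := fun i hi => by
    refine le_antisymm ?_ fun a ha => hm i hi a ha
    haveI := hcp i
    exact IsLocalRing.le_maximalIdeal (Ideal.IsPrime.ne_top inferInstance)
  -- non-minimal primes strictly below the centres
  have hQ : ∀ i ∈ S, ∃ Q : Ideal A', Q.IsPrime ∧ Q < ctr i ∧
      Q.comap (algebraMap A A') ∉ minimalPrimes A ∧
      Q.comap (algebraMap A A') < IsLocalRing.maximalIdeal A := by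
    intro i hi
    haveI := hcp i
    haveI : ((ctr i).comap (algebraMap A A')).IsMaximal := by
      rw [hcm i hi]; exact IsLocalRing.maximalIdeal.isMaximal A
    haveI : (ctr i).IsMaximal := Ideal.isMaximal_of_isIntegral_of_isMaximal_comap (R := A) _ inferInstance
    have h2 := hdim (ctr i) (hcm i hi)
    rw [IsLocalization.AtPrime.ringKrullDim_eq_height (ctr i) (Localization.AtPrime (ctr i))] at h2
    have h2' : (2 : ℕ∞) ≤ (ctr i).height := WithBot.coe_le_coe.1 h2
    have : ¬ (ctr i).height ≤ ((1 : ℕ) : ℕ∞) := fun h => by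
      have := h2'.trans h
      norm_num at this
    rw [Ideal.height_le_iff] at this
    push Not at this
    obtain ⟨Q, hQ, hlt, hh⟩ := this
    haveI := hQ
    obtain ⟨q₀, hq₀, hle⟩ := Ideal.exists_minimalPrimes_le (bot_le : (⊥ : Ideal A') ≤ Q)
    have hq₀Q : q₀ < Q := lt_of_le_of_ne hle fun h => by
      have hQ0 : Q.height = 0 := Ideal.height_eq_zero_iff.2 (h ▸ hq₀)
      rw [hQ0] at hh
      norm_num at hh
    refine ⟨Q, hQ, hlt, fun hmin => ?_, ?_⟩
    · haveI := hq₀.1.1
      have hlt' := Ideal.IntegralClosure.comap_lt_comap (R := A) hq₀Q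
      exact hlt'.not_ge (hmin.2 ⟨Ideal.IsPrime.comap _, bot_le⟩ hlt'.le)
    · rw [← hcm i hi]
      exact Ideal.IntegralClosure.comap_lt_comap (R := A) hlt
  choose! Q hQp hQlt hQmin hQm using hQ
  have hfinS : S.Finite := hfin g
  -- `z` in all of them
  have hzi : ∀ i ∈ S, ∃ z ∈ (Q i).comap (algebraMap A A'), z ∈ nonZeroDivisors A := fun i hi => by
    haveI := hQp i hi
    obtain ⟨z, hz, hz', -⟩ := exists_nonZeroDivisor_mem ((Q i).comap (algebraMap A A')) ∅
      (by simp) fun p hp hle => hQmin i hi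
        ((le_antisymm hle (hp.2 ⟨Ideal.IsPrime.comap _, bot_le⟩ hle)).symm ▸ hp)
    exact ⟨z, hz, hz'⟩
  choose! zi hzQ hznzd using hzi
  set z := ∏ i ∈ hfinS.toFinset, zi i
  have hz : z ∈ nonZeroDivisors A :=
    Submonoid.prod_mem _ fun i hi => hznzd i (hfinS.mem_toFinset.1 hi)
  have hzQ' : ∀ i ∈ S, z ∈ (Q i).comap (algebraMap A A') := fun i hi =>
    Ideal.prod_mem _ (hfinS.mem_toFinset.2 hi) (hzQ i hi)
  have hval : ∀ (w : A), w ∈ nonZeroDivisors A → w ∈ IsLocalRing.maximalIdeal A →
      ∀ i, 1 < v i g → v i (algebraMap A (FractionRing A) w) < 1 ∧ v i (algebraMap A (FractionRing A) w) ≠ 0 :=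
    fun w hw hwm i hi => ⟨hm i hi w hwm,
      ((IsLocalization.map_units (FractionRing A) (⟨w, hw⟩ : nonZeroDivisors A)).map (v i)).ne_zero⟩
  obtain ⟨i₀, hi₀⟩ := hne
  obtain ⟨c, d, -, hd, hint, j, hj, hj1⟩ := exists_clear v g (algebraMap A (FractionRing A) z) (hfin g) ⟨i₀, hi₀⟩
    (hval z hz ((hQm i₀ hi₀).le (hzQ' i₀ hi₀))) fun i => hA i z
  -- `x` outside `Q j`
  haveI := hQp j hj
  obtain ⟨x, hxm, hx, hxQ⟩ := exists_nonZeroDivisor_mem (IsLocalRing.maximalIdeal A)
    {(Q j).comap (algebraMap A A')} (fun p hp => by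
      rw [Finset.mem_singleton] at hp
      subst hp
      exact ⟨inferInstance, (hQm j hj).not_ge⟩) fun p hp hle => by
        have hlt := hQm j hj
        have := hp.1.1
        exact (hlt.trans_le hle).not_ge (hp.2 ⟨Ideal.IsPrime.comap _, bot_le⟩ (hlt.le.trans hle))
  obtain ⟨a', b, ha', -, hint', -⟩ := exists_clear v g (algebraMap A (FractionRing A) x) (hfin g) ⟨i₀, hi₀⟩
    (hval x hx hxm) fun i => hA i x
  let t : A' := ⟨g ^ c * algebraMap A (FractionRing A) z ^ d, hcrit _ hint⟩
  let w : A' := ⟨g ^ a' * algebraMap A (FractionRing A) x ^ b, hcrit _ hint'⟩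
  have hid : w ^ c * algebraMap A A' z ^ (d * a') = t ^ a' * algebraMap A A' x ^ (b * c) := by
    apply Subtype.ext
    simp only [MulMemClass.coe_mul, SubmonoidClass.coe_pow, t, w]
    simp only [Subalgebra.coe_algebraMap]
    ring
  have hmemQ : t ^ a' * algebraMap A A' x ^ (b * c) ∈ Q j := hid ▸ Ideal.mul_mem_left _ _
    (Ideal.pow_mem_of_mem _ (show algebraMap A A' z ∈ Q j from hzQ' j hj) _ (Nat.pos_of_ne_zero (mul_ne_zero hd ha')))
  have ht : t ∈ Q j := by
    rcases (hQp j hj).mem_or_mem hmemQ with h | h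
    · exact (hQp j hj).mem_of_pow_mem _ h
    · exact absurd ((hQp j hj).mem_of_pow_mem _ h) (hxQ _ (Finset.mem_singleton_self _))
  have htc : v j (t : (FractionRing A)) < 1 := (hQlt j hj).le ht
  rw [show (t : (FractionRing A)) = g ^ c * algebraMap A (FractionRing A) z ^ d from rfl, hj1] at htc
  exact lt_irrefl _ htc

end Groth.Agent.Unr55
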