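import Groth.Prelude.Def_FEt
import Groth.Agent.Unr55.PuncturedInt
import Mathlib.AlgebraicGeometry.Morphisms.QuasiSeparated

/-!
Sections over the punctured spectrum of a reduced Noetherian local ring inside the integral closure.
-/

set_option autoImplicit false
open CategoryTheory AlgebraicGeometry Opposite

namespace Groth.Agent.Unr55

universe u

variable (A : Type u) [CommRing A]

/-- Under the dimension hypothesis the maximal ideal contains a nonzerodivisor. -/
theorem exists_nonZeroDivisor_maximalIdeal [IsNoetherianRing A] [IsLocalRing A] [IsReduced A]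
    (hdim : ∀ (m' : Ideal (integralClosure A (FractionRing A))) [m'.IsMaximal],
      m'.comap (algebraMap A (integralClosure A (FractionRing A))) = IsLocalRing.maximalIdeal A →
        2 ≤ ringKrullDim (Localization.AtPrime m')) :
    ∃ s ∈ IsLocalRing.maximalIdeal A, s ∈ nonZeroDivisors A := by
  let A' := integralClosure A (FractionRing A)
  obtain ⟨Q, hQ, hQm⟩ := Ideal.exists_ideal_over_maximal_of_isIntegral (S := A')
    (IsLocalRing.maximalIdeal A) (fun x hx => by
      have : algebraMap A (FractionRing A) x = 0 := congrArg Subtype.val (RingHom.mem_ker.1 hx)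
      rw [(injective_iff_map_eq_zero _).1 (IsFractionRing.injective A (FractionRing A)) x this]
      exact zero_mem _)
  haveI := hQ
  have h2 := hdim Q hQm
  rw [IsLocalization.AtPrime.ringKrullDim_eq_height Q (Localization.AtPrime Q)] at h2
  obtain ⟨s, hs, hs', -⟩ := exists_nonZeroDivisor_mem (IsLocalRing.maximalIdeal A) ∅ (by simp)
    fun p hp hle => by
      have := hp.1.1
      have hpm : p = IsLocalRing.maximalIdeal A :=
        le_antisymm (IsLocalRing.le_maximalIdeal (Ideal.IsPrime.ne_top inferInstance)) hle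
      obtain ⟨q₀, hq₀, hq₀le⟩ := Ideal.exists_minimalPrimes_le (bot_le : (⊥ : Ideal A') ≤ Q)
      rcases eq_or_lt_of_le hq₀le with h | h
      · rw [Ideal.height_eq_zero_iff.2 (h ▸ hq₀)] at h2
        exact absurd (WithBot.coe_le_coe.1 h2) (by norm_num)
      · haveI := hq₀.1.1
        have hlt := Ideal.IntegralClosure.comap_lt_comap (R := A) h
        rw [hQm] at hlt
        exact hlt.not_ge (hpm ▸ hp.2 ⟨Ideal.IsPrime.comap _, bot_le⟩ (hpm ▸ hlt.le))
  exact ⟨s, hs, hs'⟩

theorem exists_toIntegralClosure' (R : CommRingCat.{u}) [IsNoetherianRing R] [IsLocalRing R]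
    [IsReduced R] (U : (Spec R).Opens)
    (hU : ∀ x : PrimeSpectrum R, x ∈ U ↔ x ≠ IsLocalRing.closedPoint R)
    (hdim : ∀ (m' : Ideal (integralClosure R (FractionRing R))) [m'.IsMaximal],
      m'.comap (algebraMap R (integralClosure R (FractionRing R))) = IsLocalRing.maximalIdeal R →
        2 ≤ ringKrullDim (Localization.AtPrime m')) :
    (algebraMap R Γ(Spec R, U)).IsIntegral ∧
      ∃ φ : Γ(Spec R, U) →+* integralClosure R (FractionRing R),
        Function.Injective φ ∧
          φ.comp (algebraMap R Γ(Spec R, U)) = algebraMap R (integralClosure R (FractionRing R)) := by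
  let K := FractionRing R
  let res : ∀ {W V : (Spec R).Opens}, V ≤ W → Γ((Spec R), W) →+* Γ((Spec R), V) := fun h =>
    ((Spec R).presheaf.map (homOfLE h).op).hom
  have hres : ∀ {W V : (Spec R).Opens} (h : V ≤ W) (a : R),
      res h (algebraMap R Γ((Spec R), W) a) = algebraMap R Γ((Spec R), V) a := fun {W V} h a => by
    rw [IsAffineOpen.algebraMap_Spec_obj, IsAffineOpen.algebraMap_Spec_obj]
    show ((Scheme.ΓSpecIso R).inv ≫ (Spec R).presheaf.map (homOfLE (le_top : W ≤ ⊤)).op ≫
      (Spec R).presheaf.map (homOfLE h).op).hom a = _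
    rw [← Functor.map_comp]
    rfl
  have hsub : ∀ a ∈ IsLocalRing.maximalIdeal R, (PrimeSpectrum.basicOpen a : (Spec R).Opens) ≤ U := by
    intro a ha x hx
    exact (hU x).2 fun hx' => hx (hx' ▸ ha)
  obtain ⟨s, hsm, hs⟩ := exists_nonZeroDivisor_maximalIdeal R hdim
  let Ds : (Spec R).Opens := PrimeSpectrum.basicOpen (R := R) s
  have hunit : IsUnit (algebraMap R K s) := IsLocalization.map_units K (⟨s, hs⟩ : nonZeroDivisors R)
  let ψ : Γ((Spec R), Ds) →+* K :=
    IsLocalization.Away.lift (R := R) (S := Γ((Spec R), Ds)) s (g := algebraMap R K) hunit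
  have hψ : ∀ a : R, ψ (algebraMap R Γ((Spec R), Ds) a) = algebraMap R K a := fun a =>
    IsLocalization.Away.lift_eq _ _ a
  let φ₀ : Γ((Spec R), U) →+* K := ψ.comp (res (hsub s hsm))
  have hφ₀ : ∀ a : R, φ₀ (algebraMap R Γ((Spec R), U) a) = algebraMap R K a := fun a => by
    show ψ (res (hsub s hsm) _) = _
    rw [hres, hψ]
  have hcompact : IsCompact (U : Set (Spec R)) :=
    TopologicalSpace.NoetherianSpace.isCompact (α := PrimeSpectrum R) _
  have key : ∀ (y : Γ((Spec R), U)) (a : R), a ∈ IsLocalRing.maximalIdeal R →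
      ∃ (n : ℕ) (b : R), algebraMap R Γ((Spec R), U) a ^ n * y = algebraMap R Γ((Spec R), U) b := by
    intro y a ha
    have hD : (Spec R).basicOpen (algebraMap R Γ((Spec R), U) a) = PrimeSpectrum.basicOpen a := by
      rw [IsAffineOpen.algebraMap_Spec_obj]
      show (Spec R).basicOpen (((Spec R).presheaf.map (homOfLE (le_top : U ≤ ⊤)).op).hom
        ((Scheme.ΓSpecIso R).inv.hom a)) = _
      rw [Scheme.basicOpen_res, basicOpen_eq_of_affine]
      exact inf_eq_right.2 (hsub a ha)
    obtain ⟨k, b, hb⟩ := IsLocalization.Away.surj (R := R) a (res (hsub a ha) y)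
    obtain ⟨n, hn⟩ := exists_pow_mul_eq_zero_of_res_basicOpen_eq_zero_of_isCompact (Spec R) hcompact
      (algebraMap R Γ((Spec R), U) a ^ k * y - algebraMap R Γ((Spec R), U) b) (algebraMap R Γ((Spec R), U) a) (by
        have h0 : res (hD.le.trans (hsub a ha)) (algebraMap R Γ((Spec R), U) a ^ k * y - algebraMap R Γ((Spec R), U) b) = 0 := by
          have h1 : res (hsub a ha) (algebraMap R Γ((Spec R), U) a ^ k * y - algebraMap R Γ((Spec R), U) b) = 0 := by
            rw [map_sub, map_mul, map_pow, hres, hres, mul_comm, hb, sub_self]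
          have h2 := congrArg (res hD.le) h1
          rw [map_zero] at h2
          rw [← h2]
          show _ = ((Spec R).presheaf.map (homOfLE (hsub a ha)).op ≫ (Spec R).presheaf.map (homOfLE hD.le).op).hom _
          rw [← Functor.map_comp]
          rfl
        exact h0)
    refine ⟨n + k, a ^ n * b, ?_⟩
    rw [mul_sub, sub_eq_zero] at hn
    rw [pow_add, mul_assoc, hn, map_mul, map_pow]
  have hint : ∀ y, IsIntegral R (φ₀ y) := fun y => by
    refine isIntegral_of_forall_pow_mul_mem R hdim _ fun a ha => ?_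
    obtain ⟨n, b, hb⟩ := key y a ha
    refine ⟨n, b, ?_⟩
    have := congrArg φ₀ hb
    rw [map_mul, map_pow, hφ₀, hφ₀] at this
    exact this.symm
  have hinj : Function.Injective φ₀ := by
    rw [injective_iff_map_eq_zero]
    intro y hy
    refine ((Spec R).sheaf).eq_of_locally_eq' (fun a : {a : R // a ∈ IsLocalRing.maximalIdeal R} =>
      (PrimeSpectrum.basicOpen a.1 : (Spec R).Opens)) U (fun a => homOfLE (hsub a.1 a.2)) ?_ y 0 fun a => ?_
    · intro x hx
      obtain ⟨a, ha, hax⟩ := SetLike.exists_of_lt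
        ((IsLocalRing.le_maximalIdeal (R := R) (x : PrimeSpectrum R).isPrime.ne_top).lt_of_ne
          fun h => (hU x).1 hx (PrimeSpectrum.ext h))
      exact TopologicalSpace.Opens.mem_iSup.2 ⟨⟨a, ha⟩, hax⟩
    · obtain ⟨n, b, hb⟩ := key y a.1 a.2
      have := congrArg φ₀ hb
      rw [map_mul, hy, mul_zero, hφ₀] at this
      have hb0 : b = 0 := (injective_iff_map_eq_zero _).1 (IsFractionRing.injective R K) b this.symm
      rw [hb0, map_zero] at hb
      have h1 := congrArg (res (hsub a.1 a.2)) hb
      rw [map_mul, map_pow, hres, map_zero] at h1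
      have h2 := ((IsLocalization.Away.algebraMap_isUnit (R := R) (S := Γ((Spec R), PrimeSpectrum.basicOpen a.1))
        a.1).pow n).mul_right_eq_zero.1 h1
      show res (hsub a.1 a.2) y = res (hsub a.1 a.2) 0
      rw [h2, map_zero]
  refine ⟨fun y => ?_, φ₀.codRestrict (integralClosure R K) hint,
    fun y₁ y₂ h => hinj (congrArg Subtype.val h), RingHom.ext fun a => Subtype.ext (hφ₀ a)⟩
  obtain ⟨p, hp, hp0⟩ := hint y
  refine ⟨p, hp, hinj ?_⟩
  rw [Polynomial.hom_eval₂, map_zero]
  refine Eq.trans ?_ hp0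
  congr 1
  exact RingHom.ext hφ₀

theorem exists_toIntegralClosure [IsNoetherianRing A] [IsLocalRing A] [IsReduced A]
    (hdim : ∀ (m' : Ideal (integralClosure A (FractionRing A))) [m'.IsMaximal],
      m'.comap (algebraMap A (integralClosure A (FractionRing A))) = IsLocalRing.maximalIdeal A →
        2 ≤ ringKrullDim (Localization.AtPrime m')) :
    (((Spec (CommRingCat.of A)).presheaf.map (homOfLE (le_top : FEt.puncturedSpec A ≤ ⊤)).op).hom.comp
        (Scheme.ΓSpecIso (CommRingCat.of A)).inv.hom).IsIntegral ∧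
      ∃ φ : ↑((Spec (CommRingCat.of A)).presheaf.obj (op (FEt.puncturedSpec A))) →+*
          integralClosure A (FractionRing A),
        Function.Injective φ ∧
          φ.comp (((Spec (CommRingCat.of A)).presheaf.map (homOfLE (le_top : FEt.puncturedSpec A ≤ ⊤)).op).hom.comp
            (Scheme.ΓSpecIso (CommRingCat.of A)).inv.hom) =
              algebraMap A (integralClosure A (FractionRing A)) :=
  @exists_toIntegralClosure' (CommRingCat.of A) ‹_› ‹_› ‹_› (FEt.puncturedSpec A)
    (fun _ => Iff.rfl) hdim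

end Groth.Agent.Unr55
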