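import Groth.Agent.Henz21.FaithfullyFlat
import Mathlib.RingTheory.Unramified.LocalRing
import Mathlib.RingTheory.Spectrum.Prime.RingHom
import Mathlib.FieldTheory.SeparableClosure
import Mathlib.FieldTheory.IsSepClosed

/-!
Maps from a strict henselization to an arbitrary henselian local ring are the same as maps to its residue
field, and maps to separably closed fields extend along a strict henselization.
-/

set_option autoImplicit false
set_option backward.isDefEq.respectTransparency.types false
universe u

open IsLocalRing

namespace Groth.Agent.Unr55.SpecArrows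

open Groth.Agent.Henz21

variable {A : Type u} [CommRing A] [IsLocalRing A]
variable (R : Type u) [CommRing R] [IsLocalRing R] [Algebra A R] [IsLocalHom (algebraMap A R)]
  [Hensel.IsStrictHenselization A R]

/-- maps into a henselian local ring, not assumed local, are maps into its residue field -/
theorem existsUnique_lift {T : Type u} [CommRing T] [HenselianLocalRing T] (α : A →+* T)
    (χ : R →+* ResidueField T) (hχ : χ.comp (algebraMap A R) = (residue T).comp α) :
    ∃! ψ : R →+* T, ψ.comp (algebraMap A R) = α ∧ (residue T).comp ψ = χ := by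
  let : Algebra A T := α.toAlgebra
  let e : StrictHenselization A ≃ₐ[A] R := strictHenselizationEquiv R
  let θ : StrictHenselization A →ₐ[A] ResidueField T :=
    { χ.comp (e : StrictHenselization A →+* R) with
      commutes' := fun a => by
        show χ (e (algebraMap A _ a)) = algebraMap A (ResidueField T) a
        rw [e.commutes]
        exact RingHom.congr_fun hχ a }
  obtain ⟨g, hg, hgu⟩ := H.existsUnique_lift θ
  refine ⟨g.toRingHom.comp (e.symm : R →+* StrictHenselization A), ⟨?_, ?_⟩, ?_⟩
  · refine RingHom.ext fun a => ?_
    show g (e.symm (algebraMap A R a)) = α a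
    rw [e.symm.commutes, g.commutes]
    rfl
  · refine RingHom.ext fun x => ?_
    have := DFunLike.congr_fun hg (e.symm x)
    show residue T (g (e.symm x)) = χ x
    refine this.trans ?_
    show χ (e (e.symm x)) = χ x
    rw [e.apply_symm_apply]
  · rintro ψ ⟨h1, h2⟩
    let g' : StrictHenselization A →ₐ[A] T :=
      { ψ.comp (e : StrictHenselization A →+* R) with
        commutes' := fun a => by
          show ψ (e (algebraMap A _ a)) = α a
          rw [e.commutes]
          exact RingHom.congr_fun h1 a }
    have hg' : g' = g := hgu g' (AlgHom.ext fun s => RingHom.congr_fun h2 (e s))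
    refine RingHom.ext fun x => ?_
    rw [← hg']
    show ψ x = ψ (e (e.symm x))
    rw [e.apply_symm_apply]

/-- residue extensions of a strict henselization are separable algebraic -/
theorem isSeparable_residueField (P : Ideal A) [P.IsPrime] (𝔭 : Ideal R) [𝔭.IsPrime] [𝔭.LiesOver P]
    [Algebra (Localization.AtPrime P) (Localization.AtPrime 𝔭)]
    [Localization.AtPrime.IsLiesOverAlgebra P 𝔭] :
    Algebra.IsSeparable P.ResidueField 𝔭.ResidueField := by
  let e : StrictHenselization A ≃ₐ[A] R := strictHenselizationEquiv R
  have key : ∀ r : R, IsSeparable P.ResidueField (algebraMap R 𝔭.ResidueField r) := by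
    intro r
    obtain ⟨i, s, hs⟩ := H.exists_rep (e.symm r)
    let φ : i.S →ₐ[A] R := e.toAlgHom.comp (H.incl i)
    let q : Ideal i.S := 𝔭.comap φ
    have : q.LiesOver P := ⟨by
      rw [‹𝔭.LiesOver P›.over]
      ext a
      show algebraMap A R a ∈ 𝔭 ↔ φ (algebraMap A i.S a) ∈ 𝔭
      rw [φ.commutes]⟩
    have : Algebra.IsUnramifiedAt A q := Algebra.FormallyUnramified.comp A i.S (Localization.AtPrime q)
    let := Localization.AtPrime.algebraOfLiesOver P q
    have hsep : Algebra.IsSeparable P.ResidueField q.ResidueField := inferInstance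
    let m : q.ResidueField →+* 𝔭.ResidueField := Ideal.ResidueField.map q 𝔭 φ.toRingHom rfl
    let mA : q.ResidueField →ₐ[P.ResidueField] 𝔭.ResidueField :=
      { m with
        commutes' := fun c => by
          show (m.comp (algebraMap P.ResidueField q.ResidueField)) c = algebraMap P.ResidueField 𝔭.ResidueField c
          refine RingHom.congr_fun (Ideal.ResidueField.ringHom_ext (RingHom.ext fun a => ?_)) c
          show m (algebraMap P.ResidueField q.ResidueField (algebraMap A P.ResidueField a)) =
            algebraMap P.ResidueField 𝔭.ResidueField (algebraMap A P.ResidueField a)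
          rw [← IsScalarTower.algebraMap_apply A P.ResidueField q.ResidueField,
            ← IsScalarTower.algebraMap_apply A P.ResidueField 𝔭.ResidueField,
            IsScalarTower.algebraMap_apply A i.S q.ResidueField,
            IsScalarTower.algebraMap_apply A R 𝔭.ResidueField, ← φ.commutes]
          exact Ideal.ResidueField.map_algebraMap _ _ _ _ _ }
    have h1 : mA (algebraMap i.S q.ResidueField s) = algebraMap R 𝔭.ResidueField r := by
      refine (Ideal.ResidueField.map_algebraMap _ _ _ _ _).trans ?_
      show algebraMap R 𝔭.ResidueField (e (H.incl i s)) = _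
      rw [hs, e.apply_symm_apply]
    have hx : IsSeparable P.ResidueField (algebraMap i.S q.ResidueField s) :=
      Algebra.IsSeparable.isSeparable _ _
    rw [← h1, IsSeparable, minpoly.algHom_eq mA mA.toRingHom.injective]
    exact hx
  have htop : separableClosure P.ResidueField 𝔭.ResidueField = ⊤ := by
    refine eq_top_iff.mpr fun l _ => ?_
    obtain ⟨a, d, -, rfl⟩ := IsFractionRing.div_surjective (A := R ⧸ 𝔭) l
    obtain ⟨a, rfl⟩ := Ideal.Quotient.mk_surjective a
    obtain ⟨d, rfl⟩ := Ideal.Quotient.mk_surjective d
    have hmem : ∀ r, algebraMap (R ⧸ 𝔭) 𝔭.ResidueField (Ideal.Quotient.mk 𝔭 r) ∈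
        separableClosure P.ResidueField 𝔭.ResidueField := fun r =>
      mem_separableClosure_iff.mpr (key r)
    exact div_mem (hmem a) (hmem d)
  exact (separableClosure.eq_top_iff P.ResidueField 𝔭.ResidueField).mp htop

/-- maps into separably closed fields extend along a strict henselization -/
theorem exists_extension {Ω : Type u} [Field Ω] [IsSepClosed Ω] (β : A →+* Ω) :
    ∃ χ : R →+* Ω, χ.comp (algebraMap A R) = β := by
  have := strictHenselization_faithfullyFlat (R := A) R
  let P := RingHom.ker β
  have : P.IsPrime := RingHom.ker_isPrime β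
  obtain ⟨⟨𝔭, h𝔭⟩, hP⟩ := PrimeSpectrum.comap_surjective_of_faithfullyFlat (A := A) (B := R) ⟨P, this⟩
  have : 𝔭.LiesOver P := ⟨(congrArg PrimeSpectrum.asIdeal hP).symm⟩
  let := Localization.AtPrime.algebraOfLiesOver P 𝔭
  have := isSeparable_residueField R P 𝔭
  let β' : P.ResidueField →+* Ω := Ideal.ResidueField.lift P β le_rfl fun x hx => isUnit_iff_ne_zero.mpr hx
  let : Algebra P.ResidueField Ω := β'.toAlgebra
  let σ : 𝔭.ResidueField →ₐ[P.ResidueField] Ω := IsSepClosed.lift
  refine ⟨σ.toRingHom.comp (algebraMap R 𝔭.ResidueField), RingHom.ext fun a => ?_⟩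
  show σ (algebraMap R 𝔭.ResidueField (algebraMap A R a)) = β a
  rw [← IsScalarTower.algebraMap_apply A R 𝔭.ResidueField,
    IsScalarTower.algebraMap_apply A P.ResidueField 𝔭.ResidueField, σ.commutes]
  exact Ideal.ResidueField.lift_algebraMap (I := P) β le_rfl (fun x hx => isUnit_iff_ne_zero.mpr hx) a

end Groth.Agent.Unr55.SpecArrows
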