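import Groth.Agent.S2754
import Groth.Agent.S2737
import Groth.Agent.S2755
import Groth.Agent.Unr55.TopInv
import Mathlib.AlgebraicGeometry.Morphisms.Separated

/-!
Extension of rational sections of unramified morphisms at geometrically unibranch points.
-/

universe u

open CategoryTheory CategoryTheory.Limits AlgebraicGeometry

set_option backward.isDefEq.respectTransparency.types false

namespace Groth.Agent.Unr55.SectExt

theorem isDomain_stalk {Y : Scheme.{u}} [IsReduced Y] (y : Y)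
    (hy : CAlg2.IsGeomUnibranch (Y.presheaf.stalk y)) : IsDomain (Y.presheaf.stalk y) := by
  have h : IsDomain (Y.presheaf.stalk y ⧸ nilradical (Y.presheaf.stalk y)) := hy.1.1
  let e := RingEquiv.ofBijective (Ideal.Quotient.mk (nilradical (Y.presheaf.stalk y)))
    ⟨by rw [RingHom.injective_iff_ker_eq_bot, Ideal.mk_ker]; exact nilradical_eq_zero _,
      Ideal.Quotient.mk_surjective⟩
  exact e.injective.isDomain

/-- Two morphisms to a separated unramified scheme agree if they agree at a point generizing every point. -/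
theorem eq_of_eq_at_dense_point {X Y T : Scheme.{u}} (f : X ⟶ Y) [IsSeparated f] [LocallyOfFiniteType f]
    [FormallyUnramified f] (a b : T ⟶ X) (hab : a ≫ f = b ≫ f) (η : T) (hη : ∀ t : T, η ⤳ t)
    (h : T.fromSpecResidueField η ≫ a = T.fromSpecResidueField η ≫ b) : a = b := by
  let l : T ⟶ pullback f f := pullback.lift a b hab
  have hl1 : l ≫ pullback.fst f f = a := pullback.lift_fst a b hab
  have hl2 : l ≫ pullback.snd f f = b := pullback.lift_snd a b hab
  let E := pullback.fst l (pullback.diagonal f)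
  have : IsOpenImmersion E := inferInstance
  have : IsClosedImmersion E := inferInstance
  have hfac' : T.fromSpecResidueField η ≫ l =
      (T.fromSpecResidueField η ≫ a) ≫ pullback.diagonal f := by
    apply pullback.hom_ext
    · rw [Category.assoc, hl1, Category.assoc, pullback.diagonal_fst, Category.comp_id]
    · rw [Category.assoc, hl2, Category.assoc, pullback.diagonal_snd, Category.comp_id, h]
  have hηE : η ∈ Set.range E := by
    refine ⟨pullback.lift _ _ hfac' (IsLocalRing.closedPoint _), ?_⟩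
    rw [← Scheme.Hom.comp_apply, pullback.lift_fst]
    exact Scheme.fromSpecResidueField_apply η _
  have : Surjective E := ⟨fun t => (hη t).mem_closed E.isClosedMap.isClosed_range hηE⟩
  have : IsIso E := (isIso_iff_isOpenImmersion_and_surjective E).mpr ⟨inferInstance, inferInstance⟩
  have hfac : l = (inv E ≫ pullback.snd l (pullback.diagonal f)) ≫ pullback.diagonal f := by
    rw [Category.assoc, ← pullback.condition, IsIso.inv_hom_id_assoc]
  rw [← hl1, ← hl2, hfac, Category.assoc _ (pullback.diagonal f), Category.assoc _ (pullback.diagonal f),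
    pullback.diagonal_fst, pullback.diagonal_snd]

variable {X Y : Scheme.{u}} [IrreducibleSpace Y] [IsReduced Y]

/-- Over a geometrically unibranch point, an unramified morphism is etale near every point having a
generization over the generic point. -/
theorem exists_open_etale (f : X ⟶ Y) [LocallyOfFiniteType f] [FormallyUnramified f] (x : X)
    (hy : CAlg2.IsGeomUnibranch (Y.presheaf.stalk (f x))) {z₀ : X} (hz₀x : z₀ ⤳ x)
    (hz₀η : f z₀ = genericPoint Y) : ∃ O : X.Opens, x ∈ O ∧ Etale (O.ι ≫ f) := by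
  obtain ⟨Y', g, W, hg, ⟨p, hpW, hp⟩, hcl, -⟩ := exists_etale_closedImmersion f x
  let π₁ := W.ι ≫ pullback.fst f g
  let π₂ := W.ι ≫ pullback.snd f g
  let w : W := ⟨p, hpW⟩
  have hw : π₁ w = x := hp
  have : Etale (pullback.fst f g) := MorphismProperty.pullback_fst _ _ hg
  have hπ₁ : Etale π₁ := inferInstance
  have hcomm : π₁ ≫ f = π₂ ≫ g := by simp only [π₁, π₂, Category.assoc, pullback.condition]
  have hpt : g (π₂ w) = f x := by
    rw [← Scheme.Hom.comp_apply, ← hcomm, Scheme.Hom.comp_apply, hw]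
  obtain ⟨z', hz'w, hz'⟩ := Flat.generalizingMap π₁ (show z₀ ⤳ π₁ w by rw [hw]; exact hz₀x)
  have hgz : g (π₂ z') = genericPoint Y := by
    rw [← Scheme.Hom.comp_apply, ← hcomm, Scheme.Hom.comp_apply, hz', hz₀η]
  have : LocallyQuasiFinite g := locallyQuasiFinite_of_formallyUnramified g
  have hy' : CAlg2.IsGeomUnibranch (Y.presheaf.stalk (g (π₂ w))) := by rw [hpt]; exact hy
  have hsub := EtComp.subsingleton_minimalPrimes
    (EtComp.isGeomUnibranch_stalk g (π₂ w) ⟨⊤, trivial, inferInstance⟩ hy')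
  have : IsReduced Y' := by
    have : ∀ t : Y', _root_.IsReduced (Y'.presheaf.stalk t) := fun t =>
      (isReduced_stalk_iff_of_etale g t).mpr inferInstance
    exact isReduced_of_isReduced_stalk Y'
  obtain ⟨V₀, hV₀, hfin⟩ := EtComp.exists_open_finite g (π₂ w)
  let F := ((g ⁻¹' {genericPoint Y}) ∩ (V₀ : Set Y')) \ {π₂ z'}
  have hFc : IsClosed (⋃ ξ ∈ F, closure {ξ}) :=
    (hfin.subset fun _ h => h.1).isClosed_biUnion fun _ _ => isClosed_closure
  let V : Y'.Opens := ⟨(V₀ : Set Y') \ ⋃ ξ ∈ F, closure {ξ}, V₀.2.sdiff hFc⟩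
  have hmax : ∀ ξ : Y', g ξ = genericPoint Y → ∀ z, z ⤳ ξ → z = ξ :=
    fun ξ hξ z hz => EtComp.maximal_of_over_generic g hξ hz
  have hwV : π₂ w ∈ V := by
    refine ⟨hV₀, ?_⟩
    simp only [Set.mem_iUnion, not_exists]
    rintro ξ ⟨⟨hξη, -⟩, hne⟩ hξ
    exact hne (EtComp.eq_of_maximal (π₂ w) hsub (specializes_iff_mem_closure.2 hξ)
      (hz'w.map π₂.continuous) (hmax ξ hξη) (hmax _ hgz))
  have hdense : ∀ t ∈ V, π₂ z' ⤳ t := by
    intro t ht
    obtain ⟨ξ, hξt, hξmax, -⟩ := EtComp.exists_maximal_generization t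
    obtain ⟨z, hz, hzη⟩ := Flat.generalizingMap g (genericPoint_specializes (g ξ))
    rw [hξmax z hz] at hzη
    by_cases he : ξ = π₂ z'
    · exact he ▸ hξt
    · exact absurd (Set.mem_iUnion₂.mpr ⟨ξ, ⟨⟨hzη, hξt.mem_open V₀.2 ht.1⟩, he⟩, hξt.mem_closure⟩) ht.2
  have hz'V : π₂ z' ∈ V := (hz'w.map π₂.continuous).mem_open V.2 hwV
  have hsurj : Surjective (π₂ ∣_ V) := ⟨fun t => by
    have hc : IsClosed (Set.range (π₂ ∣_ V)) := (π₂ ∣_ V).isClosedMap.isClosed_range
    have hmem : (⟨π₂ z', hz'V⟩ : V) ∈ Set.range (π₂ ∣_ V) :=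
      ⟨⟨z', hz'V⟩, Subtype.ext (morphismRestrict_base π₂ V ▸ rfl)⟩
    exact ((subtype_specializes_iff _ _).mpr (hdense t.1 t.2) : (⟨π₂ z', hz'V⟩ : V) ⤳ t).mem_closed hc hmem⟩
  have : IsClosedImmersion (π₂ ∣_ V) := IsZariskiLocalAtTarget.restrict hcl V
  have : IsIso (π₂ ∣_ V) := isIso_of_isClosedImmersion_of_surjective _
  let e := (π₂ ⁻¹ᵁ V).ι ≫ π₁
  have het : Etale (e ≫ f) := by
    rw [Category.assoc, hcomm, ← morphismRestrict_ι_assoc]
    infer_instance
  have hee : Etale e := inferInstance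
  let R : X.Opens := ⟨Set.range e, e.isOpenMap.isOpen_range⟩
  refine ⟨R, ⟨⟨w, hwV⟩, hw⟩, ?_⟩
  have hfl : Flat (R.ι ≫ f) := (Flat.iff_flat_stalkMap _).2 fun t => by
    obtain ⟨v, hv⟩ := t.2
    refine (stalkMap_iff_restrict f RingHom.Flat.respectsIso R t).mp ?_
    show (f.stalkMap t.1).hom.Flat
    rw [← hv]
    exact S2755.flat_stalkMap_of_comp e f v
  have : FormallyUnramified (R.ι ≫ f) :=
    MorphismProperty.comp_mem _ _ _ (inferInstance : FormallyUnramified R.ι) ‹_›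
  refine S2737.result (R.ι ≫ f) fun t => ⟨⊤, trivial, ?_⟩
  have : IrreducibleSpace ↥((⊤ : Y.Opens) : Set Y) :=
    (Homeomorph.Set.univ Y).symm.surjective.irreducibleSpace (Homeomorph.Set.univ Y).symm.continuous
  rw [irreducibleComponents_eq_singleton]
  exact Set.finite_singleton _

variable (f : X ⟶ Y) [IsSeparated f] [LocallyOfFiniteType f] [FormallyUnramified f]
  (U : Y.Opens) (u : (U : Scheme.{u}) ⟶ X) (hu : u ≫ f = U.ι)

include hu in
omit [IrreducibleSpace Y] [IsReduced Y] [IsSeparated f] in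
theorem isOpenImmersion_section : IsOpenImmersion u := by
  have : Etale (u ≫ f) := by rw [hu]; infer_instance
  have : Etale u := Etale.of_comp u f
  have : Mono (u ≫ f) := by rw [hu]; infer_instance
  have : Mono u := mono_of_mono u f
  exact IsOpenImmersion.of_flat_of_mono u

include hu in
omit [IrreducibleSpace Y] [IsReduced Y] [IsSeparated f] in
theorem eq_of_mem_range_section {T : Scheme.{u}} (a b : T ⟶ X) (hab : a ≫ f = b ≫ f)
    (ha : Set.range a ⊆ Set.range u) (hb : Set.range b ⊆ Set.range u) : a = b := by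
  have := isOpenImmersion_section f U u hu
  rw [← IsOpenImmersion.lift_fac u a ha, ← IsOpenImmersion.lift_fac u b hb]
  congr 1
  rw [← cancel_mono U.ι, ← hu, ← Category.assoc, ← Category.assoc, IsOpenImmersion.lift_fac,
    IsOpenImmersion.lift_fac, hab]

include hu in
/-- Extension of a section over an irreducible base. -/
theorem exists_section (hη : genericPoint Y ∈ U) (x : X)
    (hy : CAlg2.IsGeomUnibranch (Y.presheaf.stalk (f x))) (hx : u ⟨genericPoint Y, hη⟩ ⤳ x) :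
    ∃ (V : Y.Opens) (v : (V : Scheme.{u}) ⟶ X), f x ∈ V ∧ v ≫ f = V.ι ∧
      Y.homOfLE (inf_le_left : U ⊓ V ≤ U) ≫ u = Y.homOfLE (inf_le_right : U ⊓ V ≤ V) ≫ v := by
  have hqf : LocallyQuasiFinite f := locallyQuasiFinite_of_formallyUnramified f
  let z₀ := u ⟨genericPoint Y, hη⟩
  have hz₀ : f z₀ = genericPoint Y := by
    rw [← Scheme.Hom.comp_apply, hu]
    rfl
  obtain ⟨O, hxO, hO⟩ := exists_open_etale f x hy hx hz₀
  have : LocallyOfFinitePresentation (O.ι ≫ f) := inferInstance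
  have hsubO := EtComp.subsingleton_minimalPrimes
    (EtComp.isGeomUnibranch_stalk (O.ι ≫ f) ⟨x, hxO⟩ ⟨⊤, trivial, inferInstance⟩ hy)
  obtain ⟨N, hxN, hfin⟩ := EtComp.exists_open_finite f x
  let F := ((f ⁻¹' {genericPoint Y}) ∩ (N : Set X)) \ {z₀}
  have hFc : IsClosed (⋃ ξ ∈ F, closure {ξ}) :=
    (hfin.subset fun _ h => h.1).isClosed_biUnion fun _ _ => isClosed_closure
  let Z : X.Opens := ⟨((O : Set X) ∩ N) \ ⋃ ξ ∈ F, closure {ξ}, (O.2.inter N.2).sdiff hFc⟩
  have hxZ : x ∈ Z := by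
    refine ⟨⟨hxO, hxN⟩, ?_⟩
    simp only [Set.mem_iUnion, not_exists]
    rintro ξ ⟨⟨hξη, -⟩, hne⟩ hξ
    have hξx : ξ ⤳ x := specializes_iff_mem_closure.2 hξ
    have hξO : ξ ∈ O := hξx.mem_open O.2 hxO
    have hzO : z₀ ∈ O := hx.mem_open O.2 hxO
    have : LocallyQuasiFinite (O.ι ≫ f) := locallyQuasiFinite_of_formallyUnramified _
    have h : (⟨ξ, hξO⟩ : (O : Scheme.{u})) = ⟨z₀, hzO⟩ := by
      refine EtComp.eq_of_maximal (X := (O : Scheme.{u})) ⟨x, hxO⟩ hsubO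
        ((subtype_specializes_iff _ _).mpr hξx) ((subtype_specializes_iff _ _).mpr hx) ?_ ?_
      · exact fun z hz => EtComp.maximal_of_over_generic (O.ι ≫ f) hξη hz
      · exact fun z hz => EtComp.maximal_of_over_generic (O.ι ≫ f) hz₀ hz
    exact hne (congrArg (fun t : ((O : Scheme.{u}) : Type u) => t.1) h)
  let φ := Z.ι ≫ f
  have hφe : Etale φ := by
    have : Z.ι ≫ f = X.homOfLE (show Z ≤ O from fun t ht => ht.1.1) ≫ O.ι ≫ f := by simp
    show Etale (Z.ι ≫ f)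
    rw [this]
    infer_instance
  have hZη : ∀ t : Z, φ t = genericPoint Y → t.1 = z₀ := fun t ht => by
    by_contra hne
    exact t.2.2 (Set.mem_iUnion₂.mpr ⟨t.1, ⟨⟨ht, t.2.1.2⟩, hne⟩, subset_closure rfl⟩)
  have hdiag : Surjective (pullback.diagonal φ) := ⟨fun p => by
    have : Flat (pullback.fst φ φ ≫ φ) := inferInstance
    obtain ⟨q, hqp, hq⟩ := Flat.generalizingMap (pullback.fst φ φ ≫ φ)
      (genericPoint_specializes ((pullback.fst φ φ ≫ φ) p))
    let r := (pullback φ φ).fromSpecResidueField q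
    have h1 : φ (pullback.fst φ φ q) = genericPoint Y := hq
    have h2 : φ (pullback.snd φ φ q) = genericPoint Y := by
      rw [← Scheme.Hom.comp_apply, ← pullback.condition, Scheme.Hom.comp_apply, h1]
    have hra : Set.range (r ≫ pullback.fst φ φ ≫ Z.ι) ⊆ Set.range u := by
      rintro _ ⟨c, rfl⟩
      refine ⟨⟨genericPoint Y, hη⟩, ?_⟩
      rw [Scheme.Hom.comp_apply, Scheme.fromSpecResidueField_apply, Scheme.Hom.comp_apply]
      exact (hZη _ h1).symm
    have hrb : Set.range (r ≫ pullback.snd φ φ ≫ Z.ι) ⊆ Set.range u := by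
      rintro _ ⟨c, rfl⟩
      refine ⟨⟨genericPoint Y, hη⟩, ?_⟩
      rw [Scheme.Hom.comp_apply, Scheme.fromSpecResidueField_apply, Scheme.Hom.comp_apply]
      exact (hZη _ h2).symm
    have hab := eq_of_mem_range_section f U u hu _ _ (by simp only [Category.assoc]; rw [pullback.condition]) hra hrb
    rw [← Category.assoc, ← Category.assoc, cancel_mono] at hab
    have hr : r = (r ≫ pullback.fst φ φ) ≫ pullback.diagonal φ := by
      apply pullback.hom_ext
      · simp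
      · simp [hab]
    have hqd : q ∈ Set.range (pullback.diagonal φ) := by
      refine ⟨(r ≫ pullback.fst φ φ) (IsLocalRing.closedPoint _), ?_⟩
      rw [← Scheme.Hom.comp_apply, ← hr]
      exact Scheme.fromSpecResidueField_apply q _
    exact hqp.mem_closed (pullback.diagonal φ).isClosedMap.isClosed_range hqd⟩
  have hui : UniversallyInjective φ := (UniversallyInjective.iff_diagonal φ).mpr hdiag
  have hmono : Mono φ := mono_of_universallyInjective φ hui
  have : IsOpenImmersion φ := IsOpenImmersion.of_flat_of_mono φ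
  let V := φ.opensRange
  let v : (V : Scheme.{u}) ⟶ X := φ.isoOpensRange.inv ≫ Z.ι
  have hv : v ≫ f = V.ι := by
    rw [Category.assoc]
    exact φ.isoOpensRange_inv_comp
  refine ⟨V, v, ⟨⟨x, hxZ⟩, rfl⟩, hv, ?_⟩
  let a := Y.homOfLE (inf_le_left : U ⊓ V ≤ U) ≫ u
  let b := Y.homOfLE (inf_le_right : U ⊓ V ≤ V) ≫ v
  have hab : a ≫ f = b ≫ f := by
    simp only [a, b, Category.assoc, hu, hv, Scheme.homOfLE_ι]
  show a = b
  have hηW : genericPoint Y ∈ U ⊓ V := ⟨hη,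
    ((genericPoint_spec Y).mem_open_set_iff V.2).2 ⟨φ ⟨x, hxZ⟩, trivial, ⟨x, hxZ⟩, rfl⟩⟩
  let η' : (U ⊓ V : Y.Opens) := ⟨genericPoint Y, hηW⟩
  have hsec : ∀ (c : ((U ⊓ V : Y.Opens) : Scheme.{u}) ⟶ X), c ≫ f = (U ⊓ V : Y.Opens).ι →
      f (c η') = genericPoint Y := fun c hc => by rw [← Scheme.Hom.comp_apply, hc]; rfl
  have hbη : b η' = z₀ := by
    obtain ⟨t, ht⟩ : ∃ t : Z, Z.ι t = b η' :=
      ⟨(Y.homOfLE (inf_le_right : U ⊓ V ≤ V) ≫ φ.isoOpensRange.inv) η', rfl⟩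
    rw [← ht]
    refine hZη t ?_
    show f (Z.ι t) = _
    rw [ht]
    exact hsec b (by simp only [b, Category.assoc, hv, Scheme.homOfLE_ι])
  have haη : a η' = z₀ := by
    show u _ = u _
    congr 1
    exact Subtype.ext (Scheme.homOfLE_apply inf_le_left η')
  let r := ((U ⊓ V : Y.Opens) : Scheme.{u}).fromSpecResidueField η'
  have hra : r ≫ a = r ≫ b := by
    refine eq_of_mem_range_section f U u hu _ _ (by simp only [Category.assoc, hab]) ?_ ?_
    · rintro _ ⟨c, rfl⟩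
      rw [Scheme.Hom.comp_apply, Scheme.fromSpecResidueField_apply, haη]
      exact ⟨_, rfl⟩
    · rintro _ ⟨c, rfl⟩
      rw [Scheme.Hom.comp_apply, Scheme.fromSpecResidueField_apply, hbη]
      exact ⟨_, rfl⟩
  exact eq_of_eq_at_dense_point f a b hab η' (fun t => (subtype_specializes_iff _ _).mpr
    (genericPoint_specializes t.1)) hra

omit [IrreducibleSpace Y] [IsReduced Y] in
include hu in
/-- Extension of a rational section at a geometrically unibranch point meeting the closure of its image. -/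
theorem exists_section_nhd [AlgebraicGeometry.IsReduced Y]
    (hcomp : LocallyFinite (fun Z : ↥(irreducibleComponents ↥Y) => (Z : Set ↥Y)))
    (hU : Dense (U : Set ↥Y)) (y : Y) (hy : CAlg2.IsGeomUnibranch (Y.presheaf.stalk y))
    (x : X) (hxy : f x = y) (hx : x ∈ closure (Set.range u)) :
    ∃ (V : Y.Opens) (v : (V : Scheme.{u}) ⟶ X), y ∈ V ∧ v ≫ f = V.ι ∧
      Y.homOfLE (inf_le_left : U ⊓ V ≤ U) ≫ u = Y.homOfLE (inf_le_right : U ⊓ V ≤ V) ≫ v := by
  subst hxy
  obtain ⟨η, hηy, hηmax, hC⟩ := EtComp.exists_maximal_generization (f x)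
  have hsub := EtComp.subsingleton_minimalPrimes hy
  let Cs := {C : ↥(irreducibleComponents ↥Y) // f x ∉ (C : Set Y)}
  let Y₀ : Y.Opens := ⟨(⋃ C : Cs, (C.1 : Set Y))ᶜ, ((hcomp.comp_injective Subtype.val_injective).isClosed_iUnion
    fun C => isClosed_of_mem_irreducibleComponents _ C.1.2).isOpen_compl⟩
  have hyY₀ : f x ∈ Y₀ := by
    intro h
    obtain ⟨C, hC'⟩ := Set.mem_iUnion.mp h
    exact C.2 hC'
  have hdense : ∀ t ∈ Y₀, η ⤳ t := by
    intro t ht
    obtain ⟨ξ, hξt, hξmax, hξC⟩ := EtComp.exists_maximal_generization t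
    by_cases hyC : f x ∈ irreducibleComponent t
    · rw [hξC] at hyC
      rw [EtComp.eq_of_maximal (f x) hsub hηy (specializes_iff_mem_closure.2 hyC) hηmax hξmax]
      exact hξt
    · exfalso
      exact ht (Set.mem_iUnion.mpr ⟨⟨⟨_, irreducibleComponent_mem_irreducibleComponents t⟩, hyC⟩,
        mem_irreducibleComponent⟩)
  have hηY₀ : η ∈ Y₀ := hηy.mem_open Y₀.2 hyY₀
  have hirr : IrreducibleSpace (Y₀ : Scheme.{u}) := by
    have hd : ∀ t : (Y₀ : Scheme.{u}), (⟨η, hηY₀⟩ : (Y₀ : Scheme.{u})) ⤳ t := fun t =>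
      (subtype_specializes_iff _ _).mpr (hdense t.1 t.2)
    have huniv : (Set.univ : Set (Y₀ : Scheme.{u})) = closure {⟨η, hηY₀⟩} :=
      (Set.eq_univ_of_forall fun t => (hd t).mem_closure).symm
    exact
      { isPreirreducible_univ := huniv ▸ (isIrreducible_singleton.closure).2
        toNonempty := ⟨⟨η, hηY₀⟩⟩ }
  have hηU : η ∈ U := by
    obtain ⟨t, htY, htU⟩ := hU.inter_open_nonempty _ Y₀.2 ⟨η, hηY₀⟩
    exact (hdense t htY).mem_open U.2 htU
  have : AlgebraicGeometry.IsReduced (Y₀ : Scheme.{u}) := isReduced_of_isOpenImmersion Y₀.ι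
  let f₀ := f ∣_ Y₀
  have : IsSeparated f₀ := IsZariskiLocalAtTarget.restrict ‹_› _
  have : LocallyOfFiniteType f₀ := IsZariskiLocalAtTarget.restrict ‹_› _
  have : FormallyUnramified f₀ := IsZariskiLocalAtTarget.restrict ‹_› _
  let U₀ : (Y₀ : Scheme.{u}).Opens := Y₀.ι ⁻¹ᵁ U
  let m : (U₀ : Scheme.{u}) ⟶ U := Y₀.ι ∣_ U
  have hm : m ≫ U.ι = U₀.ι ≫ Y₀.ι := morphismRestrict_ι _ _
  let u₀ : (U₀ : Scheme.{u}) ⟶ (f ⁻¹ᵁ Y₀ : X.Opens) := IsOpenImmersion.lift (f ⁻¹ᵁ Y₀).ι (m ≫ u) (by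
    rintro _ ⟨t, rfl⟩
    rw [Scheme.Opens.range_ι]
    show f ((m ≫ u) t) ∈ Y₀
    rw [← Scheme.Hom.comp_apply, Category.assoc, hu, hm, Scheme.Hom.comp_apply]
    exact (U₀.ι t).2)
  have hu₀X : u₀ ≫ (f ⁻¹ᵁ Y₀).ι = m ≫ u := IsOpenImmersion.lift_fac _ _ _
  have hu₀ : u₀ ≫ f₀ = U₀.ι := by
    rw [← cancel_mono Y₀.ι, Category.assoc, morphismRestrict_ι, reassoc_of% hu₀X, hu, hm]
  have hgp : (genericPoint (Y₀ : Scheme.{u})).1 = η := by
    refine hηmax _ ?_
    exact (genericPoint_specializes (α := ((Y₀ : Scheme.{u}) : Type u)) ⟨η, hηY₀⟩).map Y₀.ι.continuous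
  have hgU : genericPoint (Y₀ : Scheme.{u}) ∈ U₀ := by
    show (genericPoint (Y₀ : Scheme.{u})).1 ∈ U
    rw [hgp]
    exact hηU
  let x₀ : (f ⁻¹ᵁ Y₀ : X.Opens) := ⟨x, hyY₀⟩
  have hf₀x : Y₀.ι (f₀ x₀) = f x := by
    rw [← Scheme.Hom.comp_apply, morphismRestrict_ι, Scheme.Hom.comp_apply]
    rfl
  have hy₀ : CAlg2.IsGeomUnibranch ((Y₀ : Scheme.{u}).presheaf.stalk (f₀ x₀)) :=
    EtComp.isGeomUnibranch_stalk Y₀.ι (f₀ x₀) ⟨⊤, trivial, inferInstance⟩ (by rw [hf₀x]; exact hy)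
  have huη : u ⟨η, hηU⟩ ⤳ x := by
    have h1 : x ∈ closure ((f ⁻¹ᵁ Y₀ : Set X) ∩ Set.range u) :=
      (f ⁻¹ᵁ Y₀).2.inter_closure ⟨hyY₀, hx⟩
    refine specializes_iff_mem_closure.2 (closure_minimal ?_ isClosed_closure h1)
    rintro _ ⟨htY, t, rfl⟩
    refine (Specializes.map ?_ u.continuous).mem_closure
    refine (subtype_specializes_iff (⟨η, hηU⟩ : U) t).mpr (hdense _ ?_)
    have : f (u t) = t.1 := by rw [← Scheme.Hom.comp_apply, hu]; rfl
    rw [← this]
    exact htY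
  have hx₀ : u₀ ⟨genericPoint (Y₀ : Scheme.{u}), hgU⟩ ⤳ x₀ := by
    refine (subtype_specializes_iff _ _).mpr ?_
    have : ((u₀ ≫ (f ⁻¹ᵁ Y₀).ι) ⟨genericPoint (Y₀ : Scheme.{u}), hgU⟩) = u ⟨η, hηU⟩ := by
      rw [hu₀X, Scheme.Hom.comp_apply]
      congr 1
      refine Subtype.ext ?_
      show U.ι (m ⟨genericPoint (Y₀ : Scheme.{u}), hgU⟩) = η
      rw [← Scheme.Hom.comp_apply, hm, Scheme.Hom.comp_apply]
      exact hgp
    rw [← this] at huη
    exact huη
  obtain ⟨V₀, v₀, hxV₀, hv₀, hagree⟩ := exists_section f₀ U₀ u₀ hu₀ hgU x₀ hy₀ hx₀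
  let i : (V₀ : Scheme.{u}) ⟶ Y := V₀.ι ≫ Y₀.ι
  let V : Y.Opens := i.opensRange
  let v : (V : Scheme.{u}) ⟶ X := i.isoOpensRange.inv ≫ v₀ ≫ (f ⁻¹ᵁ Y₀).ι
  have hv : v ≫ f = V.ι := by
    simp only [v, Category.assoc, ← morphismRestrict_ι]
    rw [reassoc_of% hv₀]
    exact i.isoOpensRange_inv_comp
  refine ⟨V, v, ⟨⟨f₀ x₀, hxV₀⟩, hf₀x⟩, hv, ?_⟩
  let j : ((U₀ ⊓ V₀ : (Y₀ : Scheme.{u}).Opens) : Scheme.{u}) ⟶ Y :=
    (U₀ ⊓ V₀ : (Y₀ : Scheme.{u}).Opens).ι ≫ Y₀.ι
  let c := IsOpenImmersion.lift j (U ⊓ V : Y.Opens).ι (by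
    rintro _ ⟨⟨t, htU, s, hs⟩, rfl⟩
    refine ⟨⟨s.1, ?_, s.2⟩, hs⟩
    show Y₀.ι s.1 ∈ U
    rw [show Y₀.ι s.1 = t from hs]
    exact htU)
  have hc : c ≫ j = (U ⊓ V : Y.Opens).ι := IsOpenImmersion.lift_fac _ _ _
  have hcU : c ≫ (Y₀ : Scheme.{u}).homOfLE (inf_le_left : U₀ ⊓ V₀ ≤ U₀) ≫ m =
      Y.homOfLE (inf_le_left : U ⊓ V ≤ U) := by
    rw [← cancel_mono U.ι, Category.assoc, Category.assoc, hm, Scheme.homOfLE_ι_assoc, Scheme.homOfLE_ι]
    exact hc
  have hcV : c ≫ (Y₀ : Scheme.{u}).homOfLE (inf_le_right : U₀ ⊓ V₀ ≤ V₀) ≫ i.isoOpensRange.hom =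
      Y.homOfLE (inf_le_right : U ⊓ V ≤ V) := by
    rw [← cancel_mono V.ι, Category.assoc, Category.assoc, Scheme.Hom.isoOpensRange_hom_ι,
      Scheme.homOfLE_ι_assoc, Scheme.homOfLE_ι]
    exact hc
  have h2 := congrArg (fun k => c ≫ k ≫ (f ⁻¹ᵁ Y₀).ι) hagree
  simp only [Category.assoc] at h2
  rw [hu₀X, ← Category.assoc _ m, ← Category.assoc c _ u, hcU] at h2
  rw [h2, ← hcV]
  simp [v]

end Groth.Agent.Unr55.SectExt
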