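import Groth.Agent.Unr55.EtLocal

/-!
Product decomposition coming from a splitting.
-/

universe u

open TensorProduct

namespace Groth.Agent.Unr55

theorem mk_eq_of_mul_eq {T : Type u} [CommRing T] {e a b : T} (h : a * e = b * e) :
    Ideal.Quotient.mk (Ideal.span {1 - e}) a = Ideal.Quotient.mk (Ideal.span {1 - e}) b :=
  Ideal.Quotient.eq.mpr (Ideal.mem_span_singleton'.mpr ⟨a - b, by rw [mul_sub, mul_one, sub_mul a b e, h, sub_self, sub_zero]⟩)

theorem mul_eq_zero_of_mk_eq_zero {T : Type u} [CommRing T] {e a : T} (he : IsIdempotentElem e)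
    (h : Ideal.Quotient.mk (Ideal.span {1 - e}) a = 0) : a * e = 0 := by
  obtain ⟨c, rfl⟩ := Ideal.mem_span_singleton'.mp (Ideal.Quotient.eq_zero_iff_mem.mp h)
  rw [mul_assoc, sub_mul, one_mul, he.eq, sub_self, mul_zero]

/-- A finite family of orthogonal idempotents decomposes a ring, with one complementary factor. -/
theorem nonempty_algEquiv_pi_prod {R T : Type u} [CommRing R] [CommRing T] [Algebra R T] {n : ℕ}
    {e : Fin n → T} (he : OrthogonalIdempotents e) :
    Nonempty (T ≃ₐ[R] ((∀ i, T ⧸ Ideal.span {1 - e i}) × T ⧸ Ideal.span {1 - (1 - ∑ i, e i)})) := by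
  have hc : IsIdempotentElem (1 - ∑ i, e i) := he.isIdempotentElem_sum.one_sub
  have hec : ∀ i, e i * (1 - ∑ j, e j) = 0 := fun i ↦ by
    rw [mul_sub, mul_one, he.mul_sum_of_mem (Finset.mem_univ i), sub_self]
  refine ⟨AlgEquiv.ofBijective ((AlgHom.pi fun i ↦ Ideal.Quotient.mkₐ R _).prod
    (Ideal.Quotient.mkₐ R _)) ⟨?_, ?_⟩⟩
  · rw [injective_iff_map_eq_zero]
    intro x hx
    have h1 : ∀ i, x * e i = 0 := fun i ↦
      mul_eq_zero_of_mk_eq_zero (he.idem i) (congrFun (congrArg Prod.fst hx) i)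
    have h2 : x * (1 - ∑ i, e i) = 0 := mul_eq_zero_of_mk_eq_zero hc (congrArg Prod.snd hx)
    rw [mul_sub, mul_one, Finset.mul_sum, Finset.sum_eq_zero fun i _ ↦ h1 i, sub_zero] at h2
    exact h2
  · rintro ⟨a, b⟩
    choose a' ha using fun i ↦ Ideal.Quotient.mk_surjective (a i)
    obtain ⟨b', rfl⟩ := Ideal.Quotient.mk_surjective b
    refine ⟨∑ i, a' i * e i + b' * (1 - ∑ i, e i), Prod.ext (funext fun i ↦ ?_) ?_⟩
    · refine Eq.trans (mk_eq_of_mul_eq ?_) (ha i)
      rw [add_mul, Finset.sum_mul, Finset.sum_eq_single i, mul_assoc, (he.idem i).eq, mul_assoc,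
        mul_comm (1 - _) (e i), hec, mul_zero, add_zero]
      · exact fun j _ hj ↦ by rw [mul_assoc, he.ortho hj, mul_zero]
      · simp
    · refine mk_eq_of_mul_eq ?_
      rw [add_mul, mul_assoc, hc.eq, Finset.sum_mul, Finset.sum_eq_zero fun i _ ↦ ?_, zero_add]
      rw [mul_assoc, hec, mul_zero]

/-- The factors of a splitting. -/
theorem HasSplitting.exists_decomp {R T : Type u} [CommRing R] [CommRing T] [Algebra R T]
    {p : Ideal R} [p.IsPrime] (h : HasSplitting R T p) :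
    ∃ (n : ℕ) (A : Fin n → Type u) (_ : ∀ i, CommRing (A i))
      (_ : ∀ i, Algebra R (A i)) (B : Type u) (_ : CommRing B) (_ : Algebra R B),
      Nonempty (T ≃ₐ[R] ((∀ i, A i) × B)) ∧
        (∀ i, Function.Surjective (algebraMap R (A i)) ∧
          (p.map (algebraMap R (A i))).IsPrime ∧
          (p.map (algebraMap R (A i))).comap (algebraMap R (A i)) = p) ∧
        ∀ (q : Ideal B) [q.IsPrime], q.comap (algebraMap R B) ≠ p := by
  obtain ⟨n, e, he, h1, h2, h3⟩ := h
  refine ⟨n, fun i ↦ T ⧸ Ideal.span {1 - e i}, inferInstance, inferInstance,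
    T ⧸ Ideal.span {1 - (1 - ∑ i, e i)}, inferInstance, inferInstance,
    nonempty_algEquiv_pi_prod he, fun i ↦ ?_, fun q _ hq ↦ ?_⟩
  · have hs : Function.Surjective (algebraMap R (T ⧸ Ideal.span {1 - e i})) := fun a ↦ by
      obtain ⟨t, rfl⟩ := Ideal.Quotient.mk_surjective a
      obtain ⟨r, hr⟩ := h1 i t
      exact ⟨r, (mk_eq_of_mul_eq hr).symm⟩
    have hk : RingHom.ker (algebraMap R (T ⧸ Ideal.span {1 - e i})) ≤ p :=
      fun r hr ↦ h2 i r (mul_eq_zero_of_mk_eq_zero (he.idem i) hr)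
    refine ⟨hs, Ideal.map_isPrime_of_surjective hs hk, ?_⟩
    rw [Ideal.comap_map_of_surjective _ hs, ← RingHom.ker_eq_comap_bot]
    exact sup_eq_left.mpr hk
  · obtain ⟨i, hi⟩ := h3 (q.comap (Ideal.Quotient.mk _)) inferInstance
      (by rw [Ideal.comap_comap]; exact hq)
    refine hi ?_
    have : Ideal.Quotient.mk (Ideal.span {1 - (1 - ∑ i, e i)}) (e i) = 0 := by
      rw [← map_zero (Ideal.Quotient.mk _)]
      refine mk_eq_of_mul_eq ?_
      rw [zero_mul, mul_sub, mul_one, he.mul_sum_of_mem (Finset.mem_univ i), sub_self]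
    rw [Ideal.mem_comap, this]
    exact q.zero_mem

end Groth.Agent.Unr55
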