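import Mathlib.RingTheory.Etale.Locus
import Mathlib.RingTheory.Unramified.LocalStructure
import Mathlib.RingTheory.Unramified.Finite
import Mathlib.RingTheory.Smooth.Flat
import Mathlib.RingTheory.Ideal.Pure
import Mathlib.RingTheory.Idempotents
import Mathlib.RingTheory.FinitePresentation
import Mathlib.RingTheory.QuasiFinite.Basic
import Mathlib.LinearAlgebra.Dimension.Constructions

/-!
Étale-local structure of unramified algebras.
-/

universe u

open TensorProduct

namespace Groth.Agent.Unr55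

/-- `T` splits over `p'` into finitely many quotients of `R'` and a part away from `p'`. -/
def HasSplitting (R' T : Type u) [CommRing R'] [CommRing T] [Algebra R' T] (p' : Ideal R') : Prop :=
  ∃ (n : ℕ) (e : Fin n → T), OrthogonalIdempotents e ∧
    (∀ i t, ∃ r : R', t * e i = algebraMap R' T r * e i) ∧
    (∀ i r, algebraMap R' T r * e i = 0 → r ∈ p') ∧
    ∀ Q : Ideal T, Q.IsPrime → Q.comap (algebraMap R' T) = p' → ∃ i, e i ∉ Q

theorem HasSplitting.of_algEquiv {R' T T' : Type u} [CommRing R'] [CommRing T] [Algebra R' T]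
    [CommRing T'] [Algebra R' T'] (f : T ≃ₐ[R'] T') {p' : Ideal R'} (h : HasSplitting R' T p') :
    HasSplitting R' T' p' := by
  obtain ⟨n, e, he, h1, h2, h3⟩ := h
  refine ⟨n, f ∘ e, he.map f.toRingEquiv.toRingHom, fun i t ↦ ?_, fun i r hr ↦ ?_, fun Q _ hQ ↦ ?_⟩
  · obtain ⟨r, hr⟩ := h1 i (f.symm t)
    refine ⟨r, f.symm.injective ?_⟩
    simpa using hr
  · refine h2 i r (f.injective ?_)
    simpa using hr
  · obtain ⟨i, hi⟩ := h3 (Q.comap f.toRingEquiv.toRingHom) inferInstance
      (by rw [← hQ, Ideal.comap_comap]; congr 1; ext; simp)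
    exact ⟨i, hi⟩

set_option backward.isDefEq.respectTransparency false in
/-- An algebra unramified at `q` acquires, étale locally, a factor which is a quotient of the
base and passes through `q`. -/
theorem exists_etale_idempotent {R S : Type u} [CommRing R] [CommRing S] [Algebra R S]
    [Algebra.FiniteType R S] (q : Ideal S) [q.IsPrime] (p : Ideal R) [p.IsPrime] [q.LiesOver p]
    [Algebra.IsUnramifiedAt R q] :
    ∃ (R' : Type u) (_ : CommRing R') (_ : Algebra R R') (_ : Algebra.Etale R R') (p' : Ideal R')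
      (_ : p'.IsPrime) (_ : p'.LiesOver p) (e : R' ⊗[R] S), IsIdempotentElem e ∧
      (∀ t, ∃ r : R', t * e = algebraMap R' (R' ⊗[R] S) r * e) ∧
      (∀ r, algebraMap R' (R' ⊗[R] S) r * e = 0 → r ∈ p') ∧
      ∃ (Q : Ideal (R' ⊗[R] S)) (_ : Q.IsPrime), Q.comap (algebraMap R' (R' ⊗[R] S)) = p' ∧
        Q.comap Algebra.TensorProduct.includeRight.toRingHom = q ∧ e ∉ Q := by
  obtain ⟨f, hfq, P, φ, hφ⟩ :=
    Algebra.IsUnramifiedAt.exists_hasStandardEtaleSurjectionOn (R := R) q
  have : (q.map (algebraMap S (Localization.Away f))).IsPrime :=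
    IsLocalization.isPrime_of_isPrime_disjoint (.powers f) _ _ ‹_›
      ((Ideal.disjoint_powers_iff_notMem_of_isPrime _).mpr hfq)
  have hQf : (q.map (algebraMap S (Localization.Away f))).comap (algebraMap S _) = q :=
    IsLocalization.under_map_of_isPrime_disjoint (.powers f) _ ‹_›
      ((Ideal.disjoint_powers_iff_notMem_of_isPrime _).mpr hfq)
  let ψ : P.Ring ⊗[R] S →ₐ[R] Localization.Away f :=
    Algebra.TensorProduct.lift φ (IsScalarTower.toAlgHom R S _) fun _ _ ↦ Commute.all _ _
  have hψ1 : ∀ r, ψ (algebraMap P.Ring _ r) = φ r := fun r ↦ by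
    simp [ψ, Algebra.TensorProduct.algebraMap_apply]
  have hψ : Function.Surjective ψ := fun a ↦ by
    obtain ⟨r, rfl⟩ := hφ a
    exact ⟨_, hψ1 r⟩
  let := Algebra.TensorProduct.rightAlgebra (R := R) (A := P.Ring) (B := S)
  let : Algebra (P.Ring ⊗[R] S) (Localization.Away f) := ψ.toAlgebra
  have : IsScalarTower S (P.Ring ⊗[R] S) (Localization.Away f) :=
    .of_algebraMap_eq fun s ↦ by simp [RingHom.algebraMap_toAlgebra, ψ]
  have : Module.Flat S (Localization.Away f) := IsLocalization.flat _ (Submonoid.powers f)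
  have : Algebra.FiniteType S (P.Ring ⊗[R] S) :=
    .equiv (inferInstance : Algebra.FiniteType S (S ⊗[R] P.Ring))
      (AlgEquiv.ofRingEquiv (f := (Algebra.TensorProduct.comm R S P.Ring).toRingEquiv)
        fun s ↦ by simp [RingHom.algebraMap_toAlgebra])
  have : Algebra.FormallyUnramified S (P.Ring ⊗[R] S) :=
    .of_equiv (A := S ⊗[R] P.Ring)
      (AlgEquiv.ofRingEquiv (f := (Algebra.TensorProduct.comm R S P.Ring).toRingEquiv)
        fun s ↦ by simp [RingHom.algebraMap_toAlgebra])
  have : Module.Flat (P.Ring ⊗[R] S) (Localization.Away f) :=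
    Algebra.FormallyUnramified.flat_of_restrictScalars S (P.Ring ⊗[R] S) _
  have : Algebra.FinitePresentation S (Localization.Away f) := IsLocalization.Away.finitePresentation f
  have : Algebra.FinitePresentation (P.Ring ⊗[R] S) (Localization.Away f) :=
    .of_restrict_scalars_finitePresentation S _ _
  let ψ' : P.Ring ⊗[R] S →ₐ[P.Ring ⊗[R] S] Localization.Away f := Algebra.ofId _ _
  have hfg : (RingHom.ker ψ').FG :=
    Algebra.FinitePresentation.ker_fG_of_surjective ψ' hψ
  have : (RingHom.ker ψ').Pure :=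
    Module.Flat.of_linearEquiv (Ideal.quotientKerAlgEquivOfSurjective (f := ψ') hψ).toLinearEquiv
  obtain ⟨ε, hε, hker⟩ := (Ideal.isIdempotentElem_iff_of_fg _ hfg).mp
    (Ideal.isIdempotentElem_of_pure _)
  have hmem : ∀ t, ψ t = 0 ↔ ∃ c, c * ε = t := fun t ↦ by
    rw [← Ideal.mem_span_singleton', ← Ideal.submodule_span_eq, ← hker]
    exact Iff.rfl
  have hψe : ψ (1 - ε) = 1 := by rw [map_sub, map_one, (hmem ε).mpr ⟨1, one_mul _⟩, sub_zero]
  let Q : Ideal (P.Ring ⊗[R] S) := (q.map (algebraMap S (Localization.Away f))).comap ψ.toRingHom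
  have hQS : Q.comap Algebra.TensorProduct.includeRight.toRingHom = q := by
    rw [Ideal.comap_comap]
    refine Eq.trans ?_ hQf
    congr 1
    ext s
    simp [ψ]
  refine ⟨P.Ring, inferInstance, inferInstance, inferInstance,
    Q.comap (algebraMap P.Ring _), inferInstance, ⟨?_⟩, 1 - ε, hε.one_sub, fun t ↦ ?_,
    fun r hr ↦ ?_, Q, inferInstance, rfl, hQS, fun h ↦ ?_⟩
  · rw [Ideal.under_def, Ideal.comap_comap, Ideal.over_def q p, Ideal.under_def, ← hQS,
      Ideal.comap_comap]
    congr 1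
    ext x
    simp [Algebra.TensorProduct.algebraMap_apply]
  · obtain ⟨r, hr⟩ := hφ (ψ t)
    refine ⟨r, ?_⟩
    obtain ⟨c, hc⟩ := (hmem (t - algebraMap P.Ring _ r)).mp (by rw [map_sub, hψ1, hr, sub_self])
    rw [← sub_eq_zero, ← sub_mul, ← hc, mul_assoc, mul_sub, mul_one, hε.eq, sub_self, mul_zero]
  · have h0 := congrArg ψ hr
    rw [map_mul, hψe, mul_one, map_zero] at h0
    show ψ (algebraMap P.Ring _ r) ∈ q.map (algebraMap S (Localization.Away f))
    rw [h0]
    exact zero_mem _
  · have h1 : ψ (1 - ε) ∈ q.map (algebraMap S (Localization.Away f)) := h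
    rw [hψe] at h1
    exact ‹(q.map (algebraMap S (Localization.Away f))).IsPrime›.one_notMem h1

theorem surjective_map_id_mkₐ {R A T : Type u} [CommRing R] [CommRing A] [CommRing T] [Algebra R A]
    [Algebra R T] (I : Ideal T) (_h : A = A) :
    Function.Surjective (Algebra.TensorProduct.map (AlgHom.id A A) (Ideal.Quotient.mkₐ R I) :
      A ⊗[R] T →ₐ[A] A ⊗[R] (T ⧸ I)) := by
  intro z
  induction z with
  | zero => exact ⟨0, map_zero _⟩
  | add x y hx hy =>
    obtain ⟨a, rfl⟩ := hx
    obtain ⟨b, rfl⟩ := hy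
    exact ⟨a + b, map_add _ _ _⟩
  | tmul a t =>
    obtain ⟨t, rfl⟩ := Ideal.Quotient.mk_surjective t
    exact ⟨a ⊗ₜ t, by simp [Algebra.TensorProduct.map_tmul]⟩

/-- A point of a split factor. -/
theorem exists_algHom_residue {R T : Type u} [CommRing R] [CommRing T] [Algebra R T]
    {p : Ideal R} {e : T} (he : IsIdempotentElem e)
    (h1 : ∀ t, ∃ r : R, t * e = algebraMap R T r * e)
    (h2 : ∀ r, algebraMap R T r * e = 0 → r ∈ p) :
    ∃ ρ : T →ₐ[R] R ⧸ p, ρ e = 1 := by
  choose ρ hρ using h1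
  have key : ∀ t r, t * e = algebraMap R T r * e → Ideal.Quotient.mk p (ρ t) = Ideal.Quotient.mk p r :=
    fun t r h ↦ Ideal.Quotient.eq.mpr (h2 _ (by rw [map_sub, sub_mul, ← hρ, h, sub_self]))
  refine ⟨{ toFun := fun t ↦ Ideal.Quotient.mk p (ρ t)
            map_one' := by rw [← map_one (Ideal.Quotient.mk p)]; exact key 1 1 (by rw [map_one])
            map_mul' := fun x y ↦ by
              rw [← map_mul]
              exact key _ _ (by rw [map_mul, mul_assoc, hρ y, mul_left_comm, hρ x]; ring)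
            map_zero' := by rw [← map_zero (Ideal.Quotient.mk p)]; exact key 0 0 (by rw [map_zero])
            map_add' := fun x y ↦ by
              rw [← map_add]
              exact key _ _ (by rw [map_add, add_mul, hρ x, hρ y, add_mul])
            commutes' := fun r ↦ key _ r rfl }, ?_⟩
  change Ideal.Quotient.mk p (ρ e) = 1
  rw [← map_one (Ideal.Quotient.mk p)]
  exact key _ _ (by rw [he.eq, map_one, one_mul])

/-- Splitting is glued from an idempotent and a splitting of the complementary factor. -/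
theorem hasSplitting_step {R₁ T₁ R₂ : Type u} [CommRing R₁] [CommRing T₁] [Algebra R₁ T₁]
    [CommRing R₂] [Algebra R₁ R₂] (p₁ : Ideal R₁) (p₂ : Ideal R₂) [p₂.LiesOver p₁] {e : T₁}
    (he : IsIdempotentElem e) (h1 : ∀ t, ∃ r : R₁, t * e = algebraMap R₁ T₁ r * e)
    (h2 : ∀ r, algebraMap R₁ T₁ r * e = 0 → r ∈ p₁)
    (h : HasSplitting R₂ (R₂ ⊗[R₁] (T₁ ⧸ Ideal.span {e})) p₂) :
    HasSplitting R₂ (R₂ ⊗[R₁] T₁) p₂ := by
  obtain ⟨m, e', he', hs', hk', hc'⟩ := h
  let π : R₂ ⊗[R₁] T₁ →ₐ[R₂] R₂ ⊗[R₁] (T₁ ⧸ Ideal.span {e}) :=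
    Algebra.TensorProduct.map (AlgHom.id R₂ R₂) (Ideal.Quotient.mkₐ R₁ _)
  have hπ : Function.Surjective π :=
    surjective_map_id_mkₐ _ rfl
  let E : R₂ ⊗[R₁] T₁ := 1 ⊗ₜ e
  have hE : IsIdempotentElem E := by
    simp [E, IsIdempotentElem, Algebra.TensorProduct.tmul_mul_tmul, he.eq]
  have hπE : π E = 0 := by
    have : Ideal.Quotient.mkₐ R₁ (Ideal.span {e}) e = 0 :=
      Ideal.Quotient.eq_zero_iff_mem.mpr (Ideal.mem_span_singleton_self e)
    simp only [π, E, Algebra.TensorProduct.map_tmul, this, TensorProduct.tmul_zero]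
  have hker : ∀ z, π z = 0 → ∃ c, c * E = z := fun z hz ↦ by
    rw [← Ideal.mem_span_singleton']
    have h0 : (Algebra.TensorProduct.map (AlgHom.id R₁ R₂) (Ideal.Quotient.mkₐ R₁ (Ideal.span {e}))) z = 0 := hz
    rw [← RingHom.mem_ker, Algebra.TensorProduct.lTensor_ker _ Ideal.Quotient.mk_surjective] at h0
    rw [show RingHom.ker (Ideal.Quotient.mkₐ R₁ (Ideal.span {e})) = Ideal.span {e} from
      Ideal.Quotient.mkₐ_ker R₁ _, Ideal.map_span, Set.image_singleton] at h0
    exact h0
  have hfix : ∀ z, π z = 0 → z * (1 - E) = 0 := fun z hz ↦ by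
    obtain ⟨c, rfl⟩ := hker z hz
    rw [mul_assoc, mul_sub, mul_one, hE.eq, sub_self, mul_zero]
  choose g hg using fun i ↦ hπ (e' i)
  let el : Fin m → R₂ ⊗[R₁] T₁ := fun i ↦ g i * (1 - E)
  have hπl : ∀ i, π (el i) = e' i := fun i ↦ by simp [el, hπE, hg]
  have hl1 : ∀ i, el i * (1 - E) = el i := fun i ↦ by rw [mul_assoc, hE.one_sub.eq]
  have hlE : ∀ i, el i * E = 0 := fun i ↦ by
    rw [mul_assoc, sub_mul, one_mul, hE.eq, sub_self, mul_zero]
  have hidem : ∀ i, IsIdempotentElem (el i) := fun i ↦ by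
    have := hfix (el i * el i - el i) (by rw [map_sub, map_mul, hπl, (he'.idem i).eq, sub_self])
    rw [sub_mul, mul_assoc, hl1, sub_eq_zero] at this
    exact this
  have hidem' : ∀ i, IsIdempotentElem ((Fin.cons E el : Fin (m + 1) → R₂ ⊗[R₁] T₁) i) := fun i ↦ by
    cases i using Fin.cases with
    | zero => rw [Fin.cons_zero]; exact hE
    | succ i => rw [Fin.cons_succ]; exact hidem i
  clear_value el
  refine ⟨m + 1, Fin.cons E el, ⟨hidem', ?_⟩, ?_, ?_, ?_⟩
  · intro i j hij
    cases i using Fin.cases with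
    | zero =>
      cases j using Fin.cases with
      | zero => exact absurd rfl hij
      | succ j => simpa [mul_comm E] using hlE j
    | succ i =>
      cases j using Fin.cases with
      | zero => simpa using hlE i
      | succ j =>
        have hne : i ≠ j := fun h ↦ hij (congrArg Fin.succ h)
        have := hfix (el i * el j) (by rw [map_mul, hπl, hπl, he'.ortho hne])
        rw [mul_assoc, hl1] at this
        simpa using this
  · refine Fin.cases (fun t ↦ ?_) fun i t ↦ ?_
    · simp only [Fin.cons_zero]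
      induction t with
      | zero => exact ⟨0, by simp⟩
      | add x y hx hy =>
        obtain ⟨a, ha⟩ := hx
        obtain ⟨b, hb⟩ := hy
        exact ⟨a + b, by rw [add_mul, ha, hb, map_add, add_mul]⟩
      | tmul r t₁ =>
        obtain ⟨r₁, hr₁⟩ := h1 t₁
        refine ⟨r * algebraMap R₁ R₂ r₁, ?_⟩
        simp only [E, Algebra.TensorProduct.algebraMap_apply, Algebra.algebraMap_self,
          RingHom.id_apply, Algebra.TensorProduct.tmul_mul_tmul, mul_one, one_mul, hr₁]
        rw [← Algebra.smul_def, TensorProduct.tmul_smul, TensorProduct.smul_tmul', Algebra.smul_def,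
          mul_comm]
    · simp only [Fin.cons_succ]
      obtain ⟨r, hr⟩ := hs' i (π t)
      refine ⟨r, ?_⟩
      have := hfix (t * el i - algebraMap R₂ _ r * el i)
        (by rw [map_sub, map_mul, map_mul, hπl, AlgHom.commutes, hr, sub_self])
      rw [sub_mul, mul_assoc, mul_assoc, hl1, sub_eq_zero] at this
      exact this
  · refine Fin.cases (fun r hr ↦ ?_) fun i r hr ↦ ?_
    · obtain ⟨ρ, hρ⟩ := exists_algHom_residue he h1 h2
      let L : R₂ ⊗[R₁] T₁ →ₐ[R₂] R₂ ⧸ p₂ := Algebra.TensorProduct.lift (Algebra.ofId R₂ _)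
        ((IsScalarTower.toAlgHom R₁ (R₁ ⧸ p₁) (R₂ ⧸ p₂)).comp ρ) fun _ _ ↦ Commute.all _ _
      have hLE : L E = 1 := by simp [L, E, hρ]
      have := congrArg L hr
      rw [Fin.cons_zero, map_mul, hLE, mul_one, AlgHom.commutes, map_zero] at this
      exact Ideal.Quotient.eq_zero_iff_mem.mp this
    · rw [Fin.cons_succ] at hr
      have := congrArg π hr
      rw [map_mul, hπl, AlgHom.commutes, map_zero] at this
      exact hk' i r this
  · intro Q hQ hQc
    by_cases hEQ : E ∈ Q
    · have hle : RingHom.ker π.toRingHom ≤ Q := fun z hz ↦ by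
        obtain ⟨c, rfl⟩ := hker z hz
        exact Q.mul_mem_left c hEQ
      have : (Q.map π.toRingHom).IsPrime := Ideal.map_isPrime_of_surjective hπ hle
      have hQ' : (Q.map π.toRingHom).comap π.toRingHom = Q := by
        rw [Ideal.comap_map_of_surjective π.toRingHom (hπ : Function.Surjective π.toRingHom), ← RingHom.ker_eq_comap_bot]
        exact sup_eq_left.mpr hle
      obtain ⟨i, hi⟩ := hc' (Q.map π.toRingHom) inferInstance (by
        rw [← hQc]
        conv_rhs => rw [← hQ', Ideal.comap_comap]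
        congr 1)
      refine ⟨i.succ, fun h ↦ hi ?_⟩
      rw [Fin.cons_succ] at h
      rw [← hπl i]
      exact Ideal.mem_map_of_mem π.toRingHom h
    · exact ⟨0, by simpa using hEQ⟩

/-- An unramified algebra splits étale locally on the base around any prime. -/
theorem exists_etale_hasSplitting {R S : Type u} [CommRing R] [CommRing S] [Algebra R S]
    [Algebra.Unramified R S] (p : Ideal R) [p.IsPrime] :
    ∃ (R' : Type u) (_ : CommRing R') (_ : Algebra R R') (_ : Algebra.Etale R R') (p' : Ideal R')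
      (_ : p'.IsPrime) (_ : p'.LiesOver p), HasSplitting R' (R' ⊗[R] S) p' := by
  suffices ∀ (n : ℕ) (R S : Type u) [CommRing R] [CommRing S] [Algebra R S]
      [Algebra.Unramified R S] (p : Ideal R) [p.IsPrime],
      Module.finrank p.ResidueField (p.Fiber S) = n →
      ∃ (R' : Type u) (_ : CommRing R') (_ : Algebra R R') (_ : Algebra.Etale R R') (p' : Ideal R')
        (_ : p'.IsPrime) (_ : p'.LiesOver p), HasSplitting R' (R' ⊗[R] S) p' from
    this _ R S p rfl
  intro n
  induction n using Nat.strong_induction_on with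
  | _ n ih => ?_
  intro R S _ _ _ _ p _ hn
  by_cases hex : ∃ q : Ideal S, q.IsPrime ∧ q.LiesOver p
  swap
  · have : p.LiesOver p := ⟨rfl⟩
    refine ⟨R, inferInstance, inferInstance, inferInstance, p, inferInstance, inferInstance,
      0, Fin.elim0, ⟨fun i ↦ i.elim0, fun i ↦ i.elim0⟩, fun i ↦ i.elim0, fun i ↦ i.elim0,
      fun Q hQ hQp ↦ (hex ⟨Q.comap Algebra.TensorProduct.includeRight.toRingHom, inferInstance,
        ⟨?_⟩⟩).elim⟩
    rw [← hQp, Ideal.under_def, Ideal.comap_comap]
    congr 1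
    ext x
    simp [Algebra.algebraMap_eq_smul_one, TensorProduct.smul_tmul',
      Algebra.TensorProduct.one_def]
  obtain ⟨q, _, _⟩ := hex
  obtain ⟨R₁, _, _, _, p₁, _, _, e, he, h1, h2, -⟩ := exists_etale_idempotent q p
  let T₁ := R₁ ⊗[R] S
  let B₁ := T₁ ⧸ Ideal.span {e}
  have : Algebra.Unramified R₁ B₁ :=
    { formallyUnramified := .of_surjective (Ideal.Quotient.mkₐ R₁ _) Ideal.Quotient.mk_surjective
      finiteType := .of_surjective (Ideal.Quotient.mkₐ R₁ _) Ideal.Quotient.mk_surjective }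
  let := Localization.AtPrime.algebraOfLiesOver p p₁
  let K := p₁.ResidueField
  let π : K ⊗[R₁] T₁ →ₐ[K] K ⊗[R₁] B₁ :=
    Algebra.TensorProduct.map (AlgHom.id K K) (Ideal.Quotient.mkₐ R₁ _)
  have hπ : Function.Surjective π :=
    surjective_map_id_mkₐ _ rfl
  have hπe : π (1 ⊗ₜ e) = 0 := by
    have : Ideal.Quotient.mkₐ R₁ (Ideal.span {e}) e = 0 :=
      Ideal.Quotient.eq_zero_iff_mem.mpr (Ideal.mem_span_singleton_self e)
    simp only [π, Algebra.TensorProduct.map_tmul, this, TensorProduct.tmul_zero]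
  have hne : (1 ⊗ₜ e : K ⊗[R₁] T₁) ≠ 0 := fun h ↦ by
    obtain ⟨ρ, hρ⟩ := exists_algHom_residue he h1 h2
    have := congrArg (Algebra.TensorProduct.lift (AlgHom.id K K)
      ((IsScalarTower.toAlgHom R₁ (R₁ ⧸ p₁) K).comp ρ) fun _ _ ↦ Commute.all _ _) h
    simp [hρ] at this
  have : Module.Finite K (K ⊗[R₁] T₁) := Algebra.QuasiFinite.finite_fiber (R := R₁) (S := T₁) p₁
  have hlt : Module.finrank K (K ⊗[R₁] B₁) < Module.finrank K (K ⊗[R₁] T₁) := by
    have h := π.toLinearMap.finrank_range_add_finrank_ker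
    have h' : LinearMap.range π.toLinearMap = ⊤ := LinearMap.range_eq_top.mpr hπ
    rw [h', finrank_top] at h
    have hpos : 0 < Module.finrank K (LinearMap.ker π.toLinearMap) :=
      Module.finrank_pos_iff.mpr ⟨⟨⟨(1 ⊗ₜ e : K ⊗[R₁] T₁), LinearMap.mem_ker.mpr hπe⟩,
        (0 : LinearMap.ker π.toLinearMap), fun h ↦ hne (congrArg Subtype.val h)⟩⟩
    omega
  have heq : Module.finrank K (K ⊗[R₁] T₁) = n := by
    rw [← hn, (Algebra.TensorProduct.cancelBaseChange R R₁ K K S).toLinearEquiv.finrank_eq,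
      ← (Algebra.TensorProduct.cancelBaseChange R p.ResidueField K K S).toLinearEquiv.finrank_eq,
      Module.finrank_baseChange]
  obtain ⟨R₂, _, _, _, p₂, _, _, h⟩ := ih _ (heq ▸ hlt) R₁ B₁ p₁ rfl
  let : Algebra R R₂ := ((algebraMap R₁ R₂).comp (algebraMap R R₁)).toAlgebra
  have : IsScalarTower R R₁ R₂ := .of_algebraMap_eq' rfl
  have : Algebra.Etale R R₂ := Algebra.Etale.comp R R₁ R₂
  exact ⟨R₂, inferInstance, inferInstance, inferInstance, p₂, inferInstance,
    Ideal.LiesOver.trans p₂ p₁ p,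
    (hasSplitting_step p₁ p₂ he h1 h2 h).of_algEquiv
      (Algebra.TensorProduct.cancelBaseChange R R₁ R₂ R₂ S)⟩

end Groth.Agent.Unr55
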