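import Groth.Agent.TopCoh49.Inst
import Groth.Agent.TopCoh49.ColimCoh
import Groth.Agent.TopCoh49.Basic2
import Groth.Agent.TopCoh49.Compare
import Groth.Agent.TopCoh49.MV
import Groth.Agent.Unr55.Et.ZarCompare
import Mathlib.Topology.LocallyConstant.Algebra
import Mathlib.Order.Zorn
import Mathlib.Data.ZMod.QuotientGroup

/-!
# A topological vanishing criterion for constant coefficients

`X` a compact quasi-separated space with a basis of compact opens. If for all closed `W₁`, `W₂` every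
locally constant function on `W₁ ∩ W₂` is a difference of one on `W₁` and one on `W₂`, then the sheaf
of locally constant functions on any closed subset has no higher cohomology.
-/

set_option autoImplicit false
universe u

open CategoryTheory Limits TopologicalSpace Opposite
open Groth.Agent.TopCoh49

namespace Groth.Agent.Unr55.GabberTop

variable {X : TopCat.{u}} (M : Type u) [AddCommGroup M]

/-- Locally constant functions on the trace of opens on a subset. -/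
noncomputable def lcPre (W : Set X) : (Opens X)ᵒᵖ ⥤ AddCommGrpCat.{u} where
  obj U := AddCommGrpCat.of (LocallyConstant ↥((U.unop : Set X) ∩ W) M)
  map i := AddCommGrpCat.ofHom (LocallyConstant.comapAddMonoidHom
    ⟨Set.inclusion (Set.inter_subset_inter_left W (leOfHom i.unop)), continuous_inclusion _⟩)
  map_id _ := rfl
  map_comp _ _ := rfl

theorem isSheaf_lcPre (W : Set X) : Presheaf.IsSheaf (Opens.grothendieckTopology X) (lcPre M W) := by
  refine (Presheaf.isSheaf_iff_isSheaf_comp _ _ (forget AddCommGrpCat.{u})).2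
    (TopCat.Presheaf.isSheaf_of_isSheafUniqueGluing_types _ fun κ U sf hsf => ?_)
  classical
  let v : ∀ (k : κ), LocallyConstant ↥((U k : Set X) ∩ W) M := sf
  have agree : ∀ (i j : κ) (x : X) (hi : x ∈ (U i : Set X) ∩ W) (hj : x ∈ (U j : Set X) ∩ W),
      v i ⟨x, hi⟩ = v j ⟨x, hj⟩ := fun i j x hi hj =>
    congrArg (fun t : LocallyConstant ↥(((U i ⊓ U j : Opens X) : Set X) ∩ W) M =>
      t ⟨x, ⟨hi.1, hj.1⟩, hi.2⟩) (hsf i j)
  have hex : ∀ x : ↥(((iSup U : Opens X) : Set X) ∩ W), ∃ k, x.1 ∈ (U k : Set X) ∩ W := fun x => by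
    obtain ⟨k, hk⟩ := Opens.mem_iSup.1 x.2.1
    exact ⟨k, hk, x.2.2⟩
  choose k hk using hex
  let val : ↥(((iSup U : Opens X) : Set X) ∩ W) → M := fun x => v (k x) ⟨x.1, hk x⟩
  have hlc : IsLocallyConstant val := by
    rw [IsLocallyConstant.iff_exists_open]
    intro x
    obtain ⟨N, hN, hxN, hconst⟩ := ((v (k x)).isLocallyConstant.exists_open ⟨x.1, hk x⟩)
    obtain ⟨N', hN', rfl⟩ := hN
    refine ⟨Subtype.val ⁻¹' (N' ∩ (U (k x) : Set X)), (hN'.inter (U (k x)).2).preimage continuous_subtype_val,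
      ⟨hxN, (hk x).1⟩, fun y hy => ?_⟩
    exact (agree (k y) (k x) y.1 (hk y) ⟨hy.2, y.2.2⟩).trans (hconst ⟨y.1, hy.2, y.2.2⟩ hy.1)
  refine ⟨(⟨val, hlc⟩ : LocallyConstant _ M), fun i => LocallyConstant.ext fun x => agree _ i x.1 _ x.2,
    fun t ht => LocallyConstant.ext fun x => ?_⟩
  exact congrArg (fun s : LocallyConstant ↥((U (k x) : Set X) ∩ W) M => s ⟨x.1, hk x⟩) (ht (k x))

/-- The sheaf of locally constant functions on a subset, extended by zero. -/
noncomputable def lc (W : Set X) : CohTop.Ab X := ⟨lcPre M W, isSheaf_lcPre M W⟩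

/-- Restriction to a smaller subset. -/
noncomputable def res {W W' : Set X} (h : W' ⊆ W) : lc M W ⟶ lc M W' :=
  ⟨{ app := fun U => AddCommGrpCat.ofHom (LocallyConstant.comapAddMonoidHom
      ⟨Set.inclusion (Set.inter_subset_inter_right (U.unop : Set X) h), continuous_inclusion _⟩)
     naturality := fun _ _ _ => rfl }⟩

/-- Evaluation of a section at a point. -/
noncomputable def evalAt {W : Set X} {U : Opens X} (s : (lc M W).obj.obj (op U)) (x : X)
    (hx : x ∈ (U : Set X) ∩ W) : M :=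
  (show LocallyConstant ↥((U : Set X) ∩ W) M from s) ⟨x, hx⟩

variable {M}

theorem ext_evalAt {W : Set X} {U : Opens X} {s t : (lc M W).obj.obj (op U)}
    (h : ∀ x hx, evalAt M s x hx = evalAt M t x hx) : s = t :=
  LocallyConstant.ext fun x => h x.1 x.2

theorem evalAt_res {W W' : Set X} (h : W' ⊆ W) {U : Opens X} (s : (lc M W).obj.obj (op U)) (x : X)
    (hx : x ∈ (U : Set X) ∩ W') :
    evalAt M ((res M h).hom.app (op U) s) x hx = evalAt M s x ⟨hx.1, h hx.2⟩ := rfl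

theorem evalAt_zero {W : Set X} {U : Opens X} (x : X) (hx : x ∈ (U : Set X) ∩ W) :
    evalAt M (0 : (lc M W).obj.obj (op U)) x hx = 0 := rfl

theorem res_comp {W W' W'' : Set X} (h : W' ⊆ W) (h' : W'' ⊆ W') :
    res M h ≫ res M h' = res M (h'.trans h) := rfl

theorem res_rfl {W : Set X} : res M (le_refl W) = 𝟙 (lc M W) := rfl

theorem isLocallySurjective_res {W W' : Set X} (h : W' ⊆ W) (hW' : IsClosed W') :
    Sheaf.IsLocallySurjective (res M h) := by
  constructor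
  intro U s
  intro x hx
  by_cases hxW : x ∈ W'
  · obtain ⟨N, hN, hxN, hconst⟩ := (show LocallyConstant ↥(((U : Opens X) : Set X) ∩ W') M from s).isLocallyConstant.exists_open ⟨x, hx, hxW⟩
    obtain ⟨N', hN', rfl⟩ := hN
    let V : Opens X := ⟨(U : Set X) ∩ N', U.2.inter hN'⟩
    refine ⟨V, homOfLE (fun y hy => hy.1), ⟨(show (lc M W).obj.obj (op V) from
      LocallyConstant.const _ (evalAt M s x ⟨hx, hxW⟩)), ext_evalAt fun y hy => ?_⟩, hx, hxN⟩
    exact (hconst ⟨y, hy.1.1, hy.2⟩ hy.1.2).symm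
  · let V : Opens X := ⟨(U : Set X) ∩ W'ᶜ, U.2.inter hW'.isOpen_compl⟩
    refine ⟨V, homOfLE (fun y hy => hy.1), ⟨(0 : (lc M W).obj.obj (op V)), ext_evalAt fun y hy => ?_⟩, hx, hxW⟩
    exact absurd hy.2 hy.1.2

theorem epi_res {W W' : Set X} (h : W' ⊆ W) (hW' : IsClosed W') : Epi (res M h) :=
  (Sheaf.isLocallySurjective_iff_epi' AddCommGrpCat.{u} _).1 (isLocallySurjective_res h hW')

/-- The kernel sequence of a restriction. -/
noncomputable abbrev kerSES {W W' : Set X} (h : W' ⊆ W) : ShortComplex (CohTop.Ab X) :=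
  ShortComplex.mk (kernel.ι (res M h)) (res M h) (kernel.condition _)

theorem kerSES_shortExact {W W' : Set X} (h : W' ⊆ W) (hW' : IsClosed W') :
    (kerSES (M := M) h).ShortExact where
  exact := ShortComplex.exact_kernel _
  epi_g := epi_res h hW'

theorem isLocallyConstant_of_two {Z : Type*} [TopologicalSpace Z] {A B : Set Z} (hA : IsClosed A)
    (hB : IsClosed B) (hAB : A ∪ B = Set.univ) {f : Z → M}
    (fA : IsLocallyConstant fun a : A => f a) (fB : IsLocallyConstant fun b : B => f b) :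
    IsLocallyConstant f := by
  rw [IsLocallyConstant.iff_exists_open]
  have key : ∀ (C : Set Z), IsClosed C → (IsLocallyConstant fun a : C => f a) → ∀ z : Z,
      ∃ O : Set Z, IsOpen O ∧ z ∈ O ∧ ∀ y ∈ O, y ∈ C → f y = f z := by
    intro C hC hf z
    by_cases hz : z ∈ C
    · obtain ⟨N, hN, hzN, hconst⟩ := hf.exists_open ⟨z, hz⟩
      obtain ⟨N', hN', rfl⟩ := hN
      exact ⟨N', hN', hzN, fun y hy hyC => hconst ⟨y, hyC⟩ hy⟩
    · exact ⟨Cᶜ, hC.isOpen_compl, hz, fun y hy hyC => absurd hyC hy⟩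
  intro z
  obtain ⟨O₁, hO₁, hz₁, h₁⟩ := key A hA fA z
  obtain ⟨O₂, hO₂, hz₂, h₂⟩ := key B hB fB z
  refine ⟨O₁ ∩ O₂, hO₁.inter hO₂, ⟨hz₁, hz₂⟩, fun y hy => ?_⟩
  rcases (hAB ▸ Set.mem_univ y : y ∈ A ∪ B) with h | h
  · exact h₁ y hy.1 h
  · exact h₂ y hy.2 h

section MV

variable {W W₁ W₂ : Set X}

/-- the sequence `0 → ker(W → W₁) → W₂ → W₁ ∩ W₂ → 0` -/
noncomputable abbrev mvSES (h₁ : W₁ ⊆ W) (h₂ : W₂ ⊆ W) : ShortComplex (CohTop.Ab X) :=
  ShortComplex.mk (kernel.ι (res M h₁) ≫ res M h₂)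
    (res M (Set.inter_subset_right : W₁ ∩ W₂ ⊆ W₂)) (by
    rw [Category.assoc, res_comp]
    rw [show res M (Set.inter_subset_right.trans h₂ : W₁ ∩ W₂ ⊆ W) =
      res M h₁ ≫ res M (Set.inter_subset_left : W₁ ∩ W₂ ⊆ W₁) from rfl, kernel.condition_assoc, zero_comp])

theorem mvSES_shortExact (h₁ : W₁ ⊆ W) (h₂ : W₂ ⊆ W) (hW₁ : IsClosed W₁) (hW₂ : IsClosed W₂)
    (hW : W ⊆ W₁ ∪ W₂) : (mvSES (M := M) h₁ h₂).ShortExact := by
  have hS := kerSES_shortExact (M := M) h₁ hW₁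
  have hfst : ∀ (U : Opens X) (a : (kernel (res M h₁)).obj.obj (op U)),
      (res M h₁).hom.app (op U) ((kernel.ι (res M h₁)).hom.app (op U) a) = 0 :=
    fun U a => app_g_f_two (kerSES h₁) U a
  have : Sheaf.IsLocallySurjective (mvSES (M := M) h₁ h₂).g :=
    isLocallySurjective_res (Set.inter_subset_right : W₁ ∩ W₂ ⊆ W₂) (hW₁.inter hW₂)
  refine ZarCmp.shortExact_of_sections _ (fun U => (injective_iff_map_eq_zero _).2 fun a ha => ?_)
    fun U y hy => ?_
  · refine (CechFl.exists_sections_preimage _ hS U 0 (map_zero _)).1 (Eq.trans ?_ (map_zero _).symm)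
    refine ext_evalAt fun x hx => ?_
    rcases hW hx.2 with h | h
    · exact congrArg (fun t => evalAt M t x ⟨hx.1, h⟩) (hfst U a)
    · exact congrArg (fun t => evalAt M t x ⟨hx.1, h⟩) ha
  · classical
    let g : LocallyConstant ↥((U : Set X) ∩ W₂) M := y
    let val : ↥((U : Set X) ∩ W) → M := fun x => if h : x.1 ∈ W₂ then g ⟨x.1, x.2.1, h⟩ else 0
    have h0 : ∀ x : ↥((U : Set X) ∩ W), x.1 ∈ W₁ → val x = 0 := fun x hx => by
      show dite _ _ _ = _
      split_ifs with h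
      · exact congrArg (fun t : (lc M (W₁ ∩ W₂)).obj.obj (op U) => evalAt M t x.1 ⟨x.2.1, hx, h⟩) hy
      · rfl
    have hlc : IsLocallyConstant val := by
      refine isLocallyConstant_of_two (hW₁.preimage continuous_subtype_val)
        (hW₂.preimage continuous_subtype_val) (Set.eq_univ_of_forall fun x => hW x.2.2) ?_ ?_
      · convert IsLocallyConstant.const (0 : M) with a
        exact h0 a.1 a.2
      · have : IsLocallyConstant fun a : (Subtype.val ⁻¹' W₂ : Set ↥((U : Set X) ∩ W)) =>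
            g ⟨a.1.1, a.1.2.1, a.2⟩ :=
          g.isLocallyConstant.comp_continuous
            ((continuous_subtype_val.comp continuous_subtype_val).subtype_mk _)
        convert this with a
        exact dif_pos a.2
    let t : (lc M W).obj.obj (op U) := (⟨val, hlc⟩ : LocallyConstant _ M)
    obtain ⟨-, a, ha⟩ := CechFl.exists_sections_preimage _ hS U t
      (ext_evalAt fun x hx => h0 ⟨x, hx.1, h₁ hx.2⟩ hx.2)
    refine ⟨a, ext_evalAt fun x hx => ?_⟩
    refine (congrArg (fun t => evalAt M t x ⟨hx.1, h₂ hx.2⟩) ha).trans ?_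
    exact dif_pos hx.2

/-- the comparison with the kernel sequence -/
noncomputable def mvMap (h₁ : W₁ ⊆ W) (h₂ : W₂ ⊆ W) : kerSES (M := M) h₁ ⟶ mvSES (M := M) h₁ h₂ where
  τ₁ := 𝟙 _
  τ₂ := res M h₂
  τ₃ := res M (Set.inter_subset_left : W₁ ∩ W₂ ⊆ W₁)
  comm₁₂ := Category.id_comp _
  comm₂₃ := rfl

end MV

section Colim

variable (M) (C : Set (Set X))

/-- the index category of a chain -/
abbrev ChainIdx : Type u := (↥C)ᵒᵈ

/-- the diagram of a chain -/
noncomputable def chainDiag : ChainIdx C ⥤ CohTop.Ab X where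
  obj W := lc M (OrderDual.ofDual W).1
  map f := res M (leOfHom f)
  map_id _ := rfl
  map_comp _ _ := rfl

/-- the cocone of a chain -/
noncomputable def chainCocone : Cocone (chainDiag M C) where
  pt := lc M (⋂₀ C)
  ι := { app := fun W => res M (Set.sInter_subset_of_mem (OrderDual.ofDual W).2)
         naturality := fun _ _ _ => rfl }

variable {M C}

theorem isFiltered_chainIdx (hC : IsChain (· ⊆ ·) C) (hne : C.Nonempty) : IsFiltered (ChainIdx C) := by
  have : Nonempty (ChainIdx C) := ⟨OrderDual.toDual ⟨_, hne.some_mem⟩⟩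
  have : IsDirectedOrder (ChainIdx C) := ⟨fun a b => by
    rcases hC.total (OrderDual.ofDual a).2 (OrderDual.ofDual b).2 with h | h
    · exact ⟨a, le_refl a, h⟩
    · exact ⟨b, h, le_refl b⟩⟩
  exact inferInstance

variable [PrespectralSpace X] [QuasiSeparatedSpace X]

theorem isIso_desc (hC : IsChain (· ⊆ ·) C) (hne : C.Nonempty) (hcl : ∀ W ∈ C, IsClosed W) :
    IsIso (colimit.desc (chainDiag M C) (chainCocone M C)) := by
  classical
  have := isFiltered_chainIdx hC hne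
  let i₀ : ChainIdx C := OrderDual.toDual ⟨_, hne.some_mem⟩
  set d := colimit.desc (chainDiag M C) (chainCocone M C)
  have hd : ∀ i, colimit.ι (chainDiag M C) i ≫ d = (chainCocone M C).ι.app i := fun i => colimit.ι_desc _ _
  have : Epi d := by
    have : Epi (colimit.ι (chainDiag M C) i₀ ≫ d) := by
      rw [hd]; exact epi_res (Set.sInter_subset_of_mem (OrderDual.ofDual i₀).2) (isClosed_sInter hcl)
    exact epi_of_epi (colimit.ι (chainDiag M C) i₀) d
  have key : ∀ (U : Opens X), IsCompact (U : Set X) → ∀ s, d.hom.app (op U) s = 0 → s = 0 := by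
    intro U hU s hs
    obtain ⟨i, t, rfl⟩ := colim_sec_surjective (colimit.isColimit (chainDiag M C)) hU s
    let Wi := (OrderDual.ofDual i).1
    let g : LocallyConstant ↥((U : Set X) ∩ Wi) M := t
    have h0 : ∀ x (hx : x ∈ (U : Set X) ∩ ⋂₀ C),
        g ⟨x, hx.1, Set.sInter_subset_of_mem (OrderDual.ofDual i).2 hx.2⟩ = 0 := fun x hx => by
      have h := congrArg (fun φ : lc M Wi ⟶ (chainCocone M C).pt => φ.hom.app (op U) t) (hd i)
      exact congrArg (fun z => evalAt M z x hx) (h.symm.trans hs)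
    let bad : Set X := Subtype.val '' {y : ↥((U : Set X) ∩ Wi) | g y ≠ 0}
    have hbadcl : IsClosed {y : ↥((U : Set X) ∩ Wi) | g y ≠ 0} :=
      (g.isLocallyConstant.isClopen_fiber (0 : M)).compl.1
    have hbadc : IsCompact bad := by
      have : CompactSpace ↥((U : Set X) ∩ Wi) :=
        isCompact_iff_compactSpace.1 (hU.inter_right (hcl _ (OrderDual.ofDual i).2))
      exact hbadcl.isCompact.image continuous_subtype_val
    have hinter : bad ∩ (⋂ j : ChainIdx C, (OrderDual.ofDual j).1) = ∅ := by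
      refine Set.eq_empty_of_forall_notMem fun x ⟨⟨y, hy, hyx⟩, hx⟩ => hy ?_
      subst hyx
      refine h0 y.1 ⟨y.2.1, fun W hW => ?_⟩
      exact Set.mem_iInter.1 hx (OrderDual.toDual ⟨W, hW⟩)
    have : Nonempty (ChainIdx C) := ⟨i⟩
    obtain ⟨j, hj⟩ := hbadc.elim_directed_family_closed (fun j : ChainIdx C => (OrderDual.ofDual j).1)
      (fun j => hcl _ (OrderDual.ofDual j).2) hinter (fun a b => by
        rcases hC.total (OrderDual.ofDual a).2 (OrderDual.ofDual b).2 with h | h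
        · exact ⟨a, subset_rfl, h⟩
        · exact ⟨b, h, subset_rfl⟩)
    let k : ChainIdx C := IsFiltered.max i j
    let fi : i ⟶ k := IsFiltered.leftToMax i j
    let fj : j ⟶ k := IsFiltered.rightToMax i j
    rw [← cι_ctr (colimit.cocone (chainDiag M C)) fi U t]
    have : ctr (chainDiag M C) fi U t = 0 := ext_evalAt fun x hx => by
      by_contra hne'
      exact Set.eq_empty_iff_forall_notMem.1 hj x
        ⟨⟨⟨x, hx.1, leOfHom fi hx.2⟩, hne', rfl⟩, leOfHom fj hx.2⟩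
    rw [this, map_zero]
  have : Mono d := by
    have : ∀ U, Mono (d.hom.app U) := fun U => (AddCommGrpCat.mono_iff_injective _).2
      ((injective_iff_map_eq_zero _).2 fun s hs => by
        obtain ⟨U⟩ := U
        let Q := {V : Opens X // IsCompact (V : Set X) ∧ V ≤ U}
        refine eq_of_forall_rs_eq _ (V := fun V : Q => V.1) (fun V => V.2.2) (fun x hx => ?_) fun V => ?_
        · obtain ⟨V, hV, hxV, hVU⟩ := Opens.isBasis_iff_nbhd.1 (PrespectralSpace.isBasis_opens X) hx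
          exact Opens.mem_iSup.2 ⟨⟨V, hV, hVU⟩, hxV⟩
        · rw [map_zero]
          refine key V.1 V.2.1 _ ?_
          refine (NatTrans.naturality_apply d.hom (homOfLE V.2.2).op s).trans ?_
          rw [hs, map_zero])
    have : Mono d.hom := NatTrans.mono_of_mono_app _
    exact (sheafToPresheaf _ _).mono_of_mono_map this
  exact isIso_of_mono_of_epi d

theorem exists_kill (hC : IsChain (· ⊆ ·) C) (hne : C.Nonempty) (hcl : ∀ W ∈ C, IsClosed W)
    [CompactSpace X] (q : ℕ) (i : ChainIdx C) (x : E (lc M (OrderDual.ofDual i).1) q ⊤)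
    (hx : emap (res M (Set.sInter_subset_of_mem (OrderDual.ofDual i).2)) q ⊤ x = 0) :
    ∃ (W : Set X) (_ : W ∈ C) (h : W ⊆ (OrderDual.ofDual i).1), emap (res M h) q ⊤ x = 0 := by
  have := isFiltered_chainIdx hC hne
  let d : colimit (chainDiag M C) ⟶ lc M (⋂₀ C) := colimit.desc (chainDiag M C) (chainCocone M C)
  have : IsIso d := isIso_desc (M := M) hC hne hcl
  have h0 : emap (colimit.ι (chainDiag M C) i) q ⊤ x = 0 := by
    have h1 : colimit.ι (chainDiag M C) i =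
        res M (Set.sInter_subset_of_mem (OrderDual.ofDual i).2) ≫ inv d := by
      exact (IsIso.eq_comp_inv d).2 (colimit.ι_desc _ _)
    refine (congrArg (fun φ : lc M (OrderDual.ofDual i).1 ⟶ colimit (chainDiag M C) => emap φ q ⊤ x) h1).trans ?_
    exact (emap_emap (res M (Set.sInter_subset_of_mem (OrderDual.ofDual i).2)) (inv d) q ⊤ x).symm.trans
      ((congrArg _ hx).trans (map_zero _))
  obtain ⟨j, f, hf⟩ := (colim_E (U := (⊤ : Opens X)) (by simpa using isCompact_univ) q (chainDiag M C)).2 i x h0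
  exact ⟨_, (OrderDual.ofDual j).2, leOfHom f, hf⟩

end Colim

theorem isFlasque_lc {W : Set X} (hW : IsPreirreducible W) : TopCat.Sheaf.IsFlasque (lc M W) where
  epi {U V} i := by
    rw [AddCommGrpCat.epi_iff_surjective]
    intro s
    classical
    let g : LocallyConstant ↥((V.unop : Set X) ∩ W) M := s
    by_cases hne : ((V.unop : Set X) ∩ W).Nonempty
    · obtain ⟨x, hx⟩ := hne
      refine ⟨(show (lc M W).obj.obj U from LocallyConstant.const _ (g ⟨x, hx⟩)), ext_evalAt fun y hy => ?_⟩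
      show g ⟨x, hx⟩ = g ⟨y, hy⟩
      by_contra hne'
      obtain ⟨A, hA, hA'⟩ := g.isLocallyConstant.isOpen_fiber (g ⟨x, hx⟩)
      obtain ⟨B, hB, hB'⟩ := g.isLocallyConstant.isOpen_fiber (g ⟨y, hy⟩)
      obtain ⟨z, hzW, hz₁, hz₂⟩ := hW _ _ (hA.inter V.unop.2) (hB.inter V.unop.2)
        ⟨x, hx.2, hA'.ge rfl, hx.1⟩ ⟨y, hy.2, hB'.ge rfl, hy.1⟩
      have h1 : g ⟨z, hz₁.2, hzW⟩ = g ⟨x, hx⟩ := hA'.le hz₁.1
      have h2 : g ⟨z, hz₁.2, hzW⟩ = g ⟨y, hy⟩ := hB'.le hz₂.1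
      exact hne' (h1.symm.trans h2)
    · exact ⟨0, ext_evalAt fun y hy => absurd ⟨y, hy⟩ hne⟩

/-- the splitting hypothesis -/
def SplitLC (M : Type u) [AddCommGroup M] (X : TopCat.{u}) : Prop :=
  ∀ W₁ W₂ : Set X, IsClosed W₁ → IsClosed W₂ → ∀ f : LocallyConstant ↥(W₁ ∩ W₂) M,
    ∃ (f₁ : LocallyConstant ↥W₁ M) (f₂ : LocallyConstant ↥W₂ M),
      ∀ (x : X) (hx : x ∈ W₁ ∩ W₂), f ⟨x, hx⟩ = f₁ ⟨x, hx.1⟩ - f₂ ⟨x, hx.2⟩

/-- The vanishing theorem. -/
theorem subsingleton_E_lc [PrespectralSpace X] [QuasiSeparatedSpace X] [CompactSpace X]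
    (hsplit : SplitLC M X) : ∀ (q : ℕ) (W : Set X), IsClosed W → Subsingleton (E (lc M W) (q + 1) ⊤) := by
  intro q
  induction q using Nat.strong_induction_on with
  | _ q ih =>
  intro W hW
  refine subsingleton_of_forall_eq 0 fun ξ => ?_
  by_contra hξ
  let S : Set (Set X) := {W' | IsClosed W' ∧ ∃ h : W' ⊆ W, emap (res M h) (q + 1) ⊤ ξ ≠ 0}
  obtain ⟨Wm, hWmW, hWm⟩ := zorn_superset_nonempty S (fun C hCS hC hne => by
    refine ⟨⋂₀ C, ⟨isClosed_sInter fun V hV => (hCS hV).1, ?_⟩, fun V hV => Set.sInter_subset_of_mem hV⟩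
    obtain ⟨V₀, hV₀⟩ := hne
    obtain ⟨hV₀W, -⟩ := (hCS hV₀).2
    refine ⟨(Set.sInter_subset_of_mem hV₀).trans hV₀W, fun h0 => ?_⟩
    obtain ⟨V, hV, hVV₀, hkill⟩ := exists_kill (M := M) hC ⟨V₀, hV₀⟩ (fun V hV => (hCS hV).1) (q + 1)
      (OrderDual.toDual ⟨V₀, hV₀⟩) (emap (res M hV₀W) (q + 1) ⊤ ξ)
      ((emap_emap (res M hV₀W) (res M (Set.sInter_subset_of_mem hV₀)) (q + 1) ⊤ ξ).trans h0)
    obtain ⟨hVW, hne'⟩ := (hCS hV).2
    exact hne' ((emap_emap (res M hV₀W) (res M hVV₀) (q + 1) ⊤ ξ).symm.trans hkill)) W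
      ⟨hW, le_rfl, by rw [res_rfl]; simpa [emap] using hξ⟩
  obtain ⟨hWmcl, hsub, hne⟩ := hWm.1
  by_cases hirr : IsPreirreducible Wm
  · have := isFlasque_lc (M := M) hirr
    exact hne ((subsingleton_E_of_isFlasque q (lc M Wm) ⊤).elim _ _)
  rw [isPreirreducible_iff_isClosed_union_isClosed] at hirr
  push Not at hirr
  obtain ⟨z₁, z₂, hz₁, hz₂, hcov, hn₁, hn₂⟩ := hirr
  let W₁ := Wm ∩ z₁
  let W₂ := Wm ∩ z₂
  have hW₁ : IsClosed W₁ := hWmcl.inter hz₁
  have hW₂ : IsClosed W₂ := hWmcl.inter hz₂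
  have h₁ : W₁ ⊆ Wm := Set.inter_subset_left
  have h₂ : W₂ ⊆ Wm := Set.inter_subset_left
  have hcov' : Wm ⊆ W₁ ∪ W₂ := fun x hx => (hcov hx).imp (fun h => ⟨hx, h⟩) fun h => ⟨hx, h⟩
  set η := emap (res M hsub) (q + 1) ⊤ ξ
  have hmin : ∀ (W' : Set X) (hW' : IsClosed W') (h : W' ⊆ Wm), ¬ Wm ⊆ W' →
      emap (res M h) (q + 1) ⊤ η = 0 := fun W' hW' h hn => by
    by_contra hne'
    exact hn (hWm.2 ⟨hW', h.trans hsub, fun h0 => hne' ((emap_emap _ _ _ _ _).trans h0)⟩ h)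
  have hη₁ := hmin W₁ hW₁ h₁ fun h => hn₁ fun x hx => (h hx).2
  have hη₂ := hmin W₂ hW₂ h₂ fun h => hn₂ fun x hx => (h hx).2
  have hS := kerSES_shortExact (M := M) h₁ hW₁
  have hT := mvSES_shortExact (M := M) h₁ h₂ hW₁ hW₂ hcov'
  obtain ⟨a, ha⟩ := exact₂ hS (q + 1) ⊤ η hη₁
  obtain ⟨c, hc⟩ := exact₁ hT (rfl : q + 1 = q + 1) ⊤ a (by
    rw [← emap_emap]; exact (congrArg _ ha).trans hη₂)
  suffices ∃ b : E (lc M W₁) q ⊤, δ hT rfl ⊤ (emap (res M (Set.inter_subset_left : W₁ ∩ W₂ ⊆ W₁)) q ⊤ b) = a by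
    obtain ⟨b, hb⟩ := this
    have h3 : δ hT rfl ⊤ (emap (mvMap (M := M) h₁ h₂).τ₃ q ⊤ b) = δ hS rfl ⊤ b := by
      rw [← emap_δ hS hT (mvMap (M := M) h₁ h₂) rfl ⊤ b]
      show emap (𝟙 _) (q + 1) ⊤ _ = _
      simp [emap]
    apply hne
    show η = 0
    rw [← ha, ← hb]
    exact (congrArg _ h3).trans (emap_f_δ hS rfl ⊤ b)
  cases q with
  | succ p =>
    refine ⟨0, ?_⟩
    rw [map_zero, map_zero, ← hc]
    have := ih p (Nat.lt_succ_self p) (W₁ ∩ W₂) (hW₁.inter hW₂)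
    rw [Subsingleton.elim c 0, map_zero]
  | zero =>
    let g : LocallyConstant ↥(((⊤ : Opens X) : Set X) ∩ (W₁ ∩ W₂)) M := E₀ _ ⊤ c
    let toTop : ∀ (V : Set X), LocallyConstant ↥V M → (lc M V).obj.obj (op ⊤) := fun V f =>
      LocallyConstant.comap ⟨fun x : ↥(((⊤ : Opens X) : Set X) ∩ V) => (⟨x.1, x.2.2⟩ : V),
        continuous_subtype_val.subtype_mk _⟩ f
    obtain ⟨f₁, f₂, hf⟩ := hsplit W₁ W₂ hW₁ hW₂
      (LocallyConstant.comap ⟨fun x => (⟨x.1, trivial, x.2⟩ : ↥(((⊤ : Opens X) : Set X) ∩ (W₁ ∩ W₂))),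
        continuous_subtype_val.subtype_mk _⟩ g)
    let b₁ := (E₀ (lc M W₁) ⊤).symm (toTop W₁ f₁)
    let b₂ := (E₀ (lc M W₂) ⊤).symm (toTop W₂ f₂)
    refine ⟨b₁, ?_⟩
    have hc' : c = emap (res M (Set.inter_subset_left : W₁ ∩ W₂ ⊆ W₁)) 0 ⊤ b₁ -
        emap (res M (Set.inter_subset_right : W₁ ∩ W₂ ⊆ W₂)) 0 ⊤ b₂ := by
      apply (E₀ _ ⊤).injective
      rw [map_sub, E₀_emap, E₀_emap, AddEquiv.apply_symm_apply, AddEquiv.apply_symm_apply]
      exact ext_evalAt fun x hx => hf x hx.2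
    rw [← hc, hc', map_sub]
    exact (sub_eq_self.2 (δ_emap_g hT rfl ⊤ b₂)).symm

/-- splitting of all locally constant functions from the cyclic case -/
theorem splitLC_of_clopen [Finite M] [CompactSpace X]
    (h : ∀ (n : ℕ), 0 < n → ∀ W₁ W₂ : Set X, IsClosed W₁ → IsClosed W₂ → ∀ C : Set ↥(W₁ ∩ W₂), IsClopen C →
      ∃ (k₁ : LocallyConstant ↥W₁ (ZMod n)) (k₂ : LocallyConstant ↥W₂ (ZMod n)),
        ∀ (x : X) (hx : x ∈ W₁ ∩ W₂), (⟨x, hx⟩ ∈ C → k₁ ⟨x, hx.1⟩ - k₂ ⟨x, hx.2⟩ = 1) ∧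
          (⟨x, hx⟩ ∉ C → k₁ ⟨x, hx.1⟩ - k₂ ⟨x, hx.2⟩ = 0)) :
    SplitLC M X := by
  classical
  have := Fintype.ofFinite M
  intro W₁ W₂ hW₁ hW₂ f
  choose k₁ k₂ hk using fun m : M => h (addOrderOf m) (addOrderOf_pos m) W₁ W₂ hW₁ hW₂
    (f ⁻¹' {m}) (f.isLocallyConstant.isClopen_fiber m)
  let ψ : ∀ m : M, ZMod (addOrderOf m) →+ M := fun m =>
    ZMod.lift (addOrderOf m) ⟨(zmultiplesHom M m), by simp [addOrderOf_nsmul_eq_zero]⟩
  have hψ : ∀ m, ψ m 1 = m := fun m => by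
    show ZMod.lift _ _ 1 = m
    rw [show (1 : ZMod (addOrderOf m)) = ((1 : ℤ) : ZMod (addOrderOf m)) from Int.cast_one.symm,
      ZMod.lift_coe]
    simp
  refine ⟨∑ m : M, (k₁ m).map (ψ m), ∑ m : M, (k₂ m).map (ψ m), fun x hx => ?_⟩
  let ev₁ : LocallyConstant ↥W₁ M →+ M :=
    { toFun := fun t => t ⟨x, hx.1⟩, map_zero' := rfl, map_add' := fun _ _ => rfl }
  let ev₂ : LocallyConstant ↥W₂ M →+ M :=
    { toFun := fun t => t ⟨x, hx.2⟩, map_zero' := rfl, map_add' := fun _ _ => rfl }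
  show _ = ev₁ _ - ev₂ _
  rw [map_sum, map_sum, ← Finset.sum_sub_distrib]
  rw [Finset.sum_eq_single (f ⟨x, hx⟩)]
  · show _ = ψ _ (k₁ _ _) - ψ _ (k₂ _ _)
    rw [← map_sub, (hk _ x hx).1 rfl, hψ]
  · intro m _ hm
    show ψ _ (k₁ _ _) - ψ _ (k₂ _ _) = 0
    rw [← map_sub, (hk m x hx).2 (fun h' => hm h'.symm), map_zero]
  · exact fun h => absurd (Finset.mem_univ _) h

end Groth.Agent.Unr55.GabberTop
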